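import Cfsg.Agent.Lib.Classical.Quad.Eichler

/-!
# Vectors orthogonal to small subspaces
-/

set_option autoImplicit false
set_option linter.unusedSectionVars false

namespace CfsgLib.Known.SpinMinus

noncomputable section

open QuadraticMap CfsgLib.Classical.Quad

variable {F : Type*} [Field F] {V : Type*} [AddCommGroup V] [Module F V]

/-- the orthogonal of a subspace -/
def orth (Q : QuadraticForm F V) (S : Submodule F V) : Submodule F V :=
  LinearMap.BilinForm.orthogonal (polarBilin Q) S

variable {Q : QuadraticForm F V}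

theorem mem_orth {S : Submodule F V} {v : V} : v ∈ orth Q S ↔ ∀ u ∈ S, polar Q u v = 0 := Iff.rfl

theorem mem_orth_span {s : Set V} {v : V} :
    v ∈ orth Q (Submodule.span F s) ↔ ∀ u ∈ s, polar Q u v = 0 := by
  refine ⟨fun h u hu => h u (Submodule.subset_span hu), fun h u hu => ?_⟩
  have hle : Submodule.span F s ≤ LinearMap.ker ((polarBilin Q).flip v) :=
    Submodule.span_le.2 fun x hx => by
      show polar Q x v = 0
      exact h x hx
  exact hle hu

variable [FiniteDimensional F V] (hQ : (polarBilin Q).Nondegenerate)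
include hQ

theorem finrank_orth (S : Submodule F V) :
    Module.finrank F (orth Q S) + Module.finrank F S = Module.finrank F V := by
  have h := LinearMap.BilinForm.finrank_orthogonal hQ S
  have h2 := Submodule.finrank_le S
  rw [orth]
  omega

theorem orth_orth (S : Submodule F V) : orth Q (orth Q S) = S :=
  LinearMap.BilinForm.orthogonal_orthogonal hQ (fun a b h => by
    show polar Q b a = 0
    rw [polar_comm]; exact h) S

/-- a non-orthogonal pair in an orthogonal -/
theorem exists_one_perp (S : Submodule F V)
    (h : Module.finrank F S + Module.finrank F (S ⊓ orth Q S : Submodule F V) < Module.finrank F V) :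
    ∃ v u, v ∈ orth Q S ∧ u ∈ orth Q S ∧ polar Q v u = 1 := by
  by_contra hc
  push Not at hc
  have hle : orth Q S ≤ S ⊓ orth Q S := fun v hv => by
    refine ⟨?_, hv⟩
    rw [SetLike.mem_coe, ← orth_orth hQ S, mem_orth]
    intro u hu
    by_contra h0
    exact hc u ((polar Q u v)⁻¹ • v) hu ((orth Q S).smul_mem _ hv) (by rw [polar_smul_right', inv_mul_cancel₀ h0])
  have h1 := Submodule.finrank_mono hle
  have h2 := finrank_orth hQ S
  omega

/-- a complement of the radical in an orthogonal -/
theorem exists_core (S : Submodule F V) : ∃ K : Submodule F V, K ≤ orth Q S ∧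
    (polarBilin (Q.comp K.subtype)).Nondegenerate ∧
    Module.finrank F V = Module.finrank F K + Module.finrank F (S ⊓ orth Q S : Submodule F V) +
      Module.finrank F S := by
  obtain ⟨O, hO⟩ : ∃ O, O = orth Q S := ⟨_, rfl⟩
  obtain ⟨C, hC⟩ := Submodule.exists_isCompl (S.comap O.subtype)
  obtain ⟨K, hK⟩ : ∃ K, K = C.map O.subtype := ⟨_, rfl⟩
  have hKO : K ≤ O := hK ▸ Submodule.map_subtype_le _ _
  refine ⟨K, hO ▸ hKO, ?_, ?_⟩
  · have key : ∀ x : K, (∀ y : K, polar Q (x : V) y = 0) → x = 0 := by
      intro x hx
      obtain ⟨c, hc, hcx⟩ : (x : V) ∈ C.map O.subtype := hK ▸ x.2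
      have hxS : (x : V) ∈ S := by
        rw [← orth_orth hQ S, mem_orth]
        intro z hz
        obtain ⟨r, k, hr, hk, e⟩ :=
          Submodule.codisjoint_iff_exists_add_eq.1 hC.codisjoint (⟨z, hO ▸ hz⟩ : O)
        have e' : (r : V) + (k : V) = z := congrArg Subtype.val e
        have hxO : (x : V) ∈ orth Q S := hO ▸ hKO x.2
        rw [← e', polar_add_left', show polar Q (r : V) x = 0 from hxO _ (show (r : V) ∈ S from hr), zero_add, polar_comm, hx ⟨(k : V), hK ▸ ⟨k, hk, rfl⟩⟩]
      rw [← hcx] at hxS
      refine Subtype.ext ?_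
      rw [← hcx, Submodule.disjoint_def.1 hC.disjoint c hxS hc, map_zero]
      rfl
    have hp : ∀ x y : K, polar (Q.comp K.subtype) x y = polar Q (x : V) y := fun x y => by
      simp only [polar, QuadraticMap.comp_apply, Submodule.subtype_apply, Submodule.coe_add]
    exact ⟨fun x hx => key x fun y => by rw [← hp]; exact hx y,
      fun x hx => key x fun y => by rw [← hp, polar_comm]; exact hx y⟩
  · have h1 := Submodule.finrank_sup_add_finrank_inf_eq (S.comap O.subtype) C
    rw [hC.sup_eq_top, hC.inf_eq_bot, finrank_bot, finrank_top] at h1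
    have h2 : Module.finrank F (S.comap O.subtype) = Module.finrank F (S ⊓ orth Q S : Submodule F V) := by
      rw [← hO, inf_comm, ← Submodule.map_comap_subtype O S, Submodule.finrank_map_subtype_eq]
    have h3 : Module.finrank F K = Module.finrank F C := by rw [hK, Submodule.finrank_map_subtype_eq]
    have h4 := finrank_orth hQ S
    rw [← hO] at h4
    omega

variable [Finite F]

/-- a hyperbolic pair in an orthogonal -/
theorem exists_pair_perp (S : Submodule F V)
    (h : Module.finrank F S + Module.finrank F (S ⊓ orth Q S : Submodule F V) + 3 ≤ Module.finrank F V) :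
    ∃ x y, x ∈ orth Q S ∧ y ∈ orth Q S ∧ Q x = 0 ∧ Q y = 0 ∧ polar Q x y = 1 := by
  obtain ⟨K, hK, hn, hd⟩ := exists_core hQ S
  obtain ⟨x, hx0, hx⟩ := exists_singular hn (by omega)
  obtain ⟨y, hy, hxy⟩ := exists_partner_of_singular hn hx hx0
  refine ⟨x, y, hK x.2, hK y.2, hx, hy, ?_⟩
  rw [← hxy]
  simp only [polar, QuadraticMap.comp_apply, Submodule.subtype_apply, Submodule.coe_add]

/-- orthogonal vectors of every value -/
theorem exists_value_perp (S : Submodule F V) (a : V)
    (h : Module.finrank F S + Module.finrank F (S ⊓ orth Q S : Submodule F V) + 2 ≤ Module.finrank F V) :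
    ∃ s ∈ orth Q S, Q (a + s) = 0 := by
  obtain ⟨K, hK, hn, hd⟩ := exists_core hQ S
  obtain ⟨k, hk⟩ : ∃ k : K, ∀ y : K, polar Q (k : V) y = polar Q a y := by
    have : FiniteDimensional F K := inferInstance
    refine ⟨(LinearMap.BilinForm.toDual _ hn).symm ((polarBilin Q a).comp K.subtype), fun y => ?_⟩
    have e := LinearMap.BilinForm.apply_toDual_symm_apply (hB := hn) ((polarBilin Q a).comp K.subtype) y
    rw [QuadraticMap.polarBilin_apply_apply] at e
    simp only [polar, QuadraticMap.comp_apply, Submodule.subtype_apply, Submodule.coe_add, LinearMap.comp_apply,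
      QuadraticMap.polarBilin_apply_apply] at e ⊢
    exact e
  obtain ⟨v, hv⟩ : ∃ v : K, Q (v : V) = Q (k : V) - Q a := by
    by_cases hc : Q (k : V) - Q a = 0
    · exact ⟨0, by rw [hc, Submodule.coe_zero, QuadraticMap.map_zero]⟩
    · obtain ⟨v, hv⟩ := exists_apply_eq hn (by omega) hc
      exact ⟨v, hv⟩
  refine ⟨(v : V) - k, (orth Q S).sub_mem (hK v.2) (hK k.2), ?_⟩
  rw [apply_add, sub_eq_add_neg, apply_add, polar_add_right', QuadraticMap.map_neg, polar_neg_right,
    polar_neg_right, hv, polar_comm (⇑Q) (v : V) k, hk v, ← hk k, polar_self']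
  ring

/-- a third vector of a plane through a hyperbolic pair -/
theorem sing_decomp {u u' : V} (hu : Q u = 0) (hu' : Q u' = 0) (h : polar Q u u' = 1) (z : V) :
    ∃ s t : F, ∃ r, Q r = 0 ∧ z = s • u + t • u' + r := by
  obtain ⟨r, hr⟩ : ∃ r, r = z + (-polar Q z u') • u + (-polar Q z u) • u' := ⟨_, rfl⟩
  have hru : polar Q r u = 0 := by
    simp only [hr, polar_add_left', polar_smul_left', polar_self', hu, polar_comm (⇑Q) u' u, h]
    ring
  have hru' : polar Q r u' = 0 := by
    simp only [hr, polar_add_left', polar_smul_left', polar_self', hu', h]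
    ring
  refine ⟨polar Q z u' + Q r, polar Q z u - 1, r + (u' + (-Q r) • u), ?_, ?_⟩
  · simp only [apply_add, apply_smul, polar_add_right', polar_smul_right', hu', hu, polar_comm (⇑Q) u' u, h, hru,
      hru']
    ring
  · rw [hr]; module

omit [Finite F] in
theorem finrank_span_two (a b : V) : Module.finrank F (Submodule.span F ({a, b} : Set V)) ≤ 2 := by
  classical
  have := finrank_span_finset_le_card (R := F) ({a, b} : Finset V)
  rw [Finset.coe_pair] at this
  exact this.trans Finset.card_le_two

omit [Finite F] in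
theorem finrank_span_three (a b c : V) : Module.finrank F (Submodule.span F ({a, b, c} : Set V)) ≤ 3 := by
  classical
  have := finrank_span_finset_le_card (R := F) ({a, b, c} : Finset V)
  simp only [Finset.coe_insert, Finset.coe_singleton] at this
  exact this.trans Finset.card_le_three

omit [Finite F] in
theorem finrank_span_four (a b c d : V) : Module.finrank F (Submodule.span F ({a, b, c, d} : Set V)) ≤ 4 := by
  classical
  have := finrank_span_finset_le_card (R := F) ({a, b, c, d} : Finset V)
  simp only [Finset.coe_insert, Finset.coe_singleton] at this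
  exact this.trans ((Finset.card_insert_le _ _).trans (Nat.succ_le_succ Finset.card_le_three))

omit [Finite F] in
/-- the radical of a span containing a hyperbolic pair -/
theorem rad_le {e f : V} (he : Q e = 0) (hf : Q f = 0) (hef : polar Q e f = 1) {s : Set V} {T : Submodule F V}
    (hs : ∀ u ∈ s, polar Q e u = 0 ∧ polar Q f u = 0) (hT : Submodule.span F s ≤ T) :
    Submodule.span F (insert e (insert f s)) ⊓ orth Q (Submodule.span F (insert e (insert f s))) ≤ T := by
  rintro z ⟨hz, hz'⟩
  rw [SetLike.mem_coe, Submodule.mem_span_insert] at hz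
  obtain ⟨c, w, hw, rfl⟩ := hz
  rw [Submodule.mem_span_insert] at hw
  obtain ⟨d, r, hr, rfl⟩ := hw
  have her : ∀ g : V, (∀ u ∈ s, polar Q g u = 0) → polar Q g r = 0 := fun g hg => by
    have hle : Submodule.span F s ≤ LinearMap.ker (polarBilin Q g) :=
      Submodule.span_le.2 fun x hx => by
        show polar Q g x = 0
        exact hg x hx
    exact hle hr
  have h1 := hz' e (Submodule.subset_span (Set.mem_insert _ _))
  have h2 := hz' f (Submodule.subset_span (Set.mem_insert_of_mem _ (Set.mem_insert _ _)))
  change polar Q e _ = 0 at h1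
  change polar Q f _ = 0 at h2
  simp only [polar_add_right', polar_smul_right', polar_self', he, hf, hef, polar_comm (⇑Q) f e,
    her e (fun u hu => (hs u hu).1), her f (fun u hu => (hs u hu).2)] at h1 h2
  ring_nf at h1 h2
  rw [h1, h2, zero_smul, zero_smul, zero_add, zero_add]
  exact hT hr

end

end CfsgLib.Known.SpinMinus
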