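import Cfsg.Agent.Lib.Known.SpinMinus.Sheet
import Cfsg.Agent.Lib.Known.SpinMult.Main

/-!
# Lifts on a split six-dimensional subspace
-/

set_option autoImplicit false
set_option linter.unusedSectionVars false

namespace CfsgLib.Known.SpinMinus

noncomputable section

section Parts

universe u v

/-- reduction of a kernel to its `p`-part -/
theorem isPGroup_ker {G : Type u} [Group G] (p : ℕ) [hp : Fact p.Prime]
    (h1 : ∀ (Γ : Type v) [Group Γ] [Finite Γ] (π : Γ →* G), Cfsg.IsStemExtension π →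
      p.Coprime (Nat.card π.ker) → π.ker = ⊥)
    {Γ : Type v} [Group Γ] [Finite Γ] (π : Γ →* G) (hσ : Cfsg.IsStemExtension π) : IsPGroup p π.ker := by
  obtain ⟨hs, hc, hd⟩ := hσ
  obtain ⟨P⟩ : Nonempty (Sylow p π.ker) := inferInstance
  obtain ⟨Q, hQ⟩ : ∃ Q : Subgroup Γ, Q = (P : Subgroup π.ker).map π.ker.subtype := ⟨_, rfl⟩
  have hQk : Q ≤ π.ker := hQ ▸ Subgroup.map_subtype_le _
  have : Q.Normal := ⟨fun x hx g => by
    rwa [Subgroup.mem_center_iff.1 (hc (hQk hx)) g, mul_inv_cancel_right]⟩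
  obtain ⟨σ, hσ⟩ : ∃ σ : Γ ⧸ Q →* G, ∀ g, σ (QuotientGroup.mk' Q g) = π g :=
    ⟨QuotientGroup.lift Q π hQk, fun g => rfl⟩
  have hker : ∀ g, QuotientGroup.mk' Q g ∈ σ.ker ↔ g ∈ π.ker := fun g => by
    rw [MonoidHom.mem_ker, hσ, MonoidHom.mem_ker]
  have hst : Cfsg.IsStemExtension σ := by
    refine ⟨fun x => ?_, fun x hx => ?_, fun x hx => ?_⟩
    · obtain ⟨g, rfl⟩ := hs x; exact ⟨_, hσ g⟩
    · obtain ⟨g, rfl⟩ := QuotientGroup.mk'_surjective Q x
      rw [Subgroup.mem_center_iff]
      intro y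
      obtain ⟨h, rfl⟩ := QuotientGroup.mk'_surjective Q y
      rw [← map_mul, ← map_mul, Subgroup.mem_center_iff.1 (hc ((hker g).1 hx)) h]
    · obtain ⟨g, rfl⟩ := QuotientGroup.mk'_surjective Q x
      have h3 : (commutator Γ).map (QuotientGroup.mk' Q) ≤ commutator (Γ ⧸ Q) := by
        rw [commutator_def, commutator_def, Subgroup.map_commutator]
        exact Subgroup.commutator_mono le_top le_top
      exact h3 ⟨g, hd ((hker g).1 hx), rfl⟩
  have hb : σ.ker = ⊥ := h1 (Γ ⧸ Q) σ hst (by
    let f : π.ker →* σ.ker :=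
      { toFun := fun z => ⟨QuotientGroup.mk' Q z, (hker z).2 z.2⟩
        map_one' := Subtype.ext (map_one (QuotientGroup.mk' Q))
        map_mul' := fun a b => Subtype.ext (map_mul (QuotientGroup.mk' Q) _ _) }
    have hf : Function.Surjective f := fun x => by
      obtain ⟨g, hg⟩ := QuotientGroup.mk'_surjective Q x.1
      exact ⟨⟨g, (hker g).1 (hg ▸ x.2)⟩, Subtype.ext hg⟩
    have hfk : (P : Subgroup π.ker) = f.ker := by
      ext z
      rw [MonoidHom.mem_ker, Subtype.ext_iff]
      show z ∈ (P : Subgroup π.ker) ↔ QuotientGroup.mk' Q (z : Γ) = 1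
      rw [← MonoidHom.mem_ker, QuotientGroup.ker_mk', hQ]
      exact (Subgroup.mem_map_iff_mem (Subgroup.subtype_injective _) (K := (P : Subgroup π.ker))).symm
    rw [← Nat.card_congr (QuotientGroup.quotientKerEquivOfSurjective f hf).toEquiv, ← hfk]
    have : (P : Subgroup π.ker).Normal := ⟨fun x hx g => by
      rwa [show g * x = x * g from Subtype.ext (Subgroup.mem_center_iff.1 (hc x.2) g), mul_inv_cancel_right]⟩
    rw [← Subgroup.index_eq_card]
    exact hp.out.coprime_iff_not_dvd.2 P.not_dvd_index)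
  have hle : π.ker ≤ Q := fun g hg => by
    have := (hker g).2 hg
    rwa [hb, Subgroup.mem_bot, ← MonoidHom.mem_ker, QuotientGroup.ker_mk'] at this
  intro z
  obtain ⟨y, hy, e⟩ := (hQ ▸ hle) z.2
  obtain rfl : y = z := Subtype.ext e
  obtain ⟨k, hk⟩ := P.isPGroup' ⟨y, hy⟩
  exact ⟨k, congrArg Subtype.val hk⟩

end Parts

open QuadraticMap CliffordAlgebra CfsgLib.Classical.Quad CfsgLib.Known.SympMult CfsgLib.Known.SpinMult
open scoped commutatorElement

variable {F : Type*} [Field F] {V : Type*} [AddCommGroup V] [Module F V] {Q : QuadraticForm F V}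

/-- inclusion of a subspace as an isometry -/
def incl (U : Submodule F V) : QuadraticMap.Isometry (Q.comp U.subtype) Q :=
  { U.subtype with map_app' := fun _ => rfl }

theorem incl_apply (U : Submodule F V) (x : U) : incl (Q := Q) U x = (x : V) := rfl

variable [FiniteDimensional F V] {U : Submodule F V} {m : ℕ} (fr : SpinMult.Frame (Q.comp U.subtype) m (Fin 0))

theorem root_inr (q : SpinMult.Root (Fin 0) m) : ∃ b, q.1.2 = Sum.inr b := by
  rcases h : q.1.2 with s | b
  · exact s.elim0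
  · exact ⟨b, rfl⟩

theorem root_sing (q : SpinMult.Root (Fin 0) m) :
    Q (fr.e (Sum.inr q.1.1) : V) = 0 ∧ Q (fr.e q.1.2 : V) = 0 ∧
      polar Q (fr.e (Sum.inr q.1.1) : V) (fr.e q.1.2 : V) = 0 := by
  obtain ⟨b, hb⟩ := root_inr q
  exact ⟨fr.sing _, by rw [hb]; exact fr.sing b,
    by rw [← mem_comp_polar]; exact SpinMult.perp_root fr q⟩

theorem exists_image (g : SpinMult.Spin fr) :
    ∃ h : SpinV Q, val h = CliffordAlgebra.map (incl U) (SpinMult.val fr g) := by
  obtain ⟨g, hg⟩ := g
  show ∃ h : SpinV Q, val h = CliffordAlgebra.map (incl U)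
    (((g : (CliffordAlgebra (Q.comp U.subtype))ˣ) : CliffordAlgebra (Q.comp U.subtype)))
  induction hg using Subgroup.closure_induction with
  | one => exact ⟨1, by simp [val_one]⟩
  | mem a ha =>
    obtain ⟨q, t, rfl⟩ := ha
    obtain ⟨h1, -, h3⟩ := root_sing fr q
    refine ⟨El (fr.e (Sum.inr q.1.1) : V) (t • (fr.e q.1.2 : V)), ?_⟩
    rw [val_El h1 (by rw [polar_smul_right', h3, mul_zero]),
      show ((SpinMult.RX fr q t : (CliffordAlgebra (Q.comp U.subtype))ˣ) : CliffordAlgebra (Q.comp U.subtype)) =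
        1 + t • (ι _ (fr.e (Sum.inr q.1.1)) * ι _ (fr.e q.1.2)) from SpinMult.X_val _ _ t]
    simp only [map_add, map_one, map_smul, map_mul, map_apply_ι, incl_apply, mul_smul_comm, smul_mul_assoc]
  | mul a b _ _ iha ihb =>
    obtain ⟨x, hx⟩ := iha
    obtain ⟨y, hy⟩ := ihb
    exact ⟨x * y, by rw [val_mul, hx, hy, Subgroup.coe_mul, Units.val_mul, map_mul]⟩
  | inv a _ iha =>
    obtain ⟨x, hx⟩ := iha
    refine ⟨x⁻¹, ?_⟩
    have h1 : val x⁻¹ * val x = 1 := by rw [← val_mul, inv_mul_cancel, val_one]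
    have h2 : CliffordAlgebra.map (incl (Q := Q) U)
          (((a : (CliffordAlgebra (Q.comp U.subtype))ˣ) : CliffordAlgebra (Q.comp U.subtype))) *
        CliffordAlgebra.map (incl (Q := Q) U) ((((a⁻¹ : SpinMult.Nrm (Q.comp U.subtype)) :
          (CliffordAlgebra (Q.comp U.subtype))ˣ) : CliffordAlgebra (Q.comp U.subtype))) = 1 := by
      rw [← map_mul, ← Units.val_mul, ← Subgroup.coe_mul, mul_inv_cancel]; simp
    rw [← hx] at h2
    calc val x⁻¹ = val x⁻¹ * (val x * _) := by rw [h2, mul_one]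
      _ = _ := by rw [← mul_assoc, h1, one_mul]

/-- functoriality for a subspace -/
def phiU : SpinMult.Spin fr →* SpinV Q where
  toFun g := (exists_image fr g).choose
  map_one' := ext_val (by rw [(exists_image fr 1).choose_spec, SpinMult.val_one, map_one, val_one])
  map_mul' a b := ext_val (by
    rw [(exists_image fr (a * b)).choose_spec, val_mul, (exists_image fr a).choose_spec,
      (exists_image fr b).choose_spec, SpinMult.val_mul, map_mul])

theorem val_phiU (g : SpinMult.Spin fr) :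
    val (phiU fr g) = CliffordAlgebra.map (incl U) (SpinMult.val fr g) := (exists_image fr g).choose_spec

theorem phiU_rt (q : SpinMult.Root (Fin 0) m) (t : F) :
    phiU fr (SpinMult.rt fr q t) = El (fr.e (Sum.inr q.1.1) : V) (t • (fr.e q.1.2 : V)) := by
  obtain ⟨h1, -, h3⟩ := root_sing fr q
  refine ext_val ?_
  rw [val_phiU, SpinMult.val_rt, val_El h1 (by rw [polar_smul_right', h3, mul_zero])]
  simp only [map_add, map_one, map_smul, map_mul, map_apply_ι, incl_apply, mul_smul_comm, smul_mul_assoc]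

theorem ap_phiU (g : SpinMult.Spin fr) (z : U) : ap (phiU fr g) (z : V) = (SpinMult.ap fr g z : V) := by
  rw [ap_def, SpinMult.ap_def]
  refine SpinMult.actv_eq (bmV F V) ?_
  have e := congrArg (CliffordAlgebra.map (incl U)) (SpinMult.ι_actv (g : SpinMult.Nrm (Q.comp U.subtype)) z)
  rw [map_mul, map_mul, map_apply_ι, map_apply_ι, incl_apply, incl_apply] at e
  have h1 : val (phiU fr g⁻¹) =
      (((((phiU fr g : SpinV Q) : SpinMult.Nrm Q) : (CliffordAlgebra Q)ˣ)⁻¹ : (CliffordAlgebra Q)ˣ) :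
        CliffordAlgebra Q) := by rw [map_inv]; rfl
  rw [← e, ← h1, show (((phiU fr g : SpinV Q) : SpinMult.Nrm Q) : (CliffordAlgebra Q)ˣ).val = val (phiU fr g) from rfl,
    val_phiU, val_phiU]
  rfl

theorem eq_one_of_phiU (hU : (polarBilin (Q.comp U.subtype)).Nondegenerate) {g : SpinMult.Spin fr}
    (h : phiU fr g = 1) : g = 1 := by
  have hz : ∀ z : U, SpinMult.ap fr g z = z := fun z => Subtype.ext (by rw [← ap_phiU, h, ap_one])
  rcases SpinMult.val_of_ker fr hz with e | e
  · exact SpinMult.ext_val fr e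
  · have e' := val_phiU fr g
    rw [h, e, map_neg, map_one, val_one] at e'
    refine SpinMult.ext_val fr ?_
    have h2 : (1 : F) = -1 := SpinMult.algebraMap_inj (bmV F V) (Q := Q) (by rw [map_neg, map_one]; exact e')
    rw [e, SpinMult.val_one, ← map_one (algebraMap F (CliffordAlgebra (Q.comp U.subtype))), ← map_neg, ← h2]

variable [Finite F] {Γ : Type*} [Group Γ] {π : Γ →* SpinV Q} (C : CExt π) (hB : Big Q)

/-- pairs of a root element and its lift -/
def pr (q : SpinMult.Root (Fin 0) m) (t : F) : SpinMult.Spin fr × Γ :=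
  (SpinMult.rt fr q t, L C hB (fr.e (Sum.inr q.1.1) : V) (t • (fr.e q.1.2 : V)))

/-- the fibred group -/
def P0 : Subgroup (SpinMult.Spin fr × Γ) := Subgroup.closure {g | ∃ q t, g = pr fr C hB q t}

/-- its root elements -/
def f0 (q : SpinMult.Root (Fin 0) m) (t : F) : P0 fr C hB := ⟨pr fr C hB q t, Subgroup.subset_closure ⟨q, t, rfl⟩⟩

/-- projection to the spin group -/
def sig : P0 fr C hB →* SpinMult.Spin fr := (MonoidHom.fst _ _).comp (P0 fr C hB).subtype

/-- projection to the extension -/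
def snd' : P0 fr C hB →* Γ := (MonoidHom.snd _ _).comp (P0 fr C hB).subtype

theorem sig_f0 (q : SpinMult.Root (Fin 0) m) (t : F) : sig fr C hB (f0 fr C hB q t) = SpinMult.rt fr q t := rfl

theorem snd_f0 (q : SpinMult.Root (Fin 0) m) (t : F) :
    snd' fr C hB (f0 fr C hB q t) = L C hB (fr.e (Sum.inr q.1.1) : V) (t • (fr.e q.1.2 : V)) := rfl

theorem P0_ext {x y : P0 fr C hB} (h1 : sig fr C hB x = sig fr C hB y) (h2 : snd' fr C hB x = snd' fr C hB y) :
    x = y := Subtype.ext (Prod.ext h1 h2)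

theorem P0_closure : Subgroup.closure {g : P0 fr C hB | ∃ q t, g = f0 fr C hB q t} = ⊤ := by
  rw [eq_top_iff]
  rintro ⟨g, hg⟩ -
  induction hg using Subgroup.closure_induction with
  | one => exact one_mem _
  | mem a ha => obtain ⟨q, t, rfl⟩ := ha; exact Subgroup.subset_closure ⟨q, t, rfl⟩
  | mul a b ha hb iha ihb => exact mul_mem iha ihb
  | inv a ha iha => exact inv_mem iha

theorem π_snd (x : P0 fr C hB) : π (snd' fr C hB x) = phiU fr (sig fr C hB x) := by
  have h : x ∈ Subgroup.closure {g : P0 fr C hB | ∃ q t, g = f0 fr C hB q t} := by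
    rw [P0_closure]; trivial
  induction h using Subgroup.closure_induction with
  | one => simp only [map_one]
  | mem a ha =>
    obtain ⟨q, t, rfl⟩ := ha
    obtain ⟨h1, -, h3⟩ := root_sing fr q
    rw [sig_f0, snd_f0, phiU_rt, π_L C hB h1 (by rw [polar_smul_right', h3, mul_zero])]
  | mul a b _ _ iha ihb => simp only [map_mul, iha, ihb]
  | inv a _ iha => simp only [map_inv, iha]

theorem sig_surjective : Function.Surjective (sig fr C hB) := by
  rintro ⟨g, hg⟩
  induction hg using Subgroup.closure_induction with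
  | one => exact ⟨1, by rw [map_one]; rfl⟩
  | mem a ha => obtain ⟨q, t, rfl⟩ := ha; exact ⟨f0 fr C hB q t, rfl⟩
  | mul a b ha hb iha ihb =>
    obtain ⟨x, hx⟩ := iha; obtain ⟨y, hy⟩ := ihb
    exact ⟨x * y, by rw [map_mul, hx, hy]; rfl⟩
  | inv a ha iha =>
    obtain ⟨x, hx⟩ := iha
    exact ⟨x⁻¹, by rw [map_inv, hx]; rfl⟩

theorem sig_central : (sig fr C hB).ker ≤ Subgroup.center (P0 fr C hB) := by
  intro x hx
  rw [MonoidHom.mem_ker] at hx
  rw [Subgroup.mem_center_iff]
  intro y
  refine P0_ext fr C hB ?_ ?_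
  · simp only [map_mul, hx, one_mul, mul_one]
  · simp only [map_mul]
    exact C.ker_comm (by rw [π_snd, hx, map_one]) _

theorem e_polar (a b : Idx m) :
    polar Q (fr.e (Sum.inr a) : V) (fr.e (Sum.inr b) : V) = if b = a.swap then 1 else 0 := by
  rw [← mem_comp_polar]; exact fr.pair a b

theorem f0_add (q : SpinMult.Root (Fin 0) m) (t u : F) : f0 fr C hB q t * f0 fr C hB q u = f0 fr C hB q (t + u) := by
  obtain ⟨h1, -, h3⟩ := root_sing fr q
  refine P0_ext fr C hB ?_ ?_
  · rw [map_mul, sig_f0, sig_f0, sig_f0, SpinMult.rt_add]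
  · rw [map_mul, snd_f0, snd_f0, snd_f0, add_smul,
      L_add C hB h1 (by rw [polar_smul_right', h3, mul_zero]) (by rw [polar_smul_right', h3, mul_zero])]

theorem f0_flip (q : SpinMult.Root (Fin 0) m) (b : Idx m) (h : q.1.2 = Sum.inr b) (t : F) :
    f0 fr C hB (q.flipPair b h) t = f0 fr C hB q (-t) := by
  obtain ⟨h1, h2, h3⟩ := root_sing fr q
  refine P0_ext fr C hB ?_ ?_
  · rw [sig_f0, sig_f0, SpinMult.rt_flipPair]
  · rw [snd_f0, snd_f0]
    rw [h] at h2 h3 ⊢
    show L C hB (fr.e (Sum.inr b) : V) (t • (fr.e (Sum.inr q.1.1) : V)) = _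
    rw [L_flip C hB (u := t • (fr.e (Sum.inr q.1.1) : V)) (by rw [apply_smul, h1, mul_zero]) h2
      (by rw [polar_smul_left', h3, mul_zero]), L_smul C hB h1 (by rw [polar_neg_right, h3, neg_zero]),
      smul_neg, neg_smul]

theorem f0_bracket_long {a w b : Idx m} (q r k : SpinMult.Root (Fin 0) m) (hq : q.1 = (a, Sum.inr w.swap))
    (hr : r.1 = (w, Sum.inr b)) (hk : k.1 = (a, Sum.inr b)) (t u : F) :
    ⁅f0 fr C hB q t, f0 fr C hB r u⁆ = f0 fr C hB k (t * u) := by
  refine P0_ext fr C hB ?_ ?_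
  · rw [map_commutatorElement, sig_f0, sig_f0, sig_f0, SpinMult.bracket_long fr q r k hq hr hk]
  rw [map_commutatorElement, snd_f0, snd_f0, snd_f0, hq, hr, hk]
  obtain ⟨ea, hea⟩ : ∃ z, z = (fr.e (Sum.inr a) : V) := ⟨_, rfl⟩
  obtain ⟨ew, hew⟩ : ∃ z, z = (fr.e (Sum.inr w) : V) := ⟨_, rfl⟩
  obtain ⟨ew', hew'⟩ : ∃ z, z = (fr.e (Sum.inr w.swap) : V) := ⟨_, rfl⟩
  obtain ⟨eb, heb⟩ : ∃ z, z = (fr.e (Sum.inr b) : V) := ⟨_, rfl⟩
  rw [← hea, ← hew, ← hew', ← heb]
  have q1 : w.swap ≠ a := fun e => q.2.1 (by rw [hq, e])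
  have q2 : w.swap ≠ a.swap := fun e => q.2.2 (by rw [hq, e])
  have r1 : b ≠ w := fun e => r.2.1 (by rw [hr, e])
  have r2 : b ≠ w.swap := fun e => r.2.2 (by rw [hr, e])
  have k2 : b ≠ a.swap := fun e => k.2.2 (by rw [hk, e])
  have wa : w ≠ a.swap := fun e => q1 (by rw [e, Sum.swap_swap])
  have sa : Q ea = 0 := hea ▸ fr.sing a
  have sw : Q ew = 0 := hew ▸ fr.sing w
  have sw' : Q ew' = 0 := hew' ▸ fr.sing w.swap
  have sb : Q eb = 0 := heb ▸ fr.sing b
  have paw' : polar Q ea ew' = 0 := by rw [hea, hew', e_polar, if_neg q2]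
  have paw : polar Q ea ew = 0 := by rw [hea, hew, e_polar, if_neg wa]
  have pab : polar Q ea eb = 0 := by rw [hea, heb, e_polar, if_neg k2]
  have pwb : polar Q ew eb = 0 := by rw [hew, heb, e_polar, if_neg r2]
  have pw'b : polar Q ew' eb = 0 := by rw [hew', heb, e_polar, Sum.swap_swap, if_neg r1]
  have pw'w : polar Q ew' ew = 1 := by rw [hew', hew, e_polar, Sum.swap_swap, if_pos rfl]
  have hv : polar Q ea (t • ew') = 0 := by rw [polar_smul_right', paw', mul_zero]
  have hu : polar Q ew (u • eb) = 0 := by rw [polar_smul_right', pwb, mul_zero]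
  rw [commutatorElement_def, L_conj C hB sw hu (π_L C hB sa hv), ← L_neg C hB sw hu,
    ap_El_fix sa hv (z := u • eb) (by rw [polar_smul_right', pab, mul_zero])
      (by rw [polar_smul_left', polar_smul_right', pw'b, mul_zero, mul_zero]),
    ap_El sa hv, paw, polar_smul_left', pw'w]
  have hs : Q (ew + t • ea) = 0 := by
    rw [apply_add, apply_smul, polar_smul_right', polar_comm, paw, sw, sa]; ring
  rw [show ew + ((t * 1) • ea - (0 : F) • t • ew') - (0 * Q (t • ew')) • ea = ew + t • ea by module]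
  have hsb : polar Q (ew + t • ea) (u • eb) = 0 := by
    rw [polar_add_left', hu, polar_smul_left', polar_smul_right', pab]; ring
  have hbs : polar Q (u • eb) (ew + t • ea) = 0 := by rw [polar_comm]; exact hsb
  have hbw : polar Q (u • eb) ew = 0 := by rw [polar_comm]; exact hu
  have hub : Q (u • eb) = 0 := by rw [apply_smul, sb, mul_zero]
  have hbw' : polar Q (u • eb) (-ew) = 0 := by rw [polar_neg_right, hbw, neg_zero]
  rw [L_flip C hB hub hs hbs, show L C hB ew (-(u • eb)) = L C hB (u • eb) ew by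
      rw [L_flip C hB (u := ew) sw hub hu],
    ← L_add C hB hub (by rw [polar_neg_right, hbs, neg_zero]) hbw, show -(ew + t • ea) + ew = -(t • ea) by abel]
  rw [show L C hB (u • eb) (-(t • ea)) = L C hB (t • ea) (u • eb) by
    rw [L_flip C hB (u := u • eb) hub (by rw [apply_smul, sa, mul_zero])
      (by rw [polar_smul_left', polar_smul_right', polar_comm, pab, mul_zero, mul_zero])]]
  rw [L_smul C hB sa (by rw [polar_smul_right', pab, mul_zero]), smul_smul]

theorem P0_perfect (hm : 3 ≤ m) : commutator (P0 fr C hB) = ⊤ := by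
  rw [eq_top_iff, ← P0_closure, Subgroup.closure_le]
  rintro _ ⟨k, t, rfl⟩
  obtain ⟨b, hb⟩ := root_inr k
  obtain ⟨c, c1, c2, c3, c4⟩ := SpinMult.exists_third hm k.1.1 b
  have h := f0_bracket_long fr C hB ⟨(k.1.1, Sum.inr c.swap), by simp; exact fun e => c2 (by rw [← e, Sum.swap_swap]),
      by simp; exact fun e => c1 (Sum.swap_leftInverse.injective e)⟩
    ⟨(c, Sum.inr b), by simp; exact c3.symm, by simp; exact fun e => c4 (by rw [e, Sum.swap_swap])⟩ k rfl rfl
    (Prod.ext rfl hb) t 1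
  rw [mul_one] at h
  rw [SetLike.mem_coe, ← h, commutator_def]
  exact Subgroup.commutator_mem_commutator (Subgroup.mem_top _) (Subgroup.mem_top _)

theorem liftFam_f0 : SpinMult.LiftFam fr (sig fr C hB) (f0 fr C hB) where
  lift q t _ := sig_f0 fr C hB q t
  add q t u _ := f0_add fr C hB q t u
  flip q b h t _ := f0_flip fr C hB q b h t
  comm q r hq hr := by
    revert hq hr
    by_cases ho : Opp q r
    · intro hq hr; exact absurd ho (not_opp hq hr)
    revert ho
    refine pair_cases fr.sub (P := fun q r => Pos q → Pos r → ∀ t u : F,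
      ⁅f0 fr C hB q t, f0 fr C hB r u⁆ ∈ MM (f0 fr C hB) (max (deg q) (deg r) + 1)) ?_ ?_ ?_ ?_ ?_ ?_ ?_ ?_ q r
    · intro q r h hr hq t u
      rw [← commutatorElement_inv, max_comm]
      exact inv_mem (h hq hr u t)
    · intro q r b hb h hq hr t u
      have := h (by unfold Pos at *; rwa [deg_flipPair]) hr (-t) u
      rwa [f0_flip, neg_neg, deg_flipPair] at this
    · intro q r a1 a2 a3 a4 _ _ t u
      obtain ⟨b, hb⟩ := root_inr q
      obtain ⟨d, hd⟩ := root_inr r
      rw [hb] at a2 a4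
      rw [hd] at a3 a4
      have one : ⁅f0 fr C hB q t, f0 fr C hB r u⁆ = 1 := by
        have hrt : Commute (SpinMult.rt fr q t) (SpinMult.rt fr r u) ∧
            Commute (snd' fr C hB (f0 fr C hB q t)) (snd' fr C hB (f0 fr C hB r u)) := by
          have n1 : r.1.1 ≠ q.1.1.swap := a1
          have n2 : r.1.1 ≠ b.swap := fun e => a2 (by rw [e]; rfl)
          have n3 : d ≠ q.1.1.swap := fun e => a3 (by rw [e])
          have n4 : d ≠ b.swap := fun e => a4 (by rw [e]; rfl)
          obtain ⟨q1, q2, q3⟩ := root_sing fr q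
          obtain ⟨r1, r2, r3⟩ := root_sing fr r
          have e1 : polar Q (fr.e (Sum.inr q.1.1) : V) (fr.e (Sum.inr r.1.1) : V) = 0 := by rw [e_polar, if_neg n1]
          have e2 : polar Q (t • (fr.e q.1.2 : V)) (fr.e (Sum.inr r.1.1) : V) = 0 := by
            rw [hb, polar_smul_left', e_polar, if_neg n2, mul_zero]
          have e3 : polar Q (fr.e (Sum.inr q.1.1) : V) (u • (fr.e r.1.2 : V)) = 0 := by
            rw [hd, polar_smul_right', e_polar, if_neg n3, mul_zero]
          have e4 : polar Q (t • (fr.e q.1.2 : V)) (u • (fr.e r.1.2 : V)) = 0 := by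
            rw [hb, hd, polar_smul_left', polar_smul_right', e_polar, if_neg n4, mul_zero, mul_zero]
          have hv : polar Q (fr.e (Sum.inr q.1.1) : V) (t • (fr.e q.1.2 : V)) = 0 := by
            rw [polar_smul_right', q3, mul_zero]
          have hw : polar Q (fr.e (Sum.inr r.1.1) : V) (u • (fr.e r.1.2 : V)) = 0 := by
            rw [polar_smul_right', r3, mul_zero]
          constructor
          · rw [commute_iff_eq, ← mul_inv_eq_iff_eq_mul]
            refine SpinMult.ext_val fr ?_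
            rw [SpinMult.conj_val, SpinMult.val_rt]
            have fix : ∀ j, polar Q (fr.e (Sum.inr q.1.1) : V) (fr.e j : V) = 0 →
                polar Q (fr.e q.1.2 : V) (fr.e j : V) = 0 → SpinMult.ap fr (SpinMult.rt fr q t) (fr.e j) = fr.e j := by
              intro j h1 h2
              refine Subtype.ext ?_
              rw [← ap_phiU, phiU_rt, ap_El_fix q1 hv h1 (by rw [polar_smul_left', h2, mul_zero])]
            rw [fix _ e1 (by rw [hb, e_polar, if_neg n2]),
              fix _ (by rw [hd, e_polar, if_neg n3]) (by rw [hb, hd, e_polar, if_neg n4])]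
          · rw [snd_f0, snd_f0, commute_iff_eq, ← mul_inv_eq_iff_eq_mul, L_conj C hB r1 hw (π_L C hB q1 hv),
              ap_El_fix q1 hv e1 e2, ap_El_fix q1 hv e3 e4]
        rw [commutatorElement_eq_one_iff_commute, commute_iff_eq]
        refine P0_ext fr C hB ?_ ?_
        · rw [map_mul, map_mul, sig_f0, sig_f0]; exact hrt.1
        · rw [map_mul, map_mul]; exact hrt.2
      rw [one]; exact one_mem _
    · intro q r a b h1 h2 _ _ t u
      obtain ⟨q1, q2, q3⟩ := root_sing fr q
      obtain ⟨r1, r2, r3⟩ := root_sing fr r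
      have hb : (fr.e (Sum.inr r.1.1) : V) = (fr.e (Sum.inr q.1.1) : V) := by rw [h1, h2]
      rw [hb] at r3
      have hv : polar Q (fr.e (Sum.inr q.1.1) : V) (t • (fr.e q.1.2 : V)) = 0 := by
        rw [polar_smul_right', q3, mul_zero]
      have hw : polar Q (fr.e (Sum.inr q.1.1) : V) (u • (fr.e r.1.2 : V)) = 0 := by
        rw [polar_smul_right', r3, mul_zero]
      have one : ⁅f0 fr C hB q t, f0 fr C hB r u⁆ = 1 := by
        rw [commutatorElement_eq_one_iff_commute, commute_iff_eq]
        refine P0_ext fr C hB ?_ ?_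
        · rw [map_mul, map_mul, sig_f0, sig_f0]
          refine eq_of_div_eq_one ?_
          rw [div_eq_mul_inv]
          have hsing : (SpinMult.rt fr q t * SpinMult.rt fr r u * (SpinMult.rt fr r u * SpinMult.rt fr q t)⁻¹) =
              SpinMult.rt fr q t * SpinMult.rt fr r u * (SpinMult.rt fr q t)⁻¹ * (SpinMult.rt fr r u)⁻¹ := by group
          rw [hsing, mul_inv_eq_one]
          refine SpinMult.ext_val fr ?_
          rw [SpinMult.conj_val, SpinMult.val_rt]
          have ha : SpinMult.ap fr (SpinMult.rt fr q t) (fr.e (Sum.inr r.1.1)) = fr.e (Sum.inr r.1.1) := by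
            refine Subtype.ext ?_
            rw [← ap_phiU, phiU_rt, hb,
              ap_El_fix q1 hv (by rw [polar_self', q1, mul_zero]) (by rw [polar_comm]; exact hv)]
          have hz : SpinMult.ap fr (SpinMult.rt fr q t) (fr.e r.1.2) = fr.e r.1.2 +
              (t * polar Q (fr.e q.1.2 : V) (fr.e r.1.2 : V)) • fr.e (Sum.inr r.1.1) := by
            refine Subtype.ext ?_
            rw [← ap_phiU, phiU_rt, ap_El q1 hv, r3, polar_smul_left', Submodule.coe_add, Submodule.coe_smul, hb]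
            module
          rw [ha, hz, map_add, map_smul, mul_add, mul_smul_comm, ι_sq_scalar,
            show (Q.comp U.subtype) (fr.e (Sum.inr r.1.1)) = 0 from fr.sing _, map_zero, smul_zero, add_zero]
        · rw [map_mul, map_mul, snd_f0, snd_f0, hb]
          exact (comm_at C hB q1 hv hw (π_L C hB q1 hv) (π_L C hB q1 hw)).eq
      rw [one]; exact one_mem _
    · intro q a x h; exact x.elim0
    · intro q r k a w b h1 h2 h3 hq hr t u
      rw [f0_bracket_long fr C hB q r k h1 h2 h3]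
      unfold Pos at *
      have : deg k = deg q + deg r := by simp only [deg, h1, h2, h3, hgtJ, Sum.elim_inr, hgt_swap]; ring
      exact Subgroup.subset_closure ⟨k, t * u, by unfold Pos; omega, by omega, rfl⟩
    · intro q r k l a w x; exact x.elim0
    · intro q r l a w x; exact x.elim0

include fr in
/-- the lifts on the subspace meet the kernel trivially -/
theorem ker_split (hU : (polarBilin (Q.comp U.subtype)).Nondegenerate) (hm : 3 ≤ m) [Finite Γ]
    (hdim : 5 ≤ Module.finrank F U) : ∀ z ∈ genU C hB U, π z = 1 → z = 1 := by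
  obtain ⟨p, hp⟩ := CharP.exists F
  have hpp : p.Prime := CharP.char_is_prime F p
  have : Fact p.Prime := ⟨hpp⟩
  have hm2 : 2 ≤ m := by omega
  have hUp : IsPGroup p (spinSys fr hm2 p).U := Up_isPGroup fr
  have hstem : Cfsg.IsStemExtension (sig fr C hB) :=
    ⟨sig_surjective fr C hB, sig_central fr C hB, by rw [P0_perfect fr C hB hm]; exact le_top⟩
  have hZ : IsPGroup p (sig fr C hB).ker := isPGroup_ker p (fun Γ' _ _ π' hσ' hcop =>
    (spinSys fr hm2 p).ker_eq_bot_of_coprime hUp hpp (gen fr hm2 p) (torusFree fr hm2 p) hσ' hcop) _ hstem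
  have hker : (sig fr C hB).ker = ⊥ := by
    refine RootLift.ker_eq_bot_of_complement hpp hstem hZ
      ((spinSys fr hm2 p).not_dvd_index hUp hpp (gen fr hm2 p)) (M := MM (f0 fr C hB) 1) ?_
      (fun x hx h => inj_MM (liftFam_f0 fr C hB) hx h)
    rw [MM, MonoidHom.map_closure]
    show _ = Up fr 1
    rw [Up]
    congr 1
    ext g
    constructor
    · rintro ⟨_, ⟨q, t, h1, h2, rfl⟩, rfl⟩
      exact ⟨q, t, h1, h2, rfl⟩
    · rintro ⟨q, t, h1, h2, rfl⟩
      exact ⟨_, ⟨q, t, h1, h2, rfl⟩, rfl⟩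
  have fsing : ∀ a : Idx m, Q (fr.e (Sum.inr a) : V) = 0 := fun a => fr.sing a
  have range : genU C hB U ≤ (snd' fr C hB).range := by
    have hR : ∀ a : Idx m, ∀ j, fr.e j ≠ fr.e (Sum.inr a.swap) → ∀ c : F,
        L C hB (fr.e (Sum.inr a) : V) (c • (fr.e j : V)) ∈ (snd' fr C hB).range := by
      intro a j hj c
      by_cases hja : j = Sum.inr a
      · rw [hja, ← zero_add (c • (fr.e (Sum.inr a) : V)),
          L_shift C hB (fsing a) (polar_zero_right _ _), L_zero C hB (fsing a)]
        exact one_mem _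
      · exact ⟨f0 fr C hB ⟨(a, j), hja, fun (e : j = Sum.inr a.swap) => hj (by rw [e])⟩ c, rfl⟩
    refine (Subgroup.closure_le _).2 ?_
    rintro _ ⟨x, y, hx, hy, hQx, hxy, rfl⟩
    show L C hB x y ∈ (snd' fr C hB).range
    by_cases hx0 : x = 0
    · rw [hx0, ← zero_smul F (0 : V), L_smul C hB (map_zero Q) (polar_zero_left _ _), zero_smul,
        L_zero C hB (map_zero Q)]
      exact one_mem _
    obtain ⟨a, -⟩ : ∃ a : Idx m, a = Sum.inl ⟨0, by omega⟩ := ⟨_, rfl⟩
    obtain ⟨s, hs, hsx⟩ := exists_move_singular hU hdim (u := fr.e (Sum.inr a)) (w := (⟨x, hx⟩ : U)) (fr.sing a)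
      (fr.e.ne_zero _) hQx (fun e => hx0 (congrArg Subtype.val e))
    rw [eichGroup_eq_commutator hU hdim, ← SpinMult.range_toO fr hdim] at hs
    obtain ⟨g, rfl⟩ := hs
    obtain ⟨P, rfl⟩ := sig_surjective fr C hB g
    obtain ⟨γ, hγ⟩ : ∃ γ, γ = snd' fr C hB P := ⟨_, rfl⟩
    obtain ⟨y', hy'⟩ : ∃ y' : U, SpinMult.ap fr (sig fr C hB P) y' = ⟨y, hy⟩ :=
      ⟨_, (SpinMult.ap fr (sig fr C hB P)).apply_symm_apply _⟩
    have hmapx : ap (π γ) (fr.e (Sum.inr a) : V) = x := by
      rw [hγ, π_snd, ap_phiU]; exact congrArg Subtype.val hsx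
    have hmapy : ap (π γ) (y' : V) = y := by rw [hγ, π_snd, ap_phiU, hy']
    have hay : polar Q (fr.e (Sum.inr a) : V) (y' : V) = 0 := by rw [← ap_polar (π γ), hmapx, hmapy]; exact hxy
    have e := L_conj C hB (fsing a) hay (γ := γ) rfl
    rw [hmapx, hmapy] at e
    rw [← e]
    have hγr : γ ∈ (snd' fr C hB).range := ⟨P, hγ.symm⟩
    refine mul_mem (mul_mem hγr ?_) (inv_mem hγr)
    have hsum : (y' : V) = ∑ j, (fr.e.repr y' j) • (fr.e j : V) := by
      conv_lhs => rw [← fr.e.sum_repr y']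
      rw [Submodule.coe_sum]; simp only [Submodule.coe_smul]
    have hco : fr.e.repr y' (Sum.inr a.swap) = 0 := by
      rw [hsum, ← QuadraticMap.polarBilin_apply_apply, map_sum,
        Finset.sum_eq_single (Sum.inr a.swap : Fin 0 ⊕ Idx m) _ (by simp)] at hay
      · rwa [map_smul, QuadraticMap.polarBilin_apply_apply, e_polar, if_pos rfl, smul_eq_mul, mul_one] at hay
      · rintro (s | b) _ hb
        · exact s.elim0
        · rw [map_smul, QuadraticMap.polarBilin_apply_apply, e_polar, if_neg (fun h => hb (by rw [h])), smul_zero]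
    rw [hsum]
    have key : ∀ T : Finset (Fin 0 ⊕ Idx m),
        polar Q (fr.e (Sum.inr a) : V) (∑ j ∈ T, (fr.e.repr y' j) • (fr.e j : V)) = 0 ∧
        L C hB (fr.e (Sum.inr a) : V) (∑ j ∈ T, (fr.e.repr y' j) • (fr.e j : V)) ∈ (snd' fr C hB).range := by
      classical
      intro T
      induction T using Finset.induction_on with
      | empty => rw [Finset.sum_empty, L_zero C hB (fsing a)]; exact ⟨polar_zero_right _ _, one_mem _⟩
      | insert j T hj ih =>
        have hterm : polar Q (fr.e (Sum.inr a) : V) (fr.e.repr y' j • (fr.e j : V)) = 0 ∧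
            L C hB (fr.e (Sum.inr a) : V) (fr.e.repr y' j • (fr.e j : V)) ∈ (snd' fr C hB).range := by
          by_cases hj' : j = Sum.inr a.swap
          · rw [hj', hco, zero_smul, L_zero C hB (fsing a)]; exact ⟨polar_zero_right _ _, one_mem _⟩
          · refine ⟨?_, hR a j (fun e => hj' (fr.e.injective e)) _⟩
            rcases j with s | b
            · exact s.elim0
            · rw [polar_smul_right', e_polar, if_neg (fun h => hj' (by rw [h])), mul_zero]
        rw [Finset.sum_insert hj, L_add C hB (fsing a) hterm.1 ih.1]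
        exact ⟨by rw [polar_add_right', hterm.1, ih.1, add_zero], mul_mem hterm.2 ih.2⟩
    exact (key Finset.univ).2
  intro z hz h1
  obtain ⟨x, rfl⟩ := range hz
  rw [π_snd] at h1
  have hx : x ∈ (sig fr C hB).ker := eq_one_of_phiU fr hU h1
  rw [hker, Subgroup.mem_bot] at hx
  rw [hx, map_one]

end

end CfsgLib.Known.SpinMinus
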