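import Cfsg.Agent.Lib.Known.SpinMinus.SpinV
import Cfsg.Agent.Lib.Known.SpinMinus.Geo
import Cfsg.Agent.Lib.Known.SympMult.Tools

/-!
# Lifts of long root elements to a central extension
-/

set_option autoImplicit false
set_option linter.unusedSectionVars false

namespace CfsgLib.Known.SpinMinus

noncomputable section

open QuadraticMap CfsgLib.Classical.Quad CfsgLib.Known.SympMult
open scoped commutatorElement

variable {F : Type*} [Field F] {V : Type*} [AddCommGroup V] [Module F V]

/-- large nondegenerate spaces without totally singular half -/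
structure Big (Q : QuadraticForm F V) : Prop where
  nondeg : (polarBilin Q).Nondegenerate
  dim : 8 ≤ Module.finrank F V
  small : Module.finrank F V = 8 → ∀ S : Submodule F V, (∀ v ∈ S, Q v = 0) → Module.finrank F S ≤ 3

variable {Q : QuadraticForm F V}

/-- totally singular pairs -/
def TS (Q : QuadraticForm F V) (a b : V) : Prop := Q a = 0 ∧ Q b = 0 ∧ polar Q a b = 0

/-- orthogonality to a pair -/
def T2 (Q : QuadraticForm F V) (a b v : V) : Prop := polar Q a v = 0 ∧ polar Q b v = 0

theorem TS.symm {a b : V} (h : TS Q a b) : TS Q b a := ⟨h.2.1, h.1, by rw [polar_comm]; exact h.2.2⟩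

theorem TS.smul {a b : V} (h : TS Q a b) (t : F) : TS Q a (t • b) :=
  ⟨h.1, by rw [apply_smul, h.2.1, mul_zero], by rw [polar_smul_right', h.2.2, mul_zero]⟩

theorem TS.self {a : V} (ha : Q a = 0) : TS Q a a := ⟨ha, ha, by rw [polar_self', ha, mul_zero]⟩

theorem T2.symm {a b v : V} (h : T2 Q a b v) : T2 Q b a v := ⟨h.2, h.1⟩

theorem T2.add {a b v w : V} (h : T2 Q a b v) (h' : T2 Q a b w) : T2 Q a b (v + w) :=
  ⟨by rw [polar_add_right', h.1, h'.1, add_zero], by rw [polar_add_right', h.2, h'.2, add_zero]⟩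

theorem T2.smul {a b v : V} (h : T2 Q a b v) (t : F) : T2 Q a b (t • v) :=
  ⟨by rw [polar_smul_right', h.1, mul_zero], by rw [polar_smul_right', h.2, mul_zero]⟩

theorem T2.smul_right {a b v : V} (h : T2 Q a b v) (t : F) : T2 Q a (t • b) v :=
  ⟨h.1, by rw [polar_smul_left', h.2, mul_zero]⟩

theorem T2.zero (a b : V) : T2 Q a b 0 := ⟨polar_zero_right _ _, polar_zero_right _ _⟩

/-- a generic fact on central extensions -/
theorem cm_bracket {G Γ : Type*} [Group G] [Group Γ] {σ : Γ →* G} (C : CExt σ) {g A B : G} (hA : Commute g A)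
    (hB : Commute g B) : C.cm g ⁅A, B⁆ = 1 := by
  rw [← C.comm_eq (C.σ_lf g) (show σ ⁅C.lf A, C.lf B⁆ = ⁅A, B⁆ by rw [map_commutatorElement, C.σ_lf, C.σ_lf]),
    commutatorElement_eq_one_iff_commute, commute_iff_eq, ← mul_inv_eq_iff_eq_mul]
  rw [show C.lf g * ⁅C.lf A, C.lf B⁆ * (C.lf g)⁻¹ =
      ⁅C.lf g * C.lf A * (C.lf g)⁻¹, C.lf g * C.lf B * (C.lf g)⁻¹⁆ by simp only [commutatorElement_def]; group]
  rw [C.comm_eq (g := A) (h := B)
    (by rw [map_mul, map_mul, map_inv, C.σ_lf, C.σ_lf, hA.eq, mul_inv_cancel_right])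
    (by rw [map_mul, map_mul, map_inv, C.σ_lf, C.σ_lf, hB.eq, mul_inv_cancel_right]),
    C.comm_eq (C.σ_lf A) (C.σ_lf B)]

theorem T2_left {a b : V} (h : TS Q a b) : T2 Q a b a := ⟨(TS.self h.1).2.2, h.symm.2.2⟩

theorem T2_right {a b : V} (h : TS Q a b) : T2 Q a b b := ⟨h.2.2, (TS.self h.2.1).2.2⟩

variable [FiniteDimensional F V]

/-- commutators of Eichler elements -/
theorem El_bracket {a v b u : V} (ha : Q a = 0) (hv : polar Q a v = 0) (hb : Q b = 0) (hu : polar Q b u = 0)
    (h1 : polar Q a b = 0) (h2 : polar Q a u = 0) (h3 : polar Q v b = 0) :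
    ⁅(El a v : SpinV Q), (El b u : SpinV Q)⁆ = El b (polar Q v u • a) := by
  rw [commutatorElement_def, conj_El, El_inv, ap_El_fix ha hv h1 h3, ap_El ha hv, h2]
  rw [El_add hb ?_ (by rw [polar_neg_right, hu, neg_zero])]
  · congr 1; simp
  · simp only [zero_smul, sub_zero, zero_mul, polar_add_right', polar_smul_right', hu, polar_comm (⇑Q) b a, h1,
      mul_zero, add_zero]

theorem El_swap_smul {a b : V} (h : TS Q a b) (c : F) : (El b (c • a) : SpinV Q) = El a (-c • b) := by
  obtain ⟨ha, hb, hab⟩ := h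
  rw [El_flip (u := c • a) (v := b) (by rw [apply_smul, ha, mul_zero]) hb (by rw [polar_smul_left', hab, mul_zero]),
    El_smul_comm ha (by rw [polar_neg_right, hab, neg_zero])]
  simp

variable [Finite F] (hB : Big Q) {Γ : Type*} [Group Γ] {π : Γ →* SpinV Q} (C : CExt π)
include hB

/-- lifts of commuting long and arbitrary elements commute -/
theorem kill {a b x y : V} (h : TS Q a b) (hx : Q x = 0) (hxy : polar Q x y = 0) (hx' : T2 Q a b x)
    (hy : T2 Q a b y) : C.cm (El a b : SpinV Q) (El x y) = 1 := by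
  obtain ⟨ha, hb, hab⟩ := h
  have h8 := hB.dim
  obtain ⟨S, hS⟩ : ∃ S, S = Submodule.span F ({a, b, x, y} : Set V) := ⟨_, rfl⟩
  by_cases hcase : Module.finrank F S + Module.finrank F (S ⊓ orth Q S : Submodule F V) < Module.finrank F V
  · obtain ⟨v, u, hv, hu, hvu⟩ := exists_one_perp hB.nondeg S hcase
    rw [hS, mem_orth_span] at hv hu
    simp only [Set.mem_insert_iff, Set.mem_singleton_iff, forall_eq_or_imp, forall_eq] at hv hu
    obtain ⟨hv1, hv2, hv3, hv4⟩ := hv
    obtain ⟨hu1, hu2, hu3, hu4⟩ := hu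
    have e : (El a b : SpinV Q) = ⁅(El a (-v) : SpinV Q), El b u⁆ := by
      rw [El_bracket ha (by rw [polar_neg_right, hv1, neg_zero]) hb hu2 hab hu1
        (by rw [polar_neg_left, polar_comm, hv2, neg_zero]), polar_neg_left, hvu,
        El_swap_smul ⟨ha, hb, hab⟩]
      simp
    rw [← C.cm_inv, e, cm_bracket C, inv_one]
    · exact El_commute hx hxy (by rw [polar_comm]; exact hx'.1) (by rw [polar_comm]; exact hy.1)
        (by rw [polar_neg_right, hv3, neg_zero]) (by rw [polar_neg_right, hv4, neg_zero])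
    · exact El_commute hx hxy (by rw [polar_comm]; exact hx'.2) (by rw [polar_comm]; exact hy.2) hu3 hu4
  -- the exceptional position in characteristic two
  have hle : S ⊓ orth Q S ≤ S := inf_le_left
  have hd1 := Submodule.finrank_mono hle
  have hd2 : Module.finrank F S ≤ 4 := hS ▸ finrank_span_four hB.nondeg a b x y
  have hn8 : Module.finrank F V = 8 := by omega
  have hiso : S ≤ orth Q S := fun z hz => by
    have := Submodule.eq_of_le_of_finrank_le hle (by omega)
    rw [← this] at hz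
    exact hz.2
  have hyS : y ∈ S := hS ▸ Submodule.subset_span (by simp)
  have hyy : 2 * Q y = 0 := by rw [← polar_self']; exact hiso hyS y hyS
  have hspan3 : 3 ≤ Module.finrank F (Submodule.span F ({a, b, x} : Set V)) := by
    have e : S = Submodule.span F ({a, b, x} : Set V) ⊔ Submodule.span F {y} := by
      rw [hS, ← Submodule.span_union]; congr 1; ext z; simp; tauto
    have h1 := Submodule.finrank_add_le_finrank_add_finrank (Submodule.span F ({a, b, x} : Set V))
      (Submodule.span F {y})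
    rw [← e] at h1
    have h2 := finrank_span_le_card (R := F) ({y} : Set V)
    simp at h2
    omega
  have hts : ∀ z, Q z = 0 → polar Q a z = 0 → polar Q b z = 0 → polar Q x z = 0 →
      z ∈ Submodule.span F ({a, b, x} : Set V) := by
    intro z hz z1 z2 z3
    by_contra hzn
    have hlt : Submodule.span F ({a, b, x} : Set V) < Submodule.span F (insert z ({a, b, x} : Set V)) :=
      lt_of_le_of_ne (Submodule.span_mono (Set.subset_insert _ _))
        (fun e => hzn (e ▸ Submodule.subset_span (Set.mem_insert _ _)))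
    have h1 := Submodule.finrank_lt_finrank_of_lt hlt
    have hsing : ∀ v ∈ Submodule.span F (insert z ({a, b, x} : Set V)), Q v = 0 := by
      intro v hv
      simp only [Submodule.mem_span_insert, Submodule.mem_span_singleton] at hv
      obtain ⟨c1, _, ⟨c2, _, ⟨c3, _, ⟨c4, rfl⟩, rfl⟩, rfl⟩, rfl⟩ := hv
      simp only [apply_add, apply_smul, polar_add_right', polar_smul_right', polar_smul_left', hz, ha, hb, hx, hab,
        hx'.1, hx'.2, polar_comm (⇑Q) z a, polar_comm (⇑Q) z b, polar_comm (⇑Q) z x, z1, z2, z3]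
      ring
    have := hB.small hn8 _ hsing
    omega
  have hyn : y ∉ Submodule.span F ({a, b, x} : Set V) := fun hy' => by
    have hle' : S ≤ Submodule.span F ({a, b, x} : Set V) := hS ▸ Submodule.span_le.2 (by
      rintro w (rfl | rfl | rfl | rfl)
      exacts [Submodule.subset_span (by simp), Submodule.subset_span (by simp), Submodule.subset_span (by simp), hy'])
    have h1 := Submodule.finrank_mono hle'
    have h2 := finrank_span_three (Q := Q) hB.nondeg a b x
    omega
  have hc : Q y ≠ 0 := fun h0 => hyn (hts y h0 hy.1 hy.2 hxy)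
  have h2 : (2 : F) = 0 := (mul_eq_zero.1 hyy).resolve_right hc
  have := charP_two_of_eq_zero h2
  obtain ⟨z0, hz0, hz1⟩ := exists_sep_polar hB.nondeg hyn
  obtain ⟨z, hzd⟩ : ∃ z, z = Q y • z0 := ⟨_, rfl⟩
  have za : polar Q a z = 0 := by rw [hzd, polar_smul_right', hz1 a (Submodule.subset_span (by simp)), mul_zero]
  have zb : polar Q b z = 0 := by rw [hzd, polar_smul_right', hz1 b (Submodule.subset_span (by simp)), mul_zero]
  have zx : polar Q x z = 0 := by rw [hzd, polar_smul_right', hz1 x (Submodule.subset_span (by simp)), mul_zero]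
  have zy : polar Q y z = Q y := by rw [hzd, polar_smul_right', hz0, mul_one]
  have hQz : Q z ≠ 0 := fun h0 => by
    have hm := hts z h0 za zb zx
    have hle' : Submodule.span F ({a, b, x} : Set V) ≤ LinearMap.ker (polarBilin Q y) :=
      Submodule.span_le.2 (by
        rintro w (rfl | rfl | rfl)
        · show polar Q y w = 0; rw [polar_comm]; exact hy.1
        · show polar Q y w = 0; rw [polar_comm]; exact hy.2
        · show polar Q y w = 0; rw [polar_comm]; exact hxy)
    have : polar Q y z = 0 := hle' hm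
    rw [zy] at this
    exact hc this
  obtain ⟨δ, hδ⟩ := isSquare_of_charTwo' (Q y / Q z)
  have hv : Q (δ • z) = Q y := by rw [apply_smul, ← hδ, div_mul_cancel₀ _ hQz]
  obtain ⟨g, -, hg⟩ := exists_ratio hB.nondeg (by omega) hc (by rw [hv]; exact hc) hv.symm
  have gfix : ∀ w, polar Q w z = 0 → polar Q w y = 0 → ap g w = w := fun w w1 w2 => by
    rw [hg, polar_smul_right', w1, mul_zero, mul_zero, zero_smul, zero_sub, polar_neg_left, w2, neg_zero, mul_zero,
      zero_smul, zero_sub, neg_neg]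
  have gz : ap g z = z + y := by
    rw [hg, polar_smul_right', polar_self', h2, zero_mul, mul_zero, mul_zero, zero_smul, zero_sub, polar_neg_left,
      polar_comm, zy, mul_neg, inv_mul_cancel₀ hc, neg_smul, one_smul, sub_neg_eq_add,
      show (-y : V) = y by rw [← neg_one_smul F y, show (-1 : F) = 1 by linear_combination -h2, one_smul], add_comm]
  have hcz : Commute (El a b : SpinV Q) (El x z) := El_commute ha hab hx'.1 hx'.2 za zb
  have hcy : Commute (El a b : SpinV Q) (El x y) := El_commute ha hab hx'.1 hx'.2 hy.1 hy.2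
  have key := C.cm_conj_eq hcz g
  rw [conj_El, conj_El, gfix a za hy.1, gfix b zb hy.2, gfix x zx hxy, gz, ← El_add hx zx hxy,
    C.cm_add_right hcy] at key
  exact mul_eq_left.1 key

variable {a b : V}
include C

/-- long elements of a pair commute with the elements orthogonal to it -/
theorem kill_smul (h : TS Q a b) (t : F) {x y : V} (hx : Q x = 0) (hxy : polar Q x y = 0) (hx' : T2 Q a b x)
    (hy : T2 Q a b y) {α β : Γ} (hα : π α = El b (t • a)) (hβ : π β = El x y) : Commute α β := by
  refine C.commute_of_cm hα hβ ?_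
  rw [El_swap_smul h]
  exact kill hB C (h.smul _) hx hxy (hx'.smul_right _) (hy.smul_right _)

/-- the basic pairing -/
def phi (a b v u : V) : Γ := C.cm (El a v : SpinV Q) (El b u)

theorem π_phi (h : TS Q a b) {v u : V} (hv : T2 Q a b v) (hu : T2 Q a b u) :
    π (phi C a b v u) = El b (polar Q v u • a) := by
  rw [phi, C.σ_cm, El_bracket h.1 hv.1 h.2.1 hu.2 h.2.2 hu.1 (by rw [polar_comm]; exact hv.2)]

theorem phi_comm (h : TS Q a b) {v u v' u' : V} (hv : T2 Q a b v) (hu : T2 Q a b u) (hv' : T2 Q a b v')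
    (hu' : T2 Q a b u') : Commute (phi C a b v u) (phi C a b v' u') :=
  kill_smul hB C h _ h.2.1 (by rw [polar_smul_right', h.symm.2.2, mul_zero]) (T2_right h)
    ((T2_left h).smul _) (π_phi hB C h hv hu) (π_phi hB C h hv' hu')

theorem phi_add_left (h : TS Q a b) {v v' u : V} (hv : T2 Q a b v) (hv' : T2 Q a b v') (hu : T2 Q a b u) :
    phi C a b (v + v') u = phi C a b v u * phi C a b v' u := by
  rw [phi, ← El_add h.1 hv.1 hv'.1, C.cm_mul_left]
  · exact phi_comm hB C h hv' hu hv hu
  · intro x y hx hy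
    rw [El_bracket h.1 hv'.1 h.2.1 hu.2 h.2.2 hu.1 (by rw [polar_comm]; exact hv'.2)] at hy
    exact (kill_smul hB C h _ h.1 hv.1 (T2_left h) hv hy hx).symm

theorem phi_add_right (h : TS Q a b) {v u u' : V} (hv : T2 Q a b v) (hu : T2 Q a b u) (hu' : T2 Q a b u') :
    phi C a b v (u + u') = phi C a b v u * phi C a b v u' := by
  rw [phi, ← El_add h.2.1 hu.2 hu'.2, C.cm_mul_right]
  · rfl
  · intro x y hx hy
    rw [El_bracket h.1 hv.1 h.2.1 hu'.2 h.2.2 hu'.1 (by rw [polar_comm]; exact hv.2)] at hy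
    exact (kill_smul hB C h _ h.2.1 hu.2 (T2_right h) hu hy hx).symm

theorem phi_zero_left (h : TS Q a b) {u : V} : phi C a b 0 u = 1 := by
  rw [phi, El_zero, C.cm_one_left]

theorem phi_zero_right (h : TS Q a b) {v : V} : phi C a b v 0 = 1 := by
  rw [phi, El_zero, C.cm_one_right]

theorem phi_inv (h : TS Q a b) {v v' u : V} (hv : T2 Q a b v) (hv' : T2 Q a b v') (hu : T2 Q a b u) {x y : V}
    (hx : Q x = 0) (hxy : polar Q x y = 0) (x2 : T2 Q a b x) (y2 : T2 Q a b y) :
    phi C a b (ap (El x y : SpinV Q) v) (ap (El x y : SpinV Q) u) = phi C a b v u := by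
  obtain ⟨γ, hγ⟩ := C.surj (El x y)
  have e := C.conj_cm hγ (El a v) (El b u)
  rw [conj_El, conj_El,
    ap_El_fix hx hxy (z := a) (by rw [polar_comm]; exact x2.1) (by rw [polar_comm]; exact y2.1),
    ap_El_fix hx hxy (z := b) (by rw [polar_comm]; exact x2.2) (by rw [polar_comm]; exact y2.2)] at e
  rw [phi, ← e]
  show γ * phi C a b v u * γ⁻¹ = _
  rw [← (kill_smul hB C h _ hx hxy x2 y2 (π_phi hB C h hv hu) hγ).eq, mul_inv_cancel_right]

theorem axis (h : TS Q a b) {e f x0 x1 : V} (he : Q e = 0) (hf : Q f = 0) (hef : polar Q e f = 1)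
    (he2 : T2 Q a b e) (hf2 : T2 Q a b f) (hx0 : T2 Q a b x0) (h00 : polar Q e x0 = 0) (h01 : polar Q f x0 = 0)
    (hx1 : T2 Q a b x1) (h10 : polar Q e x1 = 0) (h11 : polar Q f x1 = 0) (hx : polar Q x0 x1 = 1) :
    (∀ t s : F, phi C a b (t • f) (s • f) = 1) ∧
    (∀ x, T2 Q a b x → polar Q e x = 0 → polar Q f x = 0 → ∀ s : F, phi C a b x (s • f) = 1 ∧
      phi C a b (s • f) x = 1) := by
  have gf : ∀ x, T2 Q a b x → polar Q f x = 0 → ∀ s : F, ap (El f x : SpinV Q) (s • f) = s • f := fun x _ h1 s => by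
    rw [map_smul, ap_El_fix hf h1 (by rw [polar_self', hf, mul_zero]) (by rw [polar_comm]; exact h1)]
  have ge : ∀ x, T2 Q a b x → polar Q e x = 0 → polar Q f x = 0 → ∀ t : F,
      ap (El f x : SpinV Q) (t • e) = t • e + ((-t) • x + (-t * Q x) • f) := fun x _ h0 h1 t => by
    rw [map_smul, ap_El hf h1, polar_comm (⇑Q) x e, h0, polar_comm (⇑Q) f e, hef]
    module
  have gw : ∀ x y, polar Q f x = 0 → polar Q f y = 0 →
      ap (El f x : SpinV Q) y = y + polar Q x y • f := fun x y h1 h2 => by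
    rw [ap_El hf h1, h2]; module
  have hff : ∀ t s : F, phi C a b (t • f) (s • f) = 1 := by
    intro t s
    have k1 : polar Q f (s • x0) = 0 := by rw [polar_smul_right', h01, mul_zero]
    have := phi_inv hB C h (hf2.smul t) hx1 hx1 hf k1 hf2 (hx0.smul s)
    rw [gf _ (hx0.smul s) k1, gw _ _ k1 h11, polar_smul_left', hx, mul_one,
      phi_add_right hB C h (hf2.smul t) hx1 (hf2.smul s)] at this
    exact mul_eq_left.1 this
  refine ⟨hff, fun x x2 hx0' hx1' s => ?_⟩
  have hm : T2 Q a b ((-(-1) : F) • x) := x2.smul _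
  have hq : ∀ c : F, T2 Q a b (c • f) := hf2.smul
  constructor
  · have := phi_inv hB C h (he2.smul (-1)) (hq s) (hq s) hf hx1' hf2 x2
    rw [gf _ x2 hx1', ge _ x2 hx0' hx1', phi_add_left hB C h (he2.smul (-1)) (hm.add (hq _)) (hq s),
      phi_add_left hB C h hm (hq _) (hq s), hff, mul_one] at this
    have := mul_eq_left.1 this
    rwa [neg_neg, one_smul] at this
  · have := phi_inv hB C h (hq s) (he2.smul (-1)) (he2.smul (-1)) hf hx1' hf2 x2
    rw [gf _ x2 hx1', ge _ x2 hx0' hx1', phi_add_right hB C h (hq s) (he2.smul (-1)) (hm.add (hq _)),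
      phi_add_right hB C h (hq s) hm (hq _), hff, mul_one] at this
    have := mul_eq_left.1 this
    rwa [neg_neg, one_smul] at this

/-- the pairing is a function of the polar form -/
theorem exists_form (h : TS Q a b) : ∃ f0 : F → Γ, ∀ v u, T2 Q a b v → T2 Q a b u →
    phi C a b v u = f0 (polar Q v u) := by
  have h8 := hB.dim
  have hd := finrank_span_two hB.nondeg a b
  obtain ⟨e, f, he', hf', he, hf, hef⟩ := exists_pair_perp hB.nondeg (Submodule.span F ({a, b} : Set V)) (by
    have := Submodule.finrank_mono (inf_le_left (a := Submodule.span F ({a, b} : Set V))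
      (b := orth Q (Submodule.span F ({a, b} : Set V))))
    omega)
  rw [mem_orth_span] at he' hf'
  simp only [Set.mem_insert_iff, Set.mem_singleton_iff, forall_eq_or_imp, forall_eq] at he' hf'
  have he2 : T2 Q a b e := he'
  have hf2 : T2 Q a b f := hf'
  obtain ⟨x0, x1, hx0', hx1', hx⟩ := exists_one_perp hB.nondeg (Submodule.span F ({e, f, a, b} : Set V)) (by
    have h1 := Submodule.finrank_mono (rad_le hB.nondeg he hf hef (s := ({a, b} : Set V))
      (by rintro u (rfl | rfl)
          · exact ⟨by rw [polar_comm]; exact he2.1, by rw [polar_comm]; exact hf2.1⟩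
          · exact ⟨by rw [polar_comm]; exact he2.2, by rw [polar_comm]; exact hf2.2⟩) le_rfl)
    have h2 := finrank_span_four hB.nondeg e f a b
    omega)
  rw [mem_orth_span] at hx0' hx1'
  simp only [Set.mem_insert_iff, Set.mem_singleton_iff, forall_eq_or_imp, forall_eq] at hx0' hx1'
  obtain ⟨h00, h01, a0⟩ := hx0'
  obtain ⟨h10, h11, a1⟩ := hx1'
  have hfe : polar Q f e = 1 := by rw [polar_comm]; exact hef
  obtain ⟨hff, hwf⟩ := axis hB C h he hf hef he2 hf2 a0 h00 h01 a1 h10 h11 hx
  obtain ⟨hee, hwe⟩ := axis hB C h hf he hfe hf2 he2 a0 h01 h00 a1 h11 h10 hx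
  obtain ⟨W, hW⟩ : ∃ W : V → Prop, W = fun x => T2 Q a b x ∧ polar Q e x = 0 ∧ polar Q f x = 0 := ⟨_, rfl⟩
  have hW' : ∀ x, W x ↔ T2 Q a b x ∧ polar Q e x = 0 ∧ polar Q f x = 0 := fun x => by rw [hW]
  have hq : ∀ c : F, T2 Q a b (c • f) := hf2.smul
  have hp : ∀ c : F, T2 Q a b (c • e) := he2.smul
  have inv_eq : ∀ {p p' q : V}, T2 Q a b p → T2 Q a b p' → T2 Q a b q → p + p' = 0 →
      phi C a b p q * phi C a b p' q = 1 := fun hp hp' hq e0 => by
    rw [← phi_add_left hB C h hp hp' hq, e0, phi_zero_left hB C h]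
  have inv_eq' : ∀ {p q q' : V}, T2 Q a b p → T2 Q a b q → T2 Q a b q' → q + q' = 0 →
      phi C a b p q * phi C a b p q' = 1 := fun hp hq hq' e0 => by
    rw [← phi_add_right hB C h hp hq hq', e0, phi_zero_right hB C h]
  have three : ∀ x x', W x → W x' → ∀ t : F,
      phi C a b (t • x) x' = phi C a b (t • e) (polar Q x x' • f) ∧
      phi C a b x' (t • x) = phi C a b (polar Q x x' • f) (t • e) := by
    intro x x' hxW hxW' t
    obtain ⟨x2, x3, x4⟩ := (hW' x).1 hxW
    obtain ⟨y2, y3, y4⟩ := (hW' x').1 hxW'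
    obtain ⟨β, hβ⟩ : ∃ β, β = polar Q x x' := ⟨_, rfl⟩
    have gx' : ap (El f x : SpinV Q) x' = x' + β • f := by
      rw [ap_El hf x4, y4, hβ]; module
    have gte : ap (El f x : SpinV Q) (t • e) = t • e + ((-t) • x + (-t * Q x) • f) := by
      rw [map_smul, ap_El hf x4, polar_comm (⇑Q) x e, x3, hfe]; module
    have hm := x2.smul (-t)
    have hmp : polar Q e ((-t) • x) = 0 := by rw [polar_smul_right', x3, mul_zero]
    have hmq : polar Q f ((-t) • x) = 0 := by rw [polar_smul_right', x4, mul_zero]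
    rw [← hβ]
    constructor
    · have := phi_inv hB C h (hp t) y2 y2 hf x4 hf2 x2
      rw [gx', gte, phi_add_left hB C h (hp t) (hm.add (hq _)) (y2.add (hq β)),
        phi_add_right hB C h (hp t) y2 (hq β), phi_add_left hB C h hm (hq _) (y2.add (hq β)),
        phi_add_right hB C h hm y2 (hq β), phi_add_right hB C h (hq _) y2 (hq β), (hwe x' y2 y4 y3 t).2, one_mul,
        (hwf _ hm hmp hmq β).1, (hwf x' y2 y3 y4 (-t * Q x)).2, hff, mul_one, mul_one, mul_one] at this
      have h1 := inv_eq (x2.smul t) hm y2 (by module)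
      rw [eq_inv_of_mul_eq_one_left h1, eq_inv_of_mul_eq_one_left this]
    · have := phi_inv hB C h y2 (hp t) (hp t) hf x4 hf2 x2
      rw [gx', gte, phi_add_left hB C h y2 (hq β) ((hp t).add (hm.add (hq _))),
        phi_add_right hB C h y2 (hp t) (hm.add (hq _)), phi_add_right hB C h (hq β) (hp t) (hm.add (hq _)),
        phi_add_right hB C h y2 hm (hq _), phi_add_right hB C h (hq β) hm (hq _), (hwe x' y2 y4 y3 t).1, one_mul,
        (hwf x' y2 y3 y4 (-t * Q x)).1, (hwf _ hm hmp hmq β).2, hff, mul_one, mul_one, mul_one] at this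
      have h1 := inv_eq' y2 hm (x2.smul t) (by module)
      rw [eq_inv_of_mul_eq_one_right h1, eq_inv_of_mul_eq_one_right this]
  obtain ⟨f0, hf0⟩ : ∃ f0 : F → Γ, f0 = fun c => phi C a b e (c • f) := ⟨_, rfl⟩
  have w0 : W x0 := (hW' x0).2 ⟨a0, h00, h01⟩
  have w1 : W x1 := (hW' x1).2 ⟨a1, h10, h11⟩
  have wsmul : ∀ (c : F) x, W x → W (c • x) := fun c x hx => by
    obtain ⟨x2, x3, x4⟩ := (hW' x).1 hx
    exact (hW' _).2 ⟨x2.smul c, by rw [polar_smul_right', x3, mul_zero], by rw [polar_smul_right', x4, mul_zero]⟩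
  have hww : ∀ x x', W x → W x' → phi C a b x x' = f0 (polar Q x x') := fun x x' h1 h2 => by
    have := (three x x' h1 h2 1).1
    rw [one_smul, one_smul] at this
    rw [this, hf0]
  have heF : ∀ t s : F, phi C a b (t • e) (s • f) = f0 (t * s) := fun t s => by
    have := (three x0 (s • x1) w0 (wsmul s _ w1) t).1
    rw [hww _ _ (wsmul t _ w0) (wsmul s _ w1), polar_smul_left', polar_smul_right', hx, mul_one] at this
    exact this.symm
  have hFe : ∀ t s : F, phi C a b (s • f) (t • e) = f0 (t * s) := fun t s => by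
    have := (three x0 (s • x1) w0 (wsmul s _ w1) t).2
    rw [hww _ _ (wsmul s _ w1) (wsmul t _ w0), polar_smul_left', polar_smul_right', polar_smul_right',
      polar_comm (⇑Q) x1 x0, hx, mul_one, mul_one, mul_comm] at this
    exact this.symm
  have hadd : ∀ c d, f0 (c + d) = f0 c * f0 d := fun c d => by
    rw [hf0]; simp only
    rw [add_smul, phi_add_right hB C h he2 (hq c) (hq d)]
  refine ⟨f0, fun v u hv hu => ?_⟩
  have decomp : ∀ v, T2 Q a b v → ∃ α γ : F, ∃ w, W w ∧ v = α • e + (γ • f + w) := fun v hv => by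
    refine ⟨polar Q v f, polar Q v e, v + ((-polar Q v f) • e + (-polar Q v e) • f), ?_, by module⟩
    refine (hW' _).2 ⟨hv.add ((hp _).add (hq _)), ?_, ?_⟩
    · simp only [polar_add_right', polar_smul_right', polar_self', he, hef, polar_comm (⇑Q) e v]; ring
    · simp only [polar_add_right', polar_smul_right', polar_self', hf, hfe, polar_comm (⇑Q) f v]; ring
  obtain ⟨α, γ, x, hxW, rfl⟩ := decomp v hv
  obtain ⟨α', γ', x', hxW', rfl⟩ := decomp u hu
  obtain ⟨x2, x3, x4⟩ := (hW' x).1 hxW
  obtain ⟨y2, y3, y4⟩ := (hW' x').1 hxW'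
  have hr := (hq γ').add y2
  rw [phi_add_left hB C h (hp α) ((hq γ).add x2) ((hp α').add hr),
    phi_add_left hB C h (hq γ) x2 ((hp α').add hr),
    phi_add_right hB C h (hp α) (hp α') hr, phi_add_right hB C h (hp α) (hq γ') y2,
    phi_add_right hB C h (hq γ) (hp α') hr, phi_add_right hB C h (hq γ) (hq γ') y2,
    phi_add_right hB C h x2 (hp α') hr, phi_add_right hB C h x2 (hq γ') y2,
    hee, hff, (hwe x' y2 y4 y3 α).2, (hwf x' y2 y3 y4 γ).2, (hwe x x2 x4 x3 α').1, (hwf x x2 x3 x4 γ').1,
    heF, hFe, hww _ _ hxW hxW']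
  simp only [one_mul, mul_one]
  rw [← hadd, ← hadd]
  congr 1
  simp only [polar_add_left', polar_add_right', polar_smul_left', polar_smul_right', polar_self', he, hf, hef, hfe,
    x3, x4, y3, y4, polar_comm (⇑Q) x e, polar_comm (⇑Q) x f]
  ring

theorem long_indep (h : TS Q a b) {v u v' u' : V} (hv : T2 Q a b v) (hu : T2 Q a b u) (hv' : T2 Q a b v')
    (hu' : T2 Q a b u') (he : polar Q v u = polar Q v' u') : phi C a b v u = phi C a b v' u' := by
  obtain ⟨f0, hf0⟩ := exists_form hB C h
  rw [hf0 v u hv hu, hf0 v' u' hv' hu', he]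

end

end CfsgLib.Known.SpinMinus
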