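import Cfsg.Agent.Lib.Known.SpinMinus.Standard
import Cfsg.Agent.Lib.Known.SpinMult.Multiplier

/-!
# The multiplier of the orthogonal groups of minus type
-/

set_option autoImplicit false
set_option linter.unusedSectionVars false

namespace CfsgLib.Known.SpinMinus

noncomputable section

open QuadraticMap CliffordAlgebra CfsgLib.Classical.Quad

universe u

section Cover

variable {F : Type*} [Field F] [Finite F] {V : Type*} [AddCommGroup V] [Module F V] [FiniteDimensional F V]
  {Q : QuadraticForm F V} (hQ : (polarBilin Q).Nondegenerate) (hn : 5 ≤ Module.finrank F V)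
include hQ hn

/-- onto `Ω` -/
def toC : SpinV Q →* commutator (OQ Q) :=
  (toO (Q := Q)).codRestrict _ fun g => range_toO hQ hn ▸ MonoidHom.mem_range.2 ⟨g, rfl⟩

/-- onto the central quotient of `Ω` -/
def theta : SpinV Q →* commutator (OQ Q) ⧸ Subgroup.center (commutator (OQ Q)) :=
  (QuotientGroup.mk' _).comp (toC hQ hn)

theorem toC_surjective : Function.Surjective (toC hQ hn) := fun x => by
  have h : (x : OQ Q) ∈ (toO (Q := Q)).range := by rw [range_toO hQ hn]; exact x.2
  obtain ⟨g, hg⟩ := h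
  exact ⟨g, Subtype.ext hg⟩

theorem theta_surjective : Function.Surjective (theta hQ hn) :=
  (QuotientGroup.mk'_surjective _).comp (toC_surjective hQ hn)

theorem mem_ker_theta {g : SpinV Q} :
    g ∈ (theta hQ hn).ker ↔ ∃ c : F, c * c = 1 ∧ ∀ z, ap g z = c • z := by
  rw [MonoidHom.mem_ker, theta, MonoidHom.comp_apply, QuotientGroup.mk'_apply, QuotientGroup.eq_one_iff,
    center_Omega_iff hQ hn]
  rfl

theorem ker_theta_le : (theta hQ hn).ker ≤ Subgroup.center (SpinV Q) := fun g hg => by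
  obtain ⟨c, hc, h⟩ := (mem_ker_theta hQ hn).1 hg
  have hgen : ∀ u v, Q u = 0 → polar Q u v = 0 → Commute g (El u v) := fun u v hu hv => by
    have hcv : polar Q u (c • v) = 0 := by rw [polar_smul_right', hv, mul_zero]
    rw [commute_iff_eq, ← mul_inv_eq_iff_eq_mul, conj_El, h, h, El_smul_comm hu hcv, smul_smul, hc, one_smul]
  rw [Subgroup.mem_center_iff]
  intro y
  refine spin_induction (P := fun y => Commute y g) (Commute.one_left g) (fun _ _ => Commute.mul_left)
    (fun _ => Commute.inv_left) (fun u v hu hv => (hgen u v hu hv).symm) y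

theorem card_ker_theta : Nat.card (theta hQ hn).ker =
    Nat.card (toO (Q := Q)).ker * Nat.card (Subgroup.center (commutator (OQ Q))) := by
  have hk : (theta hQ hn).ker = (Subgroup.center (commutator (OQ Q))).comap (toC hQ hn) := by
    rw [theta, ← MonoidHom.comap_ker, QuotientGroup.ker_mk']
  have hle : (toC hQ hn).ker ≤ (Subgroup.center (commutator (OQ Q))).comap (toC hQ hn) :=
    fun g hg => by rw [Subgroup.mem_comap, MonoidHom.mem_ker.1 hg]; exact one_mem _
  have h := Subgroup.relIndex_mul_relIndex ⊥ _ _ bot_le hle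
  have h1 : (toC hQ hn).ker.relIndex ((Subgroup.center (commutator (OQ Q))).comap (toC hQ hn)) =
      Nat.card (Subgroup.center (commutator (OQ Q))) := by
    rw [← MonoidHom.comap_bot, Subgroup.relIndex_comap,
      Subgroup.map_comap_eq_self_of_surjective (toC_surjective hQ hn), Subgroup.relIndex_bot_left]
  rw [Subgroup.relIndex_bot_left, Subgroup.relIndex_bot_left, h1] at h
  rw [hk, ← h, show (toC hQ hn).ker = (toO (Q := Q)).ker from MonoidHom.ker_codRestrict _ _ _]

omit hn in
theorem card_ker_toO_one (h2 : (2 : F) = 0) : Nat.card (toO (Q := Q)).ker = 1 := by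
  have : ∀ y : (toO (Q := Q)).ker, y = 1 := fun y => by
    refine Subtype.ext (ext_val ?_)
    rcases val_of_ker hQ (g := (y : SpinV Q)) (fun z => by rw [ap, MonoidHom.mem_ker.1 y.2]; rfl) with h | h
    · exact h.trans val_one.symm
    · rw [h, OneMemClass.coe_one, val_one]
      have : ((-1 : F)) = 1 := by linear_combination -h2
      rw [← map_one (algebraMap F (CliffordAlgebra Q)), ← map_neg, this]
  have : Subsingleton (toO (Q := Q)).ker := ⟨fun a b => (this a).trans (this b).symm⟩
  exact Nat.card_unique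

theorem card_ker_toO_two {v : V} (hv : Q v ≠ 0) (h2 : (2 : F) ≠ 0) : Nat.card (toO (Q := Q)).ker = 2 := by
  obtain ⟨z, hz⟩ := exists_neg_one hQ hn hv
  have hmem : z ∈ (toO (Q := Q)).ker := by
    rw [MonoidHom.mem_ker]
    refine Subtype.ext (LinearEquiv.ext fun w => ?_)
    show ap z w = w
    have hzc : ∀ x, val z * x = x * val z := fun x => by rw [hz]; simp
    rw [ap_def]
    refine SpinMult.actv_eq (bmV F V) ?_
    show val z * _ * _ = _
    rw [hzc, mul_assoc]
    exact (congrArg (ι Q w * ·) (Units.mul_inv _)).trans (mul_one _)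
  have hne : (⟨z, hmem⟩ : (toO (Q := Q)).ker) ≠ 1 := fun e => by
    have : val z = val (1 : SpinV Q) := by rw [show z = 1 from congrArg Subtype.val e]
    rw [hz, val_one, ← map_one (algebraMap F (CliffordAlgebra Q)), ← map_neg] at this
    exact h2 (by linear_combination -(SpinMult.algebraMap_inj (bmV F V) this))
  refine (Nat.card_eq_two_iff' 1).2 ⟨_, hne, fun y hy => ?_⟩
  rcases val_of_ker hQ (g := (y : SpinV Q)) (fun z => by rw [ap, MonoidHom.mem_ker.1 y.2]; rfl) with h | h
  · exact absurd (Subtype.ext (ext_val (h.trans val_one.symm))) hy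
  · exact Subtype.ext (ext_val (h.trans hz.symm))

omit hn in
theorem ι_commute_pair {w u v : V} (hu : polar Q w u = 0) (hv : polar Q w v = 0) :
    Commute (ι Q w) (ι Q u * ι Q v) := by
  show _ = _
  rw [← mul_assoc, ι_mul_ι_comm w u, hu, map_zero, zero_sub, neg_mul, mul_assoc, ι_mul_ι_comm w v, hv, map_zero,
    zero_sub, mul_neg, neg_neg, mul_assoc]

omit hn in
theorem pair_sq_neg {u v : V} (h : polar Q u v = 0) :
    ι Q u * ι Q v * (ι Q u * ι Q v) = -(algebraMap F _ (Q u * Q v)) := by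
  rw [mul_assoc, ← mul_assoc (ι Q v), ι_mul_ι_comm v u, polar_comm (⇑Q) v u, h, map_zero, zero_sub, neg_mul,
    mul_neg, mul_assoc (ι Q u) (ι Q v), ι_sq_scalar, ← mul_assoc, ι_sq_scalar, ← map_mul]

/-- a pair element -/
theorem exists_pairElt {u v : V} (hu : Q u ≠ 0) (h : Q v = Q u) (huv : polar Q u v = 0) :
    ∃ g : SpinV Q, val g = (Q v)⁻¹ • (ι Q u * ι Q v) ∧ val g * val g = -1 ∧ ap g u = -u ∧ ap g v = -v ∧
      (∀ w, polar Q w u = 0 → polar Q w v = 0 → ap g w = w) ∧
      ∀ w, polar Q w u = 0 → polar Q w v = 0 → Commute (ι Q w) (val g) := by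
  have hv : Q v ≠ 0 := h ▸ hu
  obtain ⟨g, hg, hap⟩ := exists_ratio hQ hn hu hv h.symm
  refine ⟨g, hg, ?_, ?_, ?_, fun w hwu hwv => ?_, fun w hwu hwv => ?_⟩
  · rw [hg, smul_mul_smul_comm, pair_sq_neg hQ huv, h, smul_neg, Algebra.smul_def, ← map_mul,
      show (Q u)⁻¹ * (Q u)⁻¹ * (Q u * Q u) = 1 by field_simp, map_one]
  · rw [hap, huv, mul_zero, zero_smul, zero_sub, polar_neg_left, polar_self']
    match_scalars
    field_simp
    ring
  · rw [hap, polar_self', polar_sub_left, polar_smul_left', polar_comm (⇑Q) v u, huv, mul_zero, sub_zero,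
      mul_zero, zero_smul, zero_sub]
    match_scalars
    field_simp
    ring
  · rw [hap, hwv, mul_zero, zero_smul, zero_sub, polar_neg_left, hwu, neg_zero, mul_zero, zero_smul, zero_sub,
      neg_neg]
  · rw [hg]; exact (ι_commute_pair hQ hwu hwv).smul_right _

end Cover

section Minus

variable {F : Type u} [Field F] [Finite F] {k : ℕ} {a b : F}
  (hab : ∀ z₁ z₂ : F, z₁ ^ 2 + a * z₁ * z₂ + b * z₂ ^ 2 = 0 → z₁ = 0 ∧ z₂ = 0) (hk : 3 ≤ k)
include hab hk

theorem finrank_minus : 5 ≤ Module.finrank F (Vm F k) := by simp [Module.finrank_pi]; omega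

theorem exists_omega_step (h2 : (2 : F) ≠ 0) (t : ℕ) (ht : 2 * t ≤ k) :
    ∃ ω : SpinV (qMinus k F a b), val ω * val ω = 1 ∧
      (∀ i : Fin k, i.val < 2 * t → ap ω (ev F k i) = -ev F k i ∧ ap ω (fv F k i) = -fv F k i) ∧
      (∀ w : Vm F k, (∀ i : Fin k, i.val < 2 * t → w (Sum.inl (Sum.inl i)) = 0 ∧ w (Sum.inl (Sum.inr i)) = 0) →
        Commute (ι (qMinus k F a b) w) (val ω) ∧ ap ω w = w) := by
  have hQ := qMinus_nondeg hab k
  have hn := finrank_minus hab hk
  induction t with
  | zero =>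
    exact ⟨1, by rw [val_one, mul_one], fun i hi => absurd hi (by omega),
      fun w _ => ⟨by rw [val_one]; exact Commute.one_right _, ap_one w⟩⟩
  | succ t ih =>
    obtain ⟨ω, h1, h3, h4⟩ := ih (by omega)
    obtain ⟨i, hi⟩ : ∃ i : Fin k, i.val = 2 * t := ⟨⟨2 * t, by omega⟩, rfl⟩
    obtain ⟨j, hj⟩ : ∃ j : Fin k, j.val = 2 * t + 1 := ⟨⟨2 * t + 1, by omega⟩, rfl⟩
    have hij : i ≠ j := fun e => by rw [e] at hi; omega
    obtain ⟨X, hX⟩ : ∃ X : Fin k → Vm F k, X = fun r => ev F k r + fv F k r := ⟨_, rfl⟩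
    obtain ⟨Y, hY⟩ : ∃ Y : Fin k → Vm F k, Y = fun r => ev F k r - fv F k r := ⟨_, rfl⟩
    have pX : ∀ r (w : Vm F k), polar (qMinus k F a b) (X r) w =
        w (Sum.inl (Sum.inr r)) + w (Sum.inl (Sum.inl r)) := fun r w => by rw [hX, polar_add_left', pol_ev, pol_fv]
    have pY : ∀ r (w : Vm F k), polar (qMinus k F a b) (Y r) w =
        w (Sum.inl (Sum.inr r)) - w (Sum.inl (Sum.inl r)) := fun r w => by rw [hY, polar_sub_left, pol_ev, pol_fv]
    have qX : ∀ r, qMinus k F a b (X r) = 1 := fun r => by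
      rw [hX, apply_add, Q_ev, Q_fv, pol_ev]; simp [fv]
    have qY : ∀ r, qMinus k F a b (Y r) = -1 := fun r => by
      simp only [hY]; rw [sub_eq_add_neg, apply_add, QuadraticMap.map_neg, Q_ev, Q_fv, polar_neg_right, pol_ev]; simp [fv]
    obtain ⟨g, hg, hg2, gu, gv, gfix, gcomm⟩ := exists_pairElt hQ hn (u := X i) (v := X j)
      (by rw [qX]; exact one_ne_zero) (by rw [qX, qX]) (by rw [pX, hX]; simp [ev, fv, hij, hij.symm])
    obtain ⟨g', hg', hg2', gu', gv', gfix', gcomm'⟩ := exists_pairElt hQ hn (u := Y i) (v := Y j)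
      (by rw [qY]; simp) (by rw [qY, qY]) (by rw [pY, hY]; simp [ev, fv, hij, hij.symm])
    have high : ∀ w : Vm F k, w = X i ∨ w = X j ∨ w = Y i ∨ w = Y j →
        ∀ r : Fin k, r.val < 2 * t → w (Sum.inl (Sum.inl r)) = 0 ∧ w (Sum.inl (Sum.inr r)) = 0 := by
      intro w hw r hr
      have hri : r ≠ i := fun e => by rw [e] at hr; omega
      have hrj : r ≠ j := fun e => by rw [e] at hr; omega
      rcases hw with rfl | rfl | rfl | rfl <;> simp [hX, hY, ev, fv, hri, hrj]
    have XY : ∀ r s : Fin k, polar (qMinus k F a b) (X r) (Y s) = 0 := fun r s => by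
      rw [pX, hY]
      by_cases h : r = s <;> simp [ev, fv, h]
    have ω_comm : ∀ u v : Vm F k, (u = X i ∨ u = X j ∨ u = Y i ∨ u = Y j) →
        (v = X i ∨ v = X j ∨ v = Y i ∨ v = Y j) →
        Commute (ι (qMinus k F a b) u * ι (qMinus k F a b) v) (val ω) := fun u v hu hv =>
      ((h4 u (high u hu)).1).mul_left (h4 v (high v hv)).1
    have c1 : Commute (val g) (val ω) := by rw [hg]; exact (ω_comm _ _ (by simp) (by simp)).smul_left _
    have c2 : Commute (val g') (val ω) := by rw [hg']; exact (ω_comm _ _ (by simp) (by simp)).smul_left _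
    have c3 : Commute (val g) (val g') := by
      rw [hg]
      exact (Commute.mul_left (gcomm' _ (XY i i) (XY i j)) (gcomm' _ (XY j i) (XY j j))).smul_left _
    refine ⟨ω * (g * g'), ?_, ?_, ?_⟩
    · rw [val_mul, val_mul, (c1.mul_left c2).mul_mul_mul_comm, h1, one_mul, c3.symm.mul_mul_mul_comm, hg2, hg2',
        neg_mul_neg, one_mul]
    · intro r hr
      have eX : ∀ z : Vm F k, polar (qMinus k F a b) z (X i) = 0 → polar (qMinus k F a b) z (X j) = 0 →
          polar (qMinus k F a b) z (Y i) = 0 → polar (qMinus k F a b) z (Y j) = 0 →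
          ap (ω * (g * g')) z = ap ω z := fun z a1 a2 a3 a4 => by
        rw [ap_mul, ap_mul, gfix' z a3 a4, gfix z a1 a2]
      by_cases hlow : r.val < 2 * t
      · have hri : r ≠ i := fun e => by rw [e] at hlow; omega
        have hrj : r ≠ j := fun e => by rw [e] at hlow; omega
        constructor
        · rw [eX _ (by rw [pol_ev, hX]; simp [ev, fv, hri, hri.symm]) (by rw [pol_ev, hX]; simp [ev, fv, hrj, hrj.symm])
            (by rw [pol_ev, hY]; simp [ev, fv, hri, hri.symm]) (by rw [pol_ev, hY]; simp [ev, fv, hrj, hrj.symm])]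
          exact (h3 r hlow).1
        · rw [eX _ (by rw [pol_fv, hX]; simp [ev, fv, hri, hri.symm]) (by rw [pol_fv, hX]; simp [ev, fv, hrj, hrj.symm])
            (by rw [pol_fv, hY]; simp [ev, fv, hri, hri.symm]) (by rw [pol_fv, hY]; simp [ev, fv, hrj, hrj.symm])]
          exact (h3 r hlow).2
      · have hcases : r = i ∨ r = j := by
          rcases (show r.val = 2 * t ∨ r.val = 2 * t + 1 by omega) with h | h
          · exact Or.inl (Fin.ext (h.trans hi.symm))
          · exact Or.inr (Fin.ext (h.trans hj.symm))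
        have mX : ap (ω * (g * g')) (X r) = -X r := by
          have fix : ap g' (X r) = X r := gfix' _ (XY r i) (XY r j)
          have hgX : ap g (X r) = -X r := by rcases hcases with rfl | rfl; exacts [gu, gv]
          have hrX : X r = X i ∨ X r = X j ∨ X r = Y i ∨ X r = Y j := by rcases hcases with rfl | rfl <;> simp
          rw [ap_mul, ap_mul, fix, hgX, map_neg, (h4 _ (high _ hrX)).2]
        have mY : ap (ω * (g * g')) (Y r) = -Y r := by
          have fix : ap g (Y r) = Y r := gfix _ (by rw [polar_comm]; exact XY i r) (by rw [polar_comm]; exact XY j r)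
          have hgY : ap g' (Y r) = -Y r := by rcases hcases with rfl | rfl; exacts [gu', gv']
          have hrY : Y r = X i ∨ Y r = X j ∨ Y r = Y i ∨ Y r = Y j := by rcases hcases with rfl | rfl <;> simp
          rw [ap_mul, ap_mul, hgY, map_neg, fix, map_neg, (h4 _ (high _ hrY)).2]
        constructor
        · rw [show ev F k r = (2 : F)⁻¹ • (X r + Y r) by
            rw [hX, hY]; match_scalars <;> field_simp <;> ring, map_smul, map_add, mX, mY]
          module
        · rw [show fv F k r = (2 : F)⁻¹ • (X r - Y r) by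
            rw [hX, hY]; match_scalars <;> field_simp <;> ring, map_smul, map_sub, mX, mY]
          module
    · intro w hw
      obtain ⟨wi, wi'⟩ := hw i (by omega)
      obtain ⟨wj, wj'⟩ := hw j (by omega)
      have a1 : polar (qMinus k F a b) w (X i) = 0 := by rw [polar_comm, pX, wi, wi', add_zero]
      have a2 : polar (qMinus k F a b) w (X j) = 0 := by rw [polar_comm, pX, wj, wj', add_zero]
      have a3 : polar (qMinus k F a b) w (Y i) = 0 := by rw [polar_comm, pY, wi, wi', sub_zero]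
      have a4 : polar (qMinus k F a b) w (Y j) = 0 := by rw [polar_comm, pY, wj, wj', sub_zero]
      obtain ⟨o1, o2⟩ := h4 w fun r hr => hw r (by omega)
      refine ⟨?_, by rw [ap_mul, ap_mul, gfix' w a3 a4, gfix w a1 a2, o2]⟩
      rw [val_mul, val_mul]
      exact o1.mul_right ((gcomm w a1 a2).mul_right (gcomm' w a3 a4))

theorem exists_omega_minus (h2 : (2 : F) ≠ 0) (heven : Even k) {r : F} (hr : r * r = 4 * b - a ^ 2) :
    ∃ ω : SpinV (qMinus k F a b), (∀ z, ap ω z = (-1 : F) • z) ∧ val (ω * ω) = -1 := by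
  have hQ := qMinus_nondeg hab k
  have hn := finrank_minus hab hk
  obtain ⟨t, ht⟩ := heven
  obtain ⟨ω, h1, h3, h4⟩ := exists_omega_step hab hk h2 t (by omega)
  have hr0 : r ≠ 0 := fun e => discr_ne_zero hab (by rw [← hr, e, mul_zero])
  obtain ⟨v, hv⟩ : ∃ v, v = (-(r⁻¹ * a)) • zv F k 0 + (r⁻¹ * 2) • zv F k 1 := ⟨_, rfl⟩
  have qv : qMinus k F a b v = 1 := by
    rw [hv]; simp only [apply_add, apply_smul, polar_smul_left', polar_smul_right', Q_z0, Q_z1, pol_z0]
    simp [zv]; field_simp; linear_combination -hr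
  have puv : polar (qMinus k F a b) (zv F k 0) v = 0 := by rw [pol_z0, hv]; simp [zv]; ring
  obtain ⟨g, hg, hg2, gu, gv, gfix, gcomm⟩ := exists_pairElt hQ hn (u := zv F k 0) (v := v)
    (by rw [Q_z0]; exact one_ne_zero) (by rw [qv, Q_z0]) puv
  have low : ∀ w : Vm F k, w = zv F k 0 ∨ w = v →
      ∀ i : Fin k, i.val < 2 * t → w (Sum.inl (Sum.inl i)) = 0 ∧ w (Sum.inl (Sum.inr i)) = 0 := by
    intro w hw i _
    rcases hw with rfl | rfl <;> simp [hv, zv]
  have c1 : Commute (val g) (val ω) := by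
    rw [hg]
    exact ((h4 _ (low _ (Or.inl rfl))).1.mul_left (h4 _ (low _ (Or.inr rfl))).1).smul_left _
  refine ⟨ω * g, fun z => ?_, ?_⟩
  · have fe : ∀ i, ap (ω * g) (ev F k i) = -ev F k i := fun i => by
      rw [ap_mul, gfix _ (by rw [pol_ev]; simp [zv]) (by rw [pol_ev, hv]; simp [zv])]
      exact (h3 i (by omega)).1
    have ff : ∀ i, ap (ω * g) (fv F k i) = -fv F k i := fun i => by
      rw [ap_mul, gfix _ (by rw [pol_fv]; simp [zv]) (by rw [pol_fv, hv]; simp [zv])]
      exact (h3 i (by omega)).2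
    have f0 : ap (ω * g) (zv F k 0) = -zv F k 0 := by
      rw [ap_mul, gu, map_neg, (h4 _ (low _ (Or.inl rfl))).2]
    have fv' : ap (ω * g) v = -v := by rw [ap_mul, gv, map_neg, (h4 _ (low _ (Or.inr rfl))).2]
    have f1 : ap (ω * g) (zv F k 1) = -zv F k 1 := by
      rw [show zv F k 1 = (r * 2⁻¹) • v + (a * 2⁻¹) • zv F k 0 by
        rw [hv]; match_scalars <;> field_simp <;> ring, map_add, map_smul, map_smul, fv', f0]
      module
    have : (ap (ω * g) : Vm F k →ₗ[F] Vm F k) = (-1 : F) • LinearMap.id := (Pi.basisFun F _).ext fun x => by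
      show ap (ω * g) (Pi.basisFun F _ x) = (-1 : F) • Pi.basisFun F _ x
      rw [Pi.basisFun_apply, neg_smul, one_smul]
      rcases x with (i | i) | s
      · exact fe i
      · exact ff i
      · fin_cases s
        · exact f0
        · exact f1
    exact LinearMap.congr_fun this z
  · rw [val_mul, val_mul, c1.mul_mul_mul_comm, h1, one_mul, hg2]

theorem hasSchurMultiplier_minus {A : Type*} [CommGroup A]
    (e : (theta (qMinus_nondeg hab k) (finrank_minus hab hk)).ker ≃* A) :
    Cfsg.HasSchurMultiplier (Cfsg.POmega F (⇑(qMinus k F a b))) A := by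
  have hQ := qMinus_nondeg hab k
  have hn := finrank_minus hab hk
  have : Finite (SpinV (qMinus k F a b)) := finite_SpinV hQ
  obtain ⟨θ, hθ⟩ : ∃ θ : SpinV (qMinus k F a b) →* Cfsg.POmega F (⇑(qMinus k F a b)),
      θ = (pOmegaEquiv _).symm.toMonoidHom.comp (theta hQ hn) := ⟨_, rfl⟩
  have hs : Function.Surjective θ := by
    rw [hθ]; exact (pOmegaEquiv _).symm.surjective.comp (theta_surjective hQ hn)
  have hk' : θ.ker = (theta hQ hn).ker := by ext g; simp [hθ, MonoidHom.mem_ker]
  have : Finite (Cfsg.POmega F (⇑(qMinus k F a b))) := Finite.of_surjective θ hs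
  exact SLn.hasSchurMultiplier_of_cover (perfect_minus hab hk)
    (fun Γ _ _ σ hσ => ker_eq_bot_minus hab hk hσ) θ hs (hk' ▸ ker_theta_le hQ hn)
    ((MulEquiv.subgroupCongr hk').trans e)

end Minus

/-- the multiplier of `PΩ⁻` -/
theorem multiplier_minus {F : Type u} [Field F] [Fintype F] {q : ℕ} (hF : Fintype.card F = q) {k : ℕ} (hk : 3 ≤ k)
    {a b : F} (hab : ∀ z₁ z₂ : F, z₁ ^ 2 + a * z₁ * z₂ + b * z₂ ^ 2 = 0 → z₁ = 0 ∧ z₂ = 0) :
    Cfsg.HasCyclicSchurMultiplier (Cfsg.POmega F (Cfsg.quadFormMinus k F a b)) (Nat.gcd 4 (q ^ (k + 1) + 1)) := by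
  classical
  have hQ := qMinus_nondeg hab k
  have hn := finrank_minus hab hk
  rw [← coe_qMinus]
  have hcard := card_ker_theta hQ hn
  have : Finite (SpinV (qMinus k F a b)) := finite_SpinV hQ
  rcases Nat.even_or_odd q with hev | hodd
  · have h2 := SpinMult.two_eq_zero_of_even hF hev
    rw [card_ker_toO_one hQ h2, card_center_Omega hQ hn False ⟨False.elim, fun h => h.2 h2⟩, if_neg not_false] at hcard
    have he := hev.pow_of_ne_zero (show k + 1 ≠ 0 by omega)
    rw [Nat.even_iff] at he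
    have hg : Nat.gcd 4 (q ^ (k + 1) + 1) = 1 := by
      rw [Nat.gcd_rec, Nat.gcd_comm]
      have h4 : (q ^ (k + 1) + 1) % 4 = 1 ∨ (q ^ (k + 1) + 1) % 4 = 3 := by omega
      rcases h4 with h4 | h4 <;> rw [h4] <;> rfl
    rw [hg]
    have : Subsingleton (theta hQ hn).ker := (Nat.card_eq_one_iff_unique.1 (by rw [hcard])).1
    exact hasSchurMultiplier_minus hab hk (mulEquivOfCyclicCardEq (by rw [hcard]; simp))
  have h2 := two_ne_zero_of_odd hF hodd
  have hcen := card_center_Omega hQ hn (q ^ (k + 1) % 4 = 3) (by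
    rw [negIsom_mem_iff hQ, coe_qMinus, neg_one_mem_minus_iff hF hodd k a b hab]
    exact ⟨fun h => ⟨h, h2⟩, fun h => h.1⟩)
  rw [card_ker_toO_two hQ hn (v := zv F k 0) (by rw [Q_z0]; exact one_ne_zero) h2, hcen] at hcard
  by_cases h3 : q ^ (k + 1) % 4 = 3
  · rw [if_pos h3] at hcard
    have hodd' := Nat.odd_iff.1 hodd
    have hk2 : Even k := by
      by_contra hk'
      obtain ⟨t, ht⟩ := Nat.not_even_iff_odd.1 hk'
      rw [ht, show 2 * t + 1 + 1 = 2 * (t + 1) by ring, pow_mul, Nat.pow_mod, Nat.pow_mod q 2] at h3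
      rcases (show q % 4 = 1 ∨ q % 4 = 3 by omega) with h | h <;> simp [h] at h3
    have hq3 : q % 4 = 3 := by
      rcases (show q % 4 = 1 ∨ q % 4 = 3 by omega) with h | h
      · rw [Nat.pow_mod, h] at h3; simp at h3
      · exact h
    obtain ⟨r, hr⟩ : ∃ r : F, r * r = 4 * b - a ^ 2 := by
      have hns : ¬ IsSquare (-1 : F) := fun h => by
        have := (FiniteField.isSquare_neg_one_iff (F := F)).1 h
        omega
      have hd : ¬ IsSquare (a ^ 2 - 4 * b) := by
        rintro ⟨r, hr⟩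
        have h3 := hab (r - a) 2 (by linear_combination -hr)
        exact h2 h3.2
      obtain ⟨r, hr⟩ := (isSquare_mul_iff_not h2 (x := (-1 : F)) (by simp) hd).2 hns
      exact ⟨r, by linear_combination -hr⟩
    obtain ⟨ω, hω, hω2⟩ := exists_omega_minus hab hk h2 hk2 hr
    obtain ⟨g, hg⟩ : ∃ g : (theta hQ hn).ker, (g : SpinV (qMinus k F a b)) = ω :=
      ⟨⟨ω, (mem_ker_theta hQ hn).2 ⟨-1, by ring, hω⟩⟩, rfl⟩
    have hord : orderOf g = 2 ^ (1 + 1) := by
      refine orderOf_eq_prime_pow (fun h => h2 ?_) ?_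
      · have e := congrArg (fun x : (theta hQ hn).ker => val (x : SpinV (qMinus k F a b))) h
        rw [pow_one, pow_two] at e
        simp only [Subgroup.coe_mul, OneMemClass.coe_one, hg] at e
        rw [hω2, val_one, ← map_one (algebraMap F (CliffordAlgebra (qMinus k F a b))), ← map_neg] at e
        linear_combination -(SpinMult.algebraMap_inj (bmV F (Vm F k)) e)
      · refine Subtype.ext (ext_val ?_)
        rw [SubgroupClass.coe_pow, hg, show 2 ^ (1 + 1) = 2 + 2 from rfl, pow_add, pow_two, val_mul, hω2,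
          OneMemClass.coe_one, val_one]
        simp
    have : IsCyclic (theta hQ hn).ker := isCyclic_of_orderOf_eq_card g (by rw [hord, hcard]; rfl)
    have hgcd : Nat.gcd 4 (q ^ (k + 1) + 1) = 4 := Nat.gcd_eq_left (by omega)
    rw [hgcd]
    exact hasSchurMultiplier_minus hab hk (mulEquivOfCyclicCardEq (by rw [hcard]; simp))
  · rw [if_neg h3] at hcard
    have : IsCyclic (theta hQ hn).ker := isCyclic_of_prime_card (p := 2) hcard
    have hgcd : Nat.gcd 4 (q ^ (k + 1) + 1) = 2 := by
      have : q ^ (k + 1) % 2 = 1 := Nat.odd_iff.1 hodd.pow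
      rw [Nat.gcd_rec, Nat.gcd_comm, show (q ^ (k + 1) + 1) % 4 = 2 by omega]; rfl
    rw [hgcd]
    exact hasSchurMultiplier_minus hab hk (mulEquivOfCyclicCardEq (by rw [hcard]; simp))

end

end CfsgLib.Known.SpinMinus
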