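import Cfsg.Agent.Lib.Known.SpinMinus.Vec
import Cfsg.Agent.Lib.Classical.Quad.OmegaStructure

/-!
# A covering argument on singular vectors
-/

set_option autoImplicit false
set_option linter.unusedSectionVars false

namespace CfsgLib.Known.SpinMinus

noncomputable section

open QuadraticMap CfsgLib.Classical.Quad CfsgLib.Known.SympMult

variable {F : Type*} [Field F] {V : Type*} [AddCommGroup V] [Module F V] {Q : QuadraticForm F V}

theorem span_exchange {x y : V} {s : Set V} (h : x ∈ Submodule.span F (insert y s))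
    (hx : x ∉ Submodule.span F s) : y ∈ Submodule.span F (insert x s) := by
  obtain ⟨c, r, hr, hd⟩ := Submodule.mem_span_insert.1 h
  have hc : c ≠ 0 := fun h0 => hx (by rw [hd, h0, zero_smul, zero_add]; exact hr)
  refine Submodule.mem_span_insert.2 ⟨c⁻¹, (-c⁻¹) • r, Submodule.smul_mem _ _ hr, ?_⟩
  rw [hd, smul_add, smul_smul, inv_mul_cancel₀ hc, one_smul]; module

/-- independent pairs -/
def Ind (F : Type*) [Field F] {V : Type*} [AddCommGroup V] [Module F V] (b c : V) : Prop :=
  b ≠ 0 ∧ c ∉ Submodule.span F ({b} : Set V)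

theorem Ind.symm {b c : V} (h : Ind F b c) : Ind F c b := by
  refine ⟨fun e => h.2 (e ▸ zero_mem _), fun hb => ?_⟩
  have h0 : b ∉ Submodule.span F (∅ : Set V) := by rw [Submodule.span_empty]; simpa using h.1
  have := span_exchange (s := (∅ : Set V)) (by rw [insert_empty_eq]; exact hb) h0
  rw [insert_empty_eq] at this
  exact h.2 this

theorem Ind.rot {b c d : V} (h : Ind F b c) (hd : d ∉ Submodule.span F ({b, c} : Set V)) :
    Ind F b d ∧ c ∉ Submodule.span F ({b, d} : Set V) := by
  refine ⟨⟨h.1, fun h' => hd (Submodule.span_mono (by simp) h')⟩, fun h' => ?_⟩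
  have := span_exchange (x := c) (y := d) (s := ({b} : Set V)) (by rwa [Set.pair_comm] at h') h.2
  rw [Set.pair_comm] at this
  exact hd this

theorem Ind.of_not_mem_pair {b c d : V} (hc : c ≠ 0) (hd : d ∉ Submodule.span F ({b, c} : Set V)) : Ind F c d :=
  ⟨hc, fun h' => hd (Submodule.span_mono (by simp) h')⟩

/-- one Eichler step between partners -/
def OneStep (Q : QuadraticForm F V) (b c a a' : V) : Prop :=
  ∃ x y, Q x = 0 ∧ polar Q x y = 0 ∧ polar Q b x = 0 ∧ polar Q b y = 0 ∧ polar Q c x = 0 ∧ polar Q c y = 0 ∧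
    a + (polar Q y a • x - polar Q x a • y) - (polar Q x a * Q y) • x = a'

/-- common partners -/
def Part (Q : QuadraticForm F V) (b c a : V) : Prop := Q a = 0 ∧ polar Q a b = 1 ∧ polar Q a c = 1

theorem mem_comp_polar (U : Submodule F V) (x y : U) : polar (Q.comp U.subtype) x y = polar Q (x : V) y := by
  simp only [polar, QuadraticMap.comp_apply, Submodule.subtype_apply, Submodule.coe_add]

section Geometry

variable [FiniteDimensional F V] [Finite F] (hQ : (polarBilin Q).Nondegenerate)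
include hQ

theorem step_aniso {b c a a' : V} (hd : Q (a - a') ≠ 0) (ha : Q a = 0) (ha' : Q a' = 0)
    (hb : polar Q b (a - a') = 0) (hc : polar Q c (a - a') = 0) {x : V} (hx : Q x = 0) (hbx : polar Q b x = 0)
    (hcx : polar Q c x = 0) (hdx : polar Q (a - a') x = 0) (hxa : polar Q x a ≠ 0) : OneStep Q b c a a' := by
  obtain ⟨d, hdd⟩ : ∃ d, d = a - a' := ⟨_, rfl⟩
  rw [← hdd] at hd hb hc hdx
  have hda : polar Q d a = Q d := by
    rw [hdd, polar_sub_left, polar_self', ha, sub_eq_add_neg a a', apply_add, QuadraticMap.map_neg, ha, ha',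
      polar_neg_right, polar_comm (⇑Q) a a']
    ring
  refine ⟨x, (polar Q x a)⁻¹ • d, hx, by rw [polar_smul_right', polar_comm (⇑Q) x d, hdx, mul_zero], hbx,
    by rw [polar_smul_right', hb, mul_zero], hcx, by rw [polar_smul_right', hc, mul_zero], ?_⟩
  rw [polar_smul_left', hda, apply_smul, show a' = a - d by rw [hdd]; abel]
  match_scalars <;> field_simp <;> ring

variable (hn : 6 ≤ Module.finrank F V)
include hn

theorem exists_steps {b c a a' : V} (hb : Q b = 0) (hc : Q c = 0) (h : Part Q b c a) (h' : Part Q b c a') :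
    ∃ a'', Part Q b c a'' ∧ OneStep Q b c a a'' ∧ OneStep Q b c a' a'' := by
  obtain ⟨ha, hab, hac⟩ := h
  obtain ⟨ha', hab', hac'⟩ := h'
  obtain ⟨d, hd⟩ : ∃ d, d = a - a' := ⟨_, rfl⟩
  have hbd : polar Q b d = 0 := by rw [hd, polar_sub_right, polar_comm, hab, polar_comm, hab', sub_self]
  have hcd : polar Q c d = 0 := by rw [hd, polar_sub_right, polar_comm, hac, polar_comm, hac', sub_self]
  have hQd : Q d = -polar Q a' a := by
    rw [hd, sub_eq_add_neg, apply_add, QuadraticMap.map_neg, ha, ha', polar_neg_right, polar_comm (⇑Q) a a']; ring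
  have hda : polar Q d a = Q d := by rw [hQd, hd, polar_sub_left, polar_self', ha]; ring
  have refl' : ∀ p, OneStep Q b c p p := fun p =>
    ⟨0, 0, map_zero Q, polar_zero_right _ _, polar_zero_right _ _, polar_zero_right _ _, polar_zero_right _ _,
      polar_zero_right _ _, by simp⟩
  by_cases hβ : polar Q b c = 0
  · refine ⟨a', ⟨ha', hab', hac'⟩, ⟨b, d, hb, hbd, by rw [polar_self', hb, mul_zero], hbd,
      by rw [polar_comm]; exact hβ, hcd, ?_⟩, refl' _⟩
    rw [polar_comm (⇑Q) b a, hab, hda, one_mul, hd]; module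
  have combo : ∀ i j k : F, ∀ e, polar Q b e = 0 → polar Q c e = 0 → a = i • b + j • c + k • e →
      k * k * Q e ≠ 0 := by
    intro i j k e he1 he2 hk h0
    have e1 : polar Q a b = 1 := hab
    have e2 : polar Q a c = 1 := hac
    have e3 : Q a = 0 := ha
    rw [hk] at e1 e2 e3
    simp only [polar_add_left', polar_smul_left', polar_smul_right', polar_self', apply_add, apply_smul, hb, hc,
      polar_comm (⇑Q) c b, polar_comm (⇑Q) e b, polar_comm (⇑Q) e c, he1, he2, h0] at e1 e2 e3
    refine hβ (mul_left_cancel₀ (a := i * j) ?_ ?_)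
    · exact mul_ne_zero (fun hi => by rw [hi] at e2; simp at e2) (fun hj => by rw [hj] at e1; simp at e1)
    · linear_combination e3
  by_cases hd0 : Q d = 0
  · have hns : a ∉ Submodule.span F ({b, c, d} : Set V) := fun hm => by
      obtain ⟨i, j, k, hk⟩ : ∃ i j k : F, a = i • b + j • c + k • d := by
        simp only [Submodule.mem_span_insert, Submodule.mem_span_singleton] at hm
        obtain ⟨i, _, ⟨j, _, ⟨k, rfl⟩, rfl⟩, e⟩ := hm
        exact ⟨i, j, k, by rw [e, add_assoc]⟩
      exact combo i j k d hbd hcd hk (by rw [hd0, mul_zero])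
    obtain ⟨z, hz, hzS⟩ := exists_sep_polar hQ hns
    refine ⟨a', ⟨ha', hab', hac'⟩, ⟨d, -z, hd0, ?_, hbd, ?_, hcd, ?_, ?_⟩, refl' _⟩
    · rw [polar_neg_right, hzS d (Submodule.subset_span (by simp)), neg_zero]
    · rw [polar_neg_right, hzS b (Submodule.subset_span (by simp)), neg_zero]
    · rw [polar_neg_right, hzS c (Submodule.subset_span (by simp)), neg_zero]
    · rw [polar_neg_left, polar_comm (⇑Q) z a, hz, hda, hd0, hd]; module
  -- the difference is anisotropic
  obtain ⟨c', hc'd⟩ : ∃ c', c' = (polar Q b c)⁻¹ • c := ⟨_, rfl⟩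
  have hbc' : polar Q b c' = 1 := by rw [hc'd, polar_smul_right', inv_mul_cancel₀ hβ]
  have hc' : Q c' = 0 := by rw [hc'd, apply_smul, hc, mul_zero]
  have hc'p : ∀ z, polar Q c' z = 0 → polar Q c z = 0 := fun z hz => by
    rw [hc'd, polar_smul_left'] at hz; exact (mul_eq_zero.1 hz).resolve_left (inv_ne_zero hβ)
  obtain ⟨S, hS⟩ : ∃ S, S = Submodule.span F ({b, c', d} : Set V) := ⟨_, rfl⟩
  have hS3 : Module.finrank F S ≤ 3 := hS ▸ finrank_span_three hQ b c' d
  have hrad : S ⊓ orth Q S ≤ Submodule.span F ({d} : Set V) := hS ▸ rad_le hQ hb hc' hbc'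
    (by intro u hu; rw [Set.mem_singleton_iff] at hu; rw [hu]
        exact ⟨hbd, by rw [hc'd, polar_smul_left', hcd, mul_zero]⟩) le_rfl
  have hrad1 : Module.finrank F (S ⊓ orth Q S : Submodule F V) ≤ 1 := by
    refine (Submodule.finrank_mono hrad).trans ?_
    have := finrank_span_le_card (R := F) ({d} : Set V)
    simpa using this
  have hd' : Q (a - a') ≠ 0 := hd ▸ hd0
  have mem : ∀ x, x ∈ orth Q S → polar Q b x = 0 ∧ polar Q c x = 0 ∧ polar Q d x = 0 := fun x hx => by
    rw [hS, mem_orth_span] at hx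
    exact ⟨hx b (by simp), hc'p x (hx c' (by simp)), hx d (by simp)⟩
  by_cases h2 : (2 : F) = 0
  · refine ⟨a', ⟨ha', hab', hac'⟩, ?_, refl' _⟩
    have := charP_two_of_eq_zero h2
    obtain ⟨v, w, hv, hw, hvw⟩ := exists_one_perp hQ S (by omega)
    have dS : d ∈ orth Q S := by
      rw [hS, mem_orth_span]
      rintro u (rfl | rfl | rfl)
      exacts [hbd, by rw [hc'd, polar_smul_left', hcd, mul_zero], by rw [polar_self', h2, zero_mul]]
    have dd : polar Q d d = 0 := by rw [polar_self', h2, zero_mul]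
    have lift : ∀ v, v ∈ orth Q S → ∃ x ∈ orth Q S, Q x = 0 ∧ ∃ α : F, x = v + α • d := fun v hv => by
      obtain ⟨α, hα⟩ := isSquare_of_charTwo' (Q v / Q d)
      refine ⟨v + α • d, add_mem hv (Submodule.smul_mem _ _ dS), ?_, α, rfl⟩
      rw [apply_add, apply_smul, polar_smul_right', polar_comm, (mem v hv).2.2, mul_zero, add_zero, ← hα,
        div_mul_cancel₀ _ hd0, ← two_mul, h2, zero_mul]
    obtain ⟨x, hx', hx, α, hxd⟩ := lift v hv
    obtain ⟨y, hy', hy, γ, hyd⟩ := lift w hw
    have hxy : polar Q x y = 1 := by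
      rw [hxd, hyd]
      simp only [polar_add_left', polar_add_right', polar_smul_left', polar_smul_right', hvw, dd,
        polar_comm (⇑Q) v d, (mem v hv).2.2, (mem w hw).2.2]
      ring
    obtain ⟨δ, hδ⟩ := isSquare_of_charTwo' (1 / Q d)
    have fin : ∀ z, z ∈ orth Q S → Q z = 0 → polar Q z a ≠ 0 → OneStep Q b c a a' := fun z hz hz0 hza =>
      step_aniso hQ hd' ha ha' (hd ▸ hbd) (hd ▸ hcd) hz0 (mem z hz).1 (mem z hz).2.1 (hd ▸ (mem z hz).2.2) hza
    by_cases hxa : polar Q x a = 0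
    · by_cases hya : polar Q y a = 0
      · refine fin (x + y + δ • d) (add_mem (add_mem hx' hy') (Submodule.smul_mem _ _ dS)) ?_ ?_
        · rw [apply_add, apply_add, apply_smul, polar_add_left', polar_smul_right', polar_smul_right',
            polar_comm (⇑Q) x d, (mem x hx').2.2, polar_comm (⇑Q) y d, (mem y hy').2.2, hx, hy, hxy, ← hδ,
            one_div, inv_mul_cancel₀ hd0]
          linear_combination h2
        · rw [polar_add_left', polar_add_left', polar_smul_left', hxa, hya, hda, zero_add, zero_add]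
          refine mul_ne_zero (fun h0 => ?_) hd0
          rw [h0, mul_zero, one_div, inv_eq_zero] at hδ
          exact hd0 hδ
      · exact fin y hy' hy hya
    · exact fin x hx' hx hxa
  -- odd characteristic
  have hrad0 : S ⊓ orth Q S = ⊥ := by
    rw [eq_bot_iff]
    intro z hz
    obtain ⟨k, rfl⟩ := Submodule.mem_span_singleton.1 (hrad hz)
    have h1 := (mem _ hz.2).2.2
    rw [polar_smul_right', polar_self'] at h1
    rw [Submodule.mem_bot, (mul_eq_zero.1 h1).resolve_right (mul_ne_zero h2 hd0), zero_smul]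
  obtain ⟨x, y, hx', hy', hx, hy, hxy⟩ := exists_pair_perp hQ S (by rw [hrad0, finrank_bot]; omega)
  have single : ∀ p p', Q p = 0 → Q p' = 0 → Q (p - p') ≠ 0 → polar Q b (p - p') = 0 → polar Q c (p - p') = 0 →
      p ∉ Submodule.span F ({b, c, p - p'} : Set V) → OneStep Q b c p p' := by
    intro p p' hp hp' hne hb1 hc1 hns
    obtain ⟨T, hT⟩ : ∃ T, T = Submodule.span F ({b, c', p - p'} : Set V) := ⟨_, rfl⟩
    have hT3 : Module.finrank F T ≤ 3 := hT ▸ finrank_span_three hQ b c' (p - p')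
    have hr : T ⊓ orth Q T ≤ Submodule.span F ({p - p'} : Set V) := hT ▸ rad_le hQ hb hc' hbc'
      (by intro u hu; rw [Set.mem_singleton_iff] at hu; rw [hu]
          exact ⟨hb1, by rw [hc'd, polar_smul_left', hc1, mul_zero]⟩) le_rfl
    have hr0 : T ⊓ orth Q T = ⊥ := by
      rw [eq_bot_iff]
      intro z hz
      obtain ⟨k, rfl⟩ := Submodule.mem_span_singleton.1 (hr hz)
      have h1 : polar Q (p - p') (k • (p - p')) = 0 := hz.2 _ (hT ▸ Submodule.subset_span (by simp))
      rw [polar_smul_right', polar_self'] at h1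
      rw [Submodule.mem_bot, (mul_eq_zero.1 h1).resolve_right (mul_ne_zero h2 hne), zero_smul]
    obtain ⟨u, u', hu1, hu2, hu, hu', huu⟩ := exists_pair_perp hQ T (by rw [hr0, finrank_bot]; omega)
    have hpT : p ∉ T := fun hm => hns (by
      rw [hT] at hm
      refine (Submodule.span_le.2 ?_) hm
      rintro w (rfl | rfl | rfl)
      · exact Submodule.subset_span (by simp)
      · rw [hc'd]; exact Submodule.smul_mem _ _ (Submodule.subset_span (by simp))
      · exact Submodule.subset_span (by simp))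
    obtain ⟨z, hz, hzT⟩ := exists_sep_polar hQ hpT
    have hz' : z ∈ orth Q T := hzT
    obtain ⟨s, t, r, hr', hzd⟩ := sing_decomp hQ hu hu' huu z
    have hrO : r ∈ orth Q T := by
      have : r = z + ((-s) • u + (-t) • u') := by rw [hzd]; module
      rw [this]; exact add_mem hz' (add_mem (Submodule.smul_mem _ _ hu1) (Submodule.smul_mem _ _ hu2))
    have fin : ∀ w, w ∈ orth Q T → Q w = 0 → polar Q w p ≠ 0 → OneStep Q b c p p' := fun w hw hw0 hwp => by
      rw [hT, mem_orth_span] at hw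
      exact step_aniso hQ hne hp hp' hb1 hc1 hw0 (hw b (by simp)) (hc'p w (hw c' (by simp))) (hw _ (by simp)) hwp
    by_cases h1 : polar Q u p = 0
    · by_cases h3 : polar Q u' p = 0
      · refine fin r hrO hr' fun h0 => ?_
        rw [hzd, polar_add_right', polar_add_right', polar_smul_right', polar_smul_right', polar_comm (⇑Q) p u,
          h1, polar_comm (⇑Q) p u', h3, polar_comm (⇑Q) p r, h0] at hz
        simp at hz
      · exact fin u' hu2 hu' h3
    · exact fin u hu1 hu h1
  by_cases hns : a ∈ Submodule.span F ({b, c, d} : Set V)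
  swap
  · exact ⟨a', ⟨ha', hab', hac'⟩, single a a' ha ha' hd' (hd ▸ hbd) (hd ▸ hcd) (hd ▸ hns), refl' _⟩
  obtain ⟨i, j, k, hk⟩ : ∃ i j k : F, a = i • b + j • c + k • d := by
    simp only [Submodule.mem_span_insert, Submodule.mem_span_singleton] at hns
    obtain ⟨i, _, ⟨j, _, ⟨k, rfl⟩, rfl⟩, e⟩ := hns
    exact ⟨i, j, k, by rw [e, add_assoc]⟩
  obtain ⟨xb, xc, xd⟩ := mem x hx'
  obtain ⟨yb, yc, yd⟩ := mem y hy'
  have xa : polar Q a x = 0 := by
    rw [hk, polar_add_left', polar_add_left', polar_smul_left', polar_smul_left', polar_smul_left', xb, xc, xd]; ring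
  have ya : polar Q a y = 0 := by
    rw [hk, polar_add_left', polar_add_left', polar_smul_left', polar_smul_left', polar_smul_left', yb, yc, yd]; ring
  have xa' : polar Q a' x = 0 := by
    rw [show a' = a - d by rw [hd]; abel, polar_sub_left, xa, xd, sub_zero]
  refine ⟨a' + x, ⟨?_, ?_, ?_⟩, ?_, ?_⟩
  · rw [apply_add, ha', hx, xa']; ring
  · rw [polar_add_left', hab', polar_comm (⇑Q) x b, xb, add_zero]
  · rw [polar_add_left', hac', polar_comm (⇑Q) x c, xc, add_zero]
  · have e : a - (a' + x) = d - x := by rw [hd]; abel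
    refine single a (a' + x) ha ?_ ?_ ?_ ?_ fun hm => ?_
    · rw [apply_add, ha', hx, xa']; ring
    · rw [e, sub_eq_add_neg, apply_add, QuadraticMap.map_neg, hx, polar_neg_right, xd]; simpa using hd0
    · rw [e, polar_sub_right, hbd, xb, sub_zero]
    · rw [e, polar_sub_right, hcd, xc, sub_zero]
    · obtain ⟨i', j', k', hk'⟩ : ∃ i j k : F, a = i • b + j • c + k • (d - x) := by
        rw [← e]
        simp only [Submodule.mem_span_insert, Submodule.mem_span_singleton] at hm
        obtain ⟨i, _, ⟨j, _, ⟨k, rfl⟩, rfl⟩, e'⟩ := hm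
        exact ⟨i, j, k, by rw [add_assoc]; exact e'⟩
      have h3 := ya
      rw [hk', polar_add_left', polar_add_left', polar_smul_left', polar_smul_left', polar_smul_left', yb, yc,
        polar_sub_left, yd, hxy] at h3
      have hk0 : k' = 0 := by linear_combination -h3
      exact combo i' j' k' (d - x) (by rw [polar_sub_right, hbd, xb, sub_zero])
        (by rw [polar_sub_right, hcd, xc, sub_zero]) hk' (by rw [hk0]; ring)
  · have e : a' - (a' + x) = -x := by abel
    have hns' : a' ∉ Submodule.span F ({b, c, x} : Set V) := fun hm => by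
      obtain ⟨i', j', k', hk'⟩ : ∃ i j k : F, a' = i • b + j • c + k • x := by
        simp only [Submodule.mem_span_insert, Submodule.mem_span_singleton] at hm
        obtain ⟨i, _, ⟨j, _, ⟨k, rfl⟩, rfl⟩, e⟩ := hm
        exact ⟨i, j, k, by rw [e, add_assoc]⟩
      have e1 := hab'
      have e2 := hac'
      have e3 := ha'
      rw [hk'] at e1 e2 e3
      simp only [polar_add_left', polar_smul_left', polar_smul_right', polar_self', apply_add, apply_smul, hb, hc,
        polar_comm (⇑Q) c b, polar_comm (⇑Q) x b, polar_comm (⇑Q) x c, xb, xc, hx] at e1 e2 e3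
      refine hβ (mul_left_cancel₀ (a := i' * j') ?_ ?_)
      · exact mul_ne_zero (fun hi => by rw [hi] at e2; simp at e2) (fun hj => by rw [hj] at e1; simp at e1)
      · linear_combination e3
    obtain ⟨z, hz, hzS⟩ := exists_sep_polar hQ hns'
    refine ⟨-x, -z, by rw [QuadraticMap.map_neg, hx], ?_, by rw [polar_neg_right, xb, neg_zero], ?_,
      by rw [polar_neg_right, xc, neg_zero], ?_, ?_⟩
    · rw [polar_neg_left, polar_neg_right, hzS x (Submodule.subset_span (by simp)), neg_zero, neg_zero]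
    · rw [polar_neg_right, hzS b (Submodule.subset_span (by simp)), neg_zero]
    · rw [polar_neg_right, hzS c (Submodule.subset_span (by simp)), neg_zero]
    · rw [polar_neg_left, polar_comm (⇑Q) z a', hz, polar_neg_left, polar_comm (⇑Q) x a', xa']; module

/-- a common partner of three independent singular vectors -/
theorem exists_common {b c d : V} (hb : Q b = 0) (hc : Q c = 0) (hd : Q d = 0) (h : Ind F b c)
    (hdn : d ∉ Submodule.span F ({b, c} : Set V)) :
    ∃ a, Q a = 0 ∧ polar Q a b = 1 ∧ polar Q a c = 1 ∧ polar Q a d = 1 := by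
  obtain ⟨h1, h2⟩ := h.rot hdn
  have hd2 : d ∉ Submodule.span F ({c, b} : Set V) := by rwa [Set.pair_comm]
  obtain ⟨-, h3⟩ := h.symm.rot hd2
  obtain ⟨zb, e1, z1⟩ := exists_sep_polar hQ h3
  obtain ⟨zc, e2, z2⟩ := exists_sep_polar hQ h2
  obtain ⟨zd, e3, z3⟩ := exists_sep_polar hQ hdn
  obtain ⟨p, hp⟩ : ∃ p, p = zb + zc + zd := ⟨_, rfl⟩
  have pb : polar Q p b = 1 := by
    rw [hp, polar_comm, polar_add_right', polar_add_right', e1, z2 b (Submodule.subset_span (by simp)),
      z3 b (Submodule.subset_span (by simp))]; ring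
  have pc : polar Q p c = 1 := by
    rw [hp, polar_comm, polar_add_right', polar_add_right', e2, z1 c (Submodule.subset_span (by simp)),
      z3 c (Submodule.subset_span (by simp))]; ring
  have pd : polar Q p d = 1 := by
    rw [hp, polar_comm, polar_add_right', polar_add_right', e3, z1 d (Submodule.subset_span (by simp)),
      z2 d (Submodule.subset_span (by simp))]; ring
  by_cases hall : polar Q b c = 0 ∧ polar Q b d = 0
  · refine ⟨p + (-Q p) • b, ?_, ?_, ?_, ?_⟩
    · rw [apply_add, apply_smul, polar_smul_right', pb, hb]; ring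
    · rw [polar_add_left', polar_smul_left', polar_self', hb, pb]; ring
    · rw [polar_add_left', polar_smul_left', hall.1, pc]; ring
    · rw [polar_add_left', polar_smul_left', hall.2, pd]; ring
  have main : ∀ b c d : V, Q b = 0 → Q c = 0 → polar Q b c ≠ 0 →
      ∃ s, Q (p + s) = 0 ∧ polar Q b s = 0 ∧ polar Q c s = 0 ∧ polar Q d s = 0 := by
    intro b c d hb hc hβ
    obtain ⟨c', hc'⟩ : ∃ c', c' = (polar Q b c)⁻¹ • c := ⟨_, rfl⟩
    have hbc' : polar Q b c' = 1 := by rw [hc', polar_smul_right', inv_mul_cancel₀ hβ]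
    have hQc' : Q c' = 0 := by rw [hc', apply_smul, hc, mul_zero]
    obtain ⟨d', hd'⟩ : ∃ d', d' = d + ((-polar Q c' d) • b + (-polar Q b d) • c') := ⟨_, rfl⟩
    obtain ⟨S, hS⟩ : ∃ S, S = Submodule.span F ({b, c', d'} : Set V) := ⟨_, rfl⟩
    have hperp : ∀ u ∈ ({d'} : Set V), polar Q b u = 0 ∧ polar Q c' u = 0 := by
      intro u hu; rw [Set.mem_singleton_iff] at hu; rw [hu, hd']
      constructor
      · simp only [polar_add_right', polar_smul_right', polar_self', hb, hbc']; ring
      · simp only [polar_add_right', polar_smul_right', polar_self', hQc', polar_comm (⇑Q) c' b, hbc']; ring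
    have hrad : Module.finrank F (S ⊓ orth Q S : Submodule F V) ≤ 1 := by
      refine (Submodule.finrank_mono (hS ▸ rad_le hQ hb hQc' hbc' hperp le_rfl)).trans ?_
      have := finrank_span_le_card (R := F) ({d'} : Set V)
      simpa using this
    have hS3 : Module.finrank F S ≤ 3 := hS ▸ finrank_span_three hQ b c' d'
    obtain ⟨s, hs, hQs⟩ := exists_value_perp hQ S p (by omega)
    rw [hS, mem_orth_span] at hs
    have sb := hs b (by simp)
    have sc := hs c' (by simp)
    have sd := hs d' (by simp)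
    refine ⟨s, hQs, sb, ?_, ?_⟩
    · rw [hc', polar_smul_left'] at sc; exact (mul_eq_zero.1 sc).resolve_left (inv_ne_zero hβ)
    · rw [hd', polar_add_left', polar_add_left', polar_smul_left', polar_smul_left', sb, sc] at sd
      simpa using sd
  obtain ⟨s, hs, s1, s2, s3⟩ : ∃ s, Q (p + s) = 0 ∧ polar Q b s = 0 ∧ polar Q c s = 0 ∧ polar Q d s = 0 := by
    by_cases hbc : polar Q b c = 0
    · obtain ⟨s, hs, s1, s2, s3⟩ := main b d c hb hd (fun e => hall ⟨hbc, e⟩)
      exact ⟨s, hs, s1, s3, s2⟩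
    · exact main b c d hb hc hbc
  refine ⟨p + s, hs, ?_, ?_, ?_⟩
  · rw [polar_add_left', pb, polar_comm, s1, add_zero]
  · rw [polar_add_left', pc, polar_comm, s2, add_zero]
  · rw [polar_add_left', pd, polar_comm, s3, add_zero]

end Geometry

/-! ### the covering argument -/

section Cover

variable [FiniteDimensional F V] [Finite F] {Γ : Type*} [Group Γ] {π : Γ →* SpinV Q} (C : CExt π) (hB : Big Q)

/-- lifts of the elements supported on a subspace -/
def genU (U : Submodule F V) : Subgroup Γ :=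
  Subgroup.closure {g | ∃ x y, x ∈ U ∧ y ∈ U ∧ Q x = 0 ∧ polar Q x y = 0 ∧ g = L C hB x y}

/-- lifts of the elements supported on the orthogonal of a vector in a subspace -/
def genAt (U : Submodule F V) (b : V) : Subgroup Γ :=
  Subgroup.closure {g | ∃ x y, x ∈ U ∧ y ∈ U ∧ Q x = 0 ∧ polar Q x y = 0 ∧ polar Q b x = 0 ∧ polar Q b y = 0 ∧
    g = L C hB x y}

/-- congruence modulo the lifts at a vector -/
def Cong (U : Submodule F V) (b : V) (g h : Γ) : Prop := g⁻¹ * h ∈ genAt C hB U b

/-- preservation of a subspace -/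
def Pres (U : Submodule F V) (γ : Γ) : Prop := ∀ z ∈ U, ap (π γ) z ∈ U ∧ ap (π γ⁻¹) z ∈ U

variable {U : Submodule F V}

theorem L_mem {x y : V} (hx : x ∈ U) (hy : y ∈ U) (h : Q x = 0) (hxy : polar Q x y = 0) :
    L C hB x y ∈ genU C hB U := Subgroup.subset_closure ⟨x, y, hx, hy, h, hxy, rfl⟩

theorem genAt_le (b : V) : genAt C hB U b ≤ genU C hB U :=
  Subgroup.closure_mono (by rintro g ⟨x, y, hx, hy, h, hxy, -, -, rfl⟩; exact ⟨x, y, hx, hy, h, hxy, rfl⟩)

theorem ap_inv_ap (γ : Γ) (z : V) : ap (π γ⁻¹) (ap (π γ) z) = z := by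
  rw [← ap_mul, ← map_mul, inv_mul_cancel, map_one, ap_one]

theorem ap_ap_inv (γ : Γ) (z : V) : ap (π γ) (ap (π γ⁻¹) z) = z := by
  rw [← ap_mul, ← map_mul, mul_inv_cancel, map_one, ap_one]

theorem ap_El_mem {x y z : V} (hx : x ∈ U) (hy : y ∈ U) (h : Q x = 0) (hxy : polar Q x y = 0) (hz : z ∈ U) :
    ap (El x y : SpinV Q) z ∈ U := by
  rw [ap_El h hxy]
  exact sub_mem (add_mem hz (sub_mem (U.smul_mem _ hx) (U.smul_mem _ hy))) (U.smul_mem _ hx)

theorem pres_genU {γ : Γ} (h : γ ∈ genU C hB U) : Pres (π := π) U γ := by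
  induction h using Subgroup.closure_induction with
  | one => intro z hz; rw [inv_one, map_one, ap_one]; exact ⟨hz, hz⟩
  | mem g hg =>
    obtain ⟨x, y, hx, hy, h, hxy, rfl⟩ := hg
    intro z hz
    rw [← L_neg C hB h hxy, π_L C hB h hxy, π_L C hB h (by rw [polar_neg_right, hxy, neg_zero])]
    exact ⟨ap_El_mem hx hy h hxy hz, ap_El_mem hx (U.neg_mem hy) h (by rw [polar_neg_right, hxy, neg_zero]) hz⟩
  | mul a b _ _ iha ihb =>
    intro z hz
    rw [mul_inv_rev, map_mul, map_mul, ap_mul, ap_mul]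
    exact ⟨(iha _ (ihb z hz).1).1, (ihb _ (iha z hz).2).2⟩
  | inv a _ iha => intro z hz; rw [inv_inv]; exact (iha z hz).symm

theorem fix_genAt {γ : Γ} {b : V} (h : γ ∈ genAt C hB U b) : ap (π γ) b = b := by
  induction h using Subgroup.closure_induction with
  | one => rw [map_one, ap_one]
  | mem g hg =>
    obtain ⟨x, y, -, -, h, hxy, hbx, hby, rfl⟩ := hg
    rw [π_L C hB h hxy, ap_El_fix h hxy (by rw [polar_comm]; exact hbx) (by rw [polar_comm]; exact hby)]
  | mul a b _ _ iha ihb => rw [map_mul, ap_mul, ihb, iha]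
  | inv a _ iha => conv_lhs => arg 2; rw [← iha]
                   exact ap_inv_ap (π := π) a _

theorem conj_genAt {γ : Γ} (hp : ∀ z ∈ U, ap (π γ) z ∈ U) {c b : V} (hcb : ap (π γ) c = b) {g : Γ}
    (hg : g ∈ genAt C hB U c) : γ * g * γ⁻¹ ∈ genAt C hB U b := by
  have hle : genAt C hB U c ≤ (genAt C hB U b).comap (MulAut.conj γ).toMonoidHom := (Subgroup.closure_le _).2 (by
    rintro _ ⟨x, y, hx, hy, h, hxy, hcx, hcy, rfl⟩
    show γ * L C hB x y * γ⁻¹ ∈ genAt C hB U b
    rw [L_conj C hB h hxy rfl, ← hcb]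
    exact Subgroup.subset_closure ⟨_, _, hp x hx, hp y hy, by rw [ap_Q]; exact h, by rw [ap_polar]; exact hxy,
      by rw [ap_polar]; exact hcx, by rw [ap_polar]; exact hcy, rfl⟩)
  exact hle hg

theorem Cong.symm {b : V} {g h : Γ} (e : Cong C hB U b g h) : Cong C hB U b h g := by
  have := inv_mem e
  rwa [mul_inv_rev, inv_inv] at this

theorem Cong.trans {b : V} {g h k : Γ} (e : Cong C hB U b g h) (e' : Cong C hB U b h k) : Cong C hB U b g k := by
  have := mul_mem e e'
  rwa [show g⁻¹ * h * (h⁻¹ * k) = g⁻¹ * k by group] at this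

theorem Cong.left {b : V} {g h : Γ} (e : Cong C hB U b g h) (γ : Γ) : Cong C hB U b (γ * g) (γ * h) := by
  unfold Cong at *
  rwa [show (γ * g)⁻¹ * (γ * h) = g⁻¹ * h by group]

theorem Cong.refl (b : V) (g : Γ) : Cong C hB U b g g := by
  unfold Cong; rw [inv_mul_cancel]; exact one_mem _

theorem Cong.right {b c : V} {g h k : Γ} (e : Cong C hB U c g h) (hk : k ∈ genU C hB U) (hbc : ap (π k) b = c) :
    Cong C hB U b (g * k) (h * k) := by
  unfold Cong at *
  have hinv : ap (π k⁻¹) c = b := by rw [← hbc, ap_inv_ap (π := π)]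
  have := conj_genAt C hB (γ := k⁻¹) (fun z hz => ((pres_genU C hB hk) z hz).2) hinv e
  rwa [inv_inv, show k⁻¹ * (g⁻¹ * h) * k = (g * k)⁻¹ * (h * k) by group] at this

/-- vertices -/
def Vtx (Q : QuadraticForm F V) (U : Submodule F V) (b : V) : Prop := b ∈ U ∧ Q b = 0 ∧ b ≠ 0

theorem T_spec {a b c : V} (ha : a ∈ U) (hb : Vtx Q U b) (hc : Vtx Q U c) (h : Part Q b c a) :
    L C hB a (b - c) ∈ genU C hB U ∧ ap (π (L C hB a (b - c))) b = c := by
  obtain ⟨h0, hab, hac⟩ := h
  have hp : polar Q a (b - c) = 0 := by rw [polar_sub_right, hab, hac, sub_self]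
  refine ⟨L_mem C hB ha (U.sub_mem hb.1 hc.1) h0 hp, ?_⟩
  rw [π_L C hB h0 hp, ap_El h0 hp, hab, polar_sub_left, polar_self', hb.2.1, sub_eq_add_neg b c, apply_add,
    QuadraticMap.map_neg, hb.2.1, hc.2.1, polar_neg_right, polar_comm (⇑Q) c b]
  module

theorem T_move {a a' b c : V} (ha : a ∈ U) (hb : Vtx Q U b) (hc : Vtx Q U c) (h : Part Q b c a)
    {x y : V} (hx : x ∈ U) (hy : y ∈ U) (hx0 : Q x = 0) (hxy : polar Q x y = 0) (bx : polar Q b x = 0)
    (by' : polar Q b y = 0) (cx : polar Q c x = 0) (cy : polar Q c y = 0) (he : ap (El x y : SpinV Q) a = a') :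
    Cong C hB U b (L C hB a (b - c)) (L C hB a' (b - c)) := by
  obtain ⟨hm, hmap⟩ := T_spec C hB ha hb hc h
  have hp : polar Q a (b - c) = 0 := by rw [polar_sub_right, h.2.1, h.2.2, sub_self]
  have hπ : π (L C hB x y) = El x y := π_L C hB hx0 hxy
  have e : L C hB x y * L C hB a (b - c) * (L C hB x y)⁻¹ = L C hB a' (b - c) := by
    rw [L_conj C hB h.1 hp hπ, he, map_sub,
      ap_El_fix hx0 hxy (z := b) (by rw [polar_comm]; exact bx) (by rw [polar_comm]; exact by'),
      ap_El_fix hx0 hxy (z := c) (by rw [polar_comm]; exact cx) (by rw [polar_comm]; exact cy)]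
  have hγc : L C hB x y ∈ genAt C hB U c := Subgroup.subset_closure ⟨x, y, hx, hy, hx0, hxy, cx, cy, rfl⟩
  have hγb : L C hB x y ∈ genAt C hB U b := Subgroup.subset_closure ⟨x, y, hx, hy, hx0, hxy, bx, by', rfl⟩
  unfold Cong
  rw [← e]
  obtain ⟨T, hT⟩ : ∃ T, T = L C hB a (b - c) := ⟨_, rfl⟩
  rw [← hT] at hm hmap ⊢
  have hinv : ap (π T⁻¹) c = b := by rw [← hmap, ap_inv_ap (π := π)]
  have := mul_mem (conj_genAt C hB (γ := T⁻¹) (fun z hz => ((pres_genU C hB hm) z hz).2) hinv hγc) (inv_mem hγb)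
  rw [inv_inv] at this
  rwa [show T⁻¹ * L C hB x y * T * (L C hB x y)⁻¹ = T⁻¹ * (L C hB x y * T * (L C hB x y)⁻¹) by group] at this

variable (hU : (polarBilin (Q.comp U.subtype)).Nondegenerate) (hn : 6 ≤ Module.finrank F U)
include hU hn

theorem T_indep {a a' b c : V} (ha : a ∈ U) (ha' : a' ∈ U) (hb : Vtx Q U b) (hc : Vtx Q U c)
    (h : Part Q b c a) (h' : Part Q b c a') : Cong C hB U b (L C hB a (b - c)) (L C hB a' (b - c)) := by
  have hp : ∀ x y : U, polar (Q.comp U.subtype) x y = polar Q (x : V) y := mem_comp_polar U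
  obtain ⟨a'', h1, h2, h3⟩ := exists_steps hU hn (b := ⟨b, hb.1⟩) (c := ⟨c, hc.1⟩) (a := ⟨a, ha⟩) (a' := ⟨a', ha'⟩)
    hb.2.1 hc.2.1 ⟨h.1, by rw [hp]; exact h.2.1, by rw [hp]; exact h.2.2⟩
    ⟨h'.1, by rw [hp]; exact h'.2.1, by rw [hp]; exact h'.2.2⟩
  have step : ∀ (p : V) (hpU : p ∈ U), Part Q b c p →
      OneStep (Q.comp U.subtype) ⟨b, hb.1⟩ ⟨c, hc.1⟩ ⟨p, hpU⟩ a'' →
      Cong C hB U b (L C hB p (b - c)) (L C hB (a'' : V) (b - c)) := by
    rintro p hpU hP ⟨x, y, hx, hxy, bx, by', cx, cy, e⟩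
    rw [hp] at hxy bx by' cx cy
    refine T_move C hB hpU hb hc hP x.2 y.2 hx hxy bx by' cx cy ?_
    have e' := congrArg Subtype.val e
    rw [ap_El (show Q (x : V) = 0 from hx) hxy, ← e']
    simp only [hp, QuadraticMap.comp_apply, Submodule.subtype_apply, Submodule.coe_add, Submodule.coe_sub,
      Submodule.coe_smul]
  exact (step a ha h h2).trans C hB (Cong.symm C hB (step a' ha' h' h3))

theorem exists_part {b c : V} (hb : Vtx Q U b) (hc : Vtx Q U c) (hi : Ind F b c) :
    ∃ a, a ∈ U ∧ Part Q b c a := by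
  have hp : ∀ x y : U, polar (Q.comp U.subtype) x y = polar Q (x : V) y := mem_comp_polar U
  obtain ⟨z, hz, h1, h2⟩ := exists_common_partner hU (by omega) (u := (⟨b, hb.1⟩ : U)) (w := ⟨c, hc.1⟩) hb.2.1
    hc.2.1 (LinearIndependent.pair_iff.2 fun s t hst => by
      have e := congrArg Subtype.val hst
      simp only [Submodule.coe_add, Submodule.coe_smul, Submodule.coe_zero] at e
      by_cases ht : t = 0
      · rw [ht, zero_smul, add_zero] at e
        exact ⟨(smul_eq_zero.1 e).resolve_right hi.1, ht⟩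
      · refine absurd (Submodule.mem_span_singleton.2 ⟨-(t⁻¹ * s), ?_⟩) hi.2
        rw [neg_smul, ← smul_smul, eq_neg_of_add_eq_zero_left e, smul_neg, neg_neg, inv_smul_smul₀ ht])
  exact ⟨z, z.2, hz, by rw [← h1, hp], by rw [← h2, hp]⟩

theorem exists_triple {b c d : V} (hb : Vtx Q U b) (hc : Vtx Q U c) (hd : Vtx Q U d) (hi : Ind F b c)
    (hdn : d ∉ Submodule.span F ({b, c} : Set V)) :
    ∃ a, a ∈ U ∧ Part Q b c a ∧ Part Q c d a ∧ Part Q b d a := by
  have hp : ∀ x y : U, polar (Q.comp U.subtype) x y = polar Q (x : V) y := mem_comp_polar U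
  have hi' : Ind F (⟨b, hb.1⟩ : U) ⟨c, hc.1⟩ := ⟨fun e => hi.1 (congrArg Subtype.val e), fun hm => hi.2 (by
    have := Submodule.mem_map_of_mem (f := U.subtype) hm
    rw [Submodule.map_span, Set.image_singleton] at this
    exact this)⟩
  obtain ⟨a, ha, h1, h2, h3⟩ := exists_common hU hn (b := (⟨b, hb.1⟩ : U)) (c := ⟨c, hc.1⟩) (d := ⟨d, hd.1⟩)
    hb.2.1 hc.2.1 hd.2.1 hi' (fun hm => hdn (by
      have := Submodule.mem_map_of_mem (f := U.subtype) hm
      rw [Submodule.map_span, Set.image_pair] at this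
      exact this))
  rw [hp] at h1 h2 h3
  exact ⟨a, a.2, ⟨ha, h1, h2⟩, ⟨ha, h2, h3⟩, ⟨ha, h1, h3⟩⟩

theorem exists_outside (s : Submodule F V) (hs : Module.finrank F s < Module.finrank F U) :
    ∃ e, Vtx Q U e ∧ e ∉ s := by
  by_contra hc
  push Not at hc
  have hle : U ≤ s := by
    intro z hz
    have h := singular_span_eq_top hU (by omega)
    have hmem : (⟨z, hz⟩ : U) ∈ Submodule.span F {w : U | Q.comp U.subtype w = 0} := by rw [h]; trivial
    have := Submodule.mem_map_of_mem (f := U.subtype) hmem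
    rw [Submodule.map_span] at this
    refine (Submodule.span_le.2 ?_) this
    rintro _ ⟨w, hw, rfl⟩
    by_cases h0 : (w : V) = 0
    · show (w : V) ∈ s
      rw [h0]; exact zero_mem _
    · exact hc w ⟨w.2, hw, h0⟩
  have := Submodule.finrank_mono hle
  omega

theorem cocycle {b c d : V} (hb : Vtx Q U b) (hc : Vtx Q U c) (hd : Vtx Q U d) (hi : Ind F b c)
    (hdn : d ∉ Submodule.span F ({b, c} : Set V)) {p q r : V} (hp : p ∈ U) (hq : q ∈ U) (hr : r ∈ U)
    (h1 : Part Q b c p) (h2 : Part Q c d q) (h3 : Part Q b d r) :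
    Cong C hB U b (L C hB q (c - d) * L C hB p (b - c)) (L C hB r (b - d)) := by
  obtain ⟨a, ha, k1, k2, k3⟩ := exists_triple hU hn hb hc hd hi hdn
  obtain ⟨m1, e1⟩ := T_spec C hB hp hb hc h1
  have step1 := (T_indep C hB hU hn hq ha hc hd h2 k2).right C hB m1 e1
  have step2 := (T_indep C hB hU hn hp ha hb hc h1 k1).left C hB (L C hB a (c - d))
  have e3 : L C hB a (c - d) * L C hB a (b - c) = L C hB a (b - d) := by
    rw [← L_add C hB k2.1 (by rw [polar_sub_right, k2.2.1, k2.2.2, sub_self])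
      (by rw [polar_sub_right, k1.2.1, k1.2.2, sub_self])]
    congr 1; abel
  rw [e3] at step2
  exact (step1.trans C hB step2).trans C hB (T_indep C hB hU hn ha hr hb hd k3 h3)

variable {b0 : V}

/-- transports from the base vertex -/
def Sec (C : CExt π) (hB : Big Q) (U : Submodule F V) (b0 c : V) (g : Γ) : Prop :=
  ∃ e p q, Vtx Q U e ∧ Ind F b0 e ∧ Ind F e c ∧ p ∈ U ∧ q ∈ U ∧ Part Q b0 e p ∧ Part Q e c q ∧
    g = L C hB q (e - c) * L C hB p (b0 - e)

theorem sec_mem {c : V} (h0 : Vtx Q U b0) (hc : Vtx Q U c) {g : Γ} (hg : Sec C hB U b0 c g) :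
    g ∈ genU C hB U ∧ ap (π g) b0 = c := by
  obtain ⟨e, p, q, he, -, -, hp, hq, h1, h2, rfl⟩ := hg
  obtain ⟨m1, e1⟩ := T_spec C hB hp h0 he h1
  obtain ⟨m2, e2⟩ := T_spec C hB hq he hc h2
  exact ⟨mul_mem m2 m1, by rw [map_mul, ap_mul, e1, e2]⟩

theorem sec_exists {c : V} (h0 : Vtx Q U b0) (hc : Vtx Q U c) : ∃ g, Sec C hB U b0 c g := by
  obtain ⟨e, he, hes⟩ := exists_outside hU hn (Submodule.span F ({b0, c} : Set V)) (by
    have h2 := finrank_span_two hB.nondeg b0 c
    omega)
  have i1 : Ind F b0 e := ⟨h0.2.2, fun h => hes (Submodule.span_mono (by simp) h)⟩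
  have i2 : Ind F e c := (Ind.of_not_mem_pair hc.2.2 hes).symm
  obtain ⟨p, hp, h1⟩ := exists_part hU hn h0 he i1
  obtain ⟨q, hq, h2⟩ := exists_part hU hn he hc i2
  exact ⟨_, e, p, q, he, i1, i2, hp, hq, h1, h2, rfl⟩

theorem sec_unique {c : V} (h0 : Vtx Q U b0) (hc : Vtx Q U c) {g g' : Γ} (hg : Sec C hB U b0 c g)
    (hg' : Sec C hB U b0 c g') : Cong C hB U b0 g g' := by
  obtain ⟨e, p, q, he, i1, i2, hp, hq, h1, h2, rfl⟩ := hg
  obtain ⟨e', p', q', he', i1', i2', hp', hq', h1', h2', rfl⟩ := hg'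
  obtain ⟨f, hf, hfs⟩ := exists_outside hU hn (Submodule.span F ({b0, c, e, e'} : Set V)) (by
    have h2 := finrank_span_four hB.nondeg b0 c e e'
    omega)
  have key : ∀ e p q, Vtx Q U e → Ind F b0 e → Ind F e c → p ∈ U → q ∈ U → Part Q b0 e p → Part Q e c q →
      f ∉ Submodule.span F ({b0, c, e} : Set V) → ∀ r s, r ∈ U → s ∈ U → Part Q b0 f r → Part Q f c s →
      Cong C hB U b0 (L C hB q (e - c) * L C hB p (b0 - e)) (L C hB s (f - c) * L C hB r (b0 - f)) := by
    intro e p q he i1 i2 hp hq h1 h2 hfn r s hr hs h3 h4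
    have n1 : f ∉ Submodule.span F ({e, c} : Set V) := fun h => hfn (Submodule.span_mono (by simp [Set.insert_subset_iff]) h)
    obtain ⟨j1, j2⟩ := i2.rot n1
    obtain ⟨t, ht, h5⟩ := exists_part hU hn he hf j1
    have c1 := cocycle C hB hU hn he hf hc j1 j2 ht hs hq h5 h4 h2
    obtain ⟨m1, e1⟩ := T_spec C hB hp h0 he h1
    have c2 := (c1.symm C hB).right C hB m1 e1
    have n2 : f ∉ Submodule.span F ({b0, e} : Set V) := fun h => hfn (Submodule.span_mono (by simp [Set.insert_subset_iff]) h)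
    have c3 := (cocycle C hB hU hn h0 he hf i1 n2 hp ht hr h1 h5 h3).left C hB (L C hB s (f - c))
    rw [← mul_assoc] at c3
    exact c2.trans C hB c3
  have k1 : f ∉ Submodule.span F ({b0, c, e} : Set V) := fun h => hfs (Submodule.span_mono (by simp [Set.insert_subset_iff]) h)
  have k2 : f ∉ Submodule.span F ({b0, c, e'} : Set V) := fun h => hfs (Submodule.span_mono (by simp [Set.insert_subset_iff]) h)
  obtain ⟨r, hr, h3⟩ := exists_part hU hn h0 hf (b := b0) (c := f)
    ⟨h0.2.2, fun h => hfs (Submodule.span_mono (by simp) h)⟩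
  obtain ⟨s, hs, h4⟩ := exists_part hU hn hf hc
    ((Ind.of_not_mem_pair (b := b0) hc.2.2 fun h => hfs (Submodule.span_mono (by simp [Set.insert_subset_iff]) h)).symm)
  exact (key e p q he i1 i2 hp hq h1 h2 k1 r s hr hs h3 h4).trans C hB
    ((key e' p' q' he' i1' i2' hp' hq' h1' h2' k2 r s hr hs h3 h4).symm C hB)

theorem sec_step {c d a : V} (h0 : Vtx Q U b0) (hc : Vtx Q U c) (hd : Vtx Q U d) (hi : Ind F c d) (ha : a ∈ U)
    (hP : Part Q c d a) {g g' : Γ} (hg : Sec C hB U b0 c g) (hg' : Sec C hB U b0 d g') :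
    Cong C hB U b0 (L C hB a (c - d) * g) g' := by
  obtain ⟨e, he, hes⟩ := exists_outside hU hn (Submodule.span F ({b0, c, d} : Set V)) (by
    have h2 := finrank_span_three hB.nondeg b0 c d
    omega)
  have n1 : e ∉ Submodule.span F ({c, d} : Set V) := fun h => hes (Submodule.span_mono (by simp [Set.insert_subset_iff]) h)
  have ib : Ind F b0 e := ⟨h0.2.2, fun h => hes (Submodule.span_mono (by simp) h)⟩
  obtain ⟨j1, j2⟩ := hi.rot n1
  have iec : Ind F e c := j1.symm
  have hdn : d ∉ Submodule.span F ({e, c} : Set V) := by rwa [Set.pair_comm]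
  have ied : Ind F e d := (iec.rot hdn).1
  obtain ⟨p, hp, h1⟩ := exists_part hU hn h0 he ib
  obtain ⟨q, hq, h2⟩ := exists_part hU hn he hc iec
  obtain ⟨r, hr, h3⟩ := exists_part hU hn he hd ied
  have u1 := (sec_unique C hB hU hn h0 hc hg ⟨e, p, q, he, ib, iec, hp, hq, h1, h2, rfl⟩).left C hB (L C hB a (c - d))
  have u2 := sec_unique C hB hU hn h0 hd ⟨e, p, r, he, ib, ied, hp, hr, h1, h3, rfl⟩ hg'
  obtain ⟨m1, e1⟩ := T_spec C hB hp h0 he h1
  have c1 := (cocycle C hB hU hn he hc hd iec hdn hq ha hr h2 hP h3).right C hB m1 e1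
  rw [mul_assoc] at c1
  exact (u1.trans C hB c1).trans C hB u2

theorem sec_base (h0 : Vtx Q U b0) {g : Γ} (hg : Sec C hB U b0 b0 g) : g ∈ genAt C hB U b0 := by
  obtain ⟨e, p, q, he, i1, -, hp, hq, h1, h2, rfl⟩ := hg
  have h2' : Part Q e b0 p := ⟨h1.1, h1.2.2, h1.2.1⟩
  have c1 := (T_indep C hB hU hn hq hp he h0 h2 h2').right C hB (T_spec C hB hp h0 he h1).1 (T_spec C hB hp h0 he h1).2
  rw [← L_add C hB h1.1 (by rw [polar_sub_right, h1.2.2, h1.2.1, sub_self])
    (by rw [polar_sub_right, h1.2.1, h1.2.2, sub_self]), sub_add_sub_cancel, sub_self, L_zero C hB h1.1] at c1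
  have := inv_mem c1
  rwa [mul_one, inv_inv] at this

/-- the action on the sections -/
theorem equiv_sec (h0 : Vtx Q U b0) {γ : Γ} (hγ : γ ∈ genU C hB U) :
    ∀ c g g', Vtx Q U c → Sec C hB U b0 c g → Sec C hB U b0 (ap (π γ) c) g' → Cong C hB U b0 (γ * g) g' := by
  induction hγ using Subgroup.closure_induction with
  | one =>
    intro c g g' hc hg hg'
    rw [map_one, ap_one] at hg'
    rw [one_mul]
    exact sec_unique C hB hU hn h0 hc hg hg'
  | mul α β hα hβ iha ihb =>
    intro c g g' hc hg hg'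
    have hd : Vtx Q U (ap (π β) c) := ⟨((pres_genU C hB hβ) c hc.1).1, by rw [ap_Q]; exact hc.2.1,
      fun e => hc.2.2 ((ap (π β)).map_eq_zero_iff.1 e)⟩
    obtain ⟨k, hk⟩ := sec_exists C hB hU hn h0 hd
    rw [map_mul, ap_mul] at hg'
    rw [mul_assoc]
    exact ((ihb c g k hc hg hk).left C hB α).trans C hB (iha _ k g' hd hk hg')
  | inv α hα iha =>
    intro c g g' hc hg hg'
    have hd : Vtx Q U (ap (π α⁻¹) c) := ⟨((pres_genU C hB hα) c hc.1).2, by rw [ap_Q]; exact hc.2.1,
      fun e => hc.2.2 ((ap (π α⁻¹)).map_eq_zero_iff.1 e)⟩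
    have := (iha _ g' g hd hg' (by rw [ap_ap_inv (π := π)]; exact hg)).left C hB α⁻¹
    rw [inv_mul_cancel_left] at this
    exact this.symm C hB
  | mem γ hmem =>
    obtain ⟨x, y, hx, hy, hx0, hxy, rfl⟩ := hmem
    intro c g g' hc hg hg'
    have hmap : ap (π (L C hB x y)) c =
        c + (polar Q y c • x - polar Q x c • y) - (polar Q x c * Q y) • x := by rw [π_L C hB hx0 hxy, ap_El hx0 hxy]
    have hd : Vtx Q U (ap (π (L C hB x y)) c) := ⟨((pres_genU C hB (L_mem C hB hx hy hx0 hxy)) c hc.1).1,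
      by rw [ap_Q]; exact hc.2.1, fun e => hc.2.2 ((ap (π (L C hB x y))).map_eq_zero_iff.1 e)⟩
    obtain ⟨hgm, hgmap⟩ := sec_mem C hB hU hn h0 hc hg
    by_cases hx00 : x = 0
    · have hone : L C hB x y = 1 := by
        rw [hx00, ← zero_smul F (0 : V), L_smul C hB (map_zero Q) (polar_zero_left _ _), zero_smul,
          L_zero C hB (map_zero Q)]
      rw [hone, map_one, ap_one] at hg'
      rw [hone, one_mul]
      exact sec_unique C hB hU hn h0 hc hg hg'
    by_cases hr : polar Q x c = 0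
    · by_cases hβ : polar Q y c = 0
      · rw [hmap, hr, hβ] at hg'
        simp only [zero_smul, sub_zero, zero_mul, add_zero] at hg'
        have h1 : Cong C hB U c (L C hB x y) 1 := by
          unfold Cong
          rw [mul_one]
          exact inv_mem (Subgroup.subset_closure ⟨x, y, hx, hy, hx0, hxy, by rw [polar_comm]; exact hr,
            by rw [polar_comm]; exact hβ, rfl⟩)
        have h2 := h1.right C hB hgm hgmap
        rw [one_mul] at h2
        exact h2.trans C hB (sec_unique C hB hU hn h0 hc hg hg')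
      · have hcx : c ∉ Submodule.span F ({x} : Set V) := fun hm => by
          obtain ⟨t, rfl⟩ := Submodule.mem_span_singleton.1 hm
          exact hβ (by rw [polar_smul_right', polar_comm, hxy, mul_zero])
        have hxc : Ind F x c := ⟨hx00, hcx⟩
        have hp : ∀ u v : U, polar (Q.comp U.subtype) u v = polar Q (u : V) v := mem_comp_polar U
        obtain ⟨a, ha0, hca, hxa⟩ := exists_singular_partner hU
          (U := Submodule.span F ({⟨x, hx⟩} : Set U)) (w := (⟨c, hc.1⟩ : U)) hc.2.1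
          (fun u hu => by
            obtain ⟨t, rfl⟩ := Submodule.mem_span_singleton.1 hu
            rw [hp, Submodule.coe_smul, polar_smul_left', hr, mul_zero])
          (fun hm => hcx (by
            have := Submodule.mem_map_of_mem (f := U.subtype) hm
            rw [Submodule.map_span, Set.image_singleton] at this
            exact this))
        have hQa : Q (a : V) = 0 := ha0
        have hxa' : polar Q x (a : V) = 0 := by
          have := hxa ⟨x, hx⟩ (Submodule.mem_span_singleton_self _)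
          rwa [hp] at this
        rw [hp] at hca
        obtain ⟨β, hβd⟩ : ∃ β, β = polar Q y c := ⟨_, rfl⟩
        rw [← hβd] at hβ
        obtain ⟨d, hdd⟩ : ∃ d, d = ap (π (L C hB x y)) c := ⟨_, rfl⟩
        rw [← hdd] at hd hg'
        have hdc : d = c + β • x := by rw [hdd, hmap, hr, ← hβd]; module
        have hi : Ind F c d := ⟨hc.2.2, fun hm => hxc.symm.2 (by
          have e : x = β⁻¹ • (d - c) := by rw [hdc, add_sub_cancel_left, inv_smul_smul₀ hβ]
          rw [e]
          exact Submodule.smul_mem _ _ (sub_mem hm (Submodule.mem_span_singleton_self c)))⟩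
        have hP : Part Q c d (a : V) := ⟨hQa, by rw [polar_comm]; exact hca, by
          rw [hdc, polar_add_right', polar_smul_right', polar_comm (⇑Q) (a : V) x, hxa', polar_comm, hca]; ring⟩
        have hxb : polar Q x (β • (a : V)) = 0 := by rw [polar_smul_right', hxa', mul_zero]
        have hxy' : polar Q x (y - β • (a : V)) = 0 := by rw [polar_sub_right, hxy, hxb, sub_zero]
        have e1 : L C hB x (β • (a : V)) = L C hB (a : V) (c - d) := by
          rw [← L_smul C hB hx0 hxa', L_flip C hB hQa (by rw [apply_smul, hx0, mul_zero])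
            (by rw [polar_smul_right', polar_comm, hxa', mul_zero]), hdc]
          congr 1; abel
        have e2 : L C hB x y = L C hB (a : V) (c - d) * L C hB x (y - β • (a : V)) := by
          rw [← e1, ← L_add C hB hx0 hxb hxy', add_sub_cancel]
        have hk : L C hB x (y - β • (a : V)) ∈ genAt C hB U c := Subgroup.subset_closure
          ⟨x, _, hx, U.sub_mem hy (U.smul_mem _ a.2), hx0, hxy', by rw [polar_comm]; exact hr,
            by rw [polar_sub_right, polar_smul_right', hca, polar_comm (⇑Q) c y, ← hβd]; ring, rfl⟩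
        have h1 : Cong C hB U c (L C hB x y) (L C hB (a : V) (c - d)) := by
          unfold Cong
          rw [e2, mul_inv_rev, inv_mul_cancel_right]
          exact inv_mem hk
        exact (h1.right C hB hgm hgmap).trans C hB (sec_step C hB hU hn h0 hc hd hi a.2 hP hg hg')
    · obtain ⟨r, hrd⟩ : ∃ r, r = polar Q x c := ⟨_, rfl⟩
      rw [← hrd] at hr
      obtain ⟨a, had⟩ : ∃ a, a = r⁻¹ • x := ⟨_, rfl⟩
      have hxa : x = r • a := by rw [had, smul_inv_smul₀ hr]
      have hQa : Q a = 0 := by rw [had, apply_smul, hx0, mul_zero]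
      have hay : polar Q a y = 0 := by rw [had, polar_smul_left', hxy, mul_zero]
      have hac : polar Q a c = 1 := by rw [had, polar_smul_left', ← hrd, inv_mul_cancel₀ hr]
      obtain ⟨d, hdd⟩ : ∃ d, d = ap (π (L C hB x y)) c := ⟨_, rfl⟩
      rw [← hdd] at hd hg'
      have hdc : c - d = r • y + (r * (r * Q y) - r * polar Q y c) • a := by
        rw [hdd, hmap, ← hrd, hxa]; module
      have e1 : L C hB x y = L C hB a (c - d) := by
        rw [hdc, L_shift C hB hQa (by rw [polar_smul_right', hay, mul_zero]), hxa, L_smul C hB hQa hay]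
      have had1 : polar Q a d = 1 := by
        have : polar Q a (c - d) = 0 := by
          rw [hdc, polar_add_right', polar_smul_right', polar_smul_right', hay, polar_self', hQa]; ring
        rw [polar_sub_right, hac] at this
        exact (sub_eq_zero.1 this).symm
      by_cases hi : Ind F c d
      · rw [e1]
        exact sec_step C hB hU hn h0 hc hd hi (had ▸ U.smul_mem _ hx) ⟨hQa, hac, had1⟩ hg hg'
      · obtain ⟨t, ht⟩ : ∃ t : F, t • c = d := by
          rw [← Submodule.mem_span_singleton]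
          by_contra h
          exact hi ⟨hc.2.2, h⟩
        have ht1 : d = c := by
          rw [← ht, polar_smul_right', hac, mul_one] at had1
          rw [← ht, had1, one_smul]
        rw [ht1, sub_self, L_zero C hB hQa] at e1
        rw [ht1] at hg'
        rw [e1, one_mul]
        exact sec_unique C hB hU hn h0 hc hg hg'

/-- kernel elements of the lifts on a subspace fix the base -/
theorem ker_le_genAt (h0 : Vtx Q U b0) {z : Γ} (hz : z ∈ genU C hB U) (h1 : π z = 1) :
    z ∈ genAt C hB U b0 := by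
  obtain ⟨g, hg⟩ := sec_exists C hB hU hn h0 h0
  have hgm := sec_base C hB hU hn h0 hg
  have := equiv_sec C hB hU hn h0 hz b0 g g h0 hg (by rw [h1, ap_one]; exact hg)
  have e : z = g * (((z * g)⁻¹ * g)⁻¹) * g⁻¹ := by group
  rw [e]
  exact mul_mem (mul_mem hgm (inv_mem this)) (inv_mem hgm)

end Cover

/-! ### the stabiliser of the base -/

section Stab

variable [FiniteDimensional F V] [Finite F] {Γ : Type*} [Group Γ] {π : Γ →* SpinV Q} (C : CExt π) (hB : Big Q)
  {U : Submodule F V} (hU : (polarBilin (Q.comp U.subtype)).Nondegenerate)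
include hU

/-- the covering theorem -/
theorem ker_genU (hn : 6 ≤ Module.finrank F U) {b b' : V} (hb : b ∈ U) (hb' : b' ∈ U) (hQb : Q b = 0)
    (hQb' : Q b' = 0) (hbb : polar Q b b' = 1)
    (hrec : ∀ z ∈ genU C hB (U ⊓ orth Q (Submodule.span F ({b, b'} : Set V))), π z = 1 → z = 1) :
    ∀ z ∈ genU C hB U, π z = 1 → z = 1 := by
  intro z hz h1
  obtain ⟨W, hW⟩ : ∃ W, W = U ⊓ orth Q (Submodule.span F ({b, b'} : Set V)) := ⟨_, rfl⟩
  rw [← hW] at hrec
  have memW : ∀ v, v ∈ W ↔ v ∈ U ∧ polar Q b v = 0 ∧ polar Q b' v = 0 := fun v => by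
    rw [hW, Submodule.mem_inf, mem_orth_span]
    simp only [Set.mem_insert_iff, Set.mem_singleton_iff, forall_eq_or_imp, forall_eq]
  have hb0 : b ≠ 0 := fun e => by rw [e, polar_zero_left] at hbb; exact zero_ne_one hbb
  have hm := ker_le_genAt C hB hU hn ⟨hb, hQb, hb0⟩ hz h1
  have fixW : ∀ m ∈ genU C hB W, ap (π m) b = b ∧ ap (π m) b' = b' := by
    intro m hm
    induction hm using Subgroup.closure_induction with
    | one => rw [map_one, ap_one, ap_one]; exact ⟨rfl, rfl⟩
    | mem g hg =>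
      obtain ⟨x, y, hx, hy, h, hxy, rfl⟩ := hg
      obtain ⟨-, x1, x2⟩ := (memW x).1 hx
      obtain ⟨-, y1, y2⟩ := (memW y).1 hy
      rw [π_L C hB h hxy]
      exact ⟨ap_El_fix h hxy (by rw [polar_comm]; exact x1) (by rw [polar_comm]; exact y1),
        ap_El_fix h hxy (by rw [polar_comm]; exact x2) (by rw [polar_comm]; exact y2)⟩
    | mul p q _ _ hp hq => rw [map_mul, ap_mul, ap_mul, hq.1, hq.2]; exact hp
    | inv p _ hp =>
      constructor
      · conv_lhs => arg 2; rw [← hp.1]
        exact ap_inv_ap (π := π) p _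
      · conv_lhs => arg 2; rw [← hp.2]
        exact ap_inv_ap (π := π) p _
  have hbW : ∀ v ∈ W, polar Q b v = 0 := fun v hv => ((memW v).1 hv).2.1
  have conj : ∀ m ∈ genU C hB W, ∀ v ∈ W,
      m * L C hB b v = L C hB b (ap (π m) v) * m ∧ ap (π m) v ∈ W := by
    intro m hm v hv
    refine ⟨?_, (pres_genU C hB hm v hv).1⟩
    rw [← mul_inv_eq_iff_eq_mul, L_conj C hB hQb (hbW v hv) rfl, (fixW m hm).1]
  let A : Subgroup Γ :=
    { carrier := {g | ∃ v ∈ W, ∃ m ∈ genU C hB W, g = L C hB b v * m}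
      one_mem' := ⟨0, zero_mem _, 1, one_mem _, by rw [L_zero C hB hQb, one_mul]⟩
      mul_mem' := by
        rintro _ _ ⟨v, hv, m, hm, rfl⟩ ⟨v', hv', m', hm', rfl⟩
        obtain ⟨e, e'⟩ := conj m hm v' hv'
        refine ⟨v + ap (π m) v', add_mem hv e', m * m', mul_mem hm hm', ?_⟩
        rw [L_add C hB hQb (hbW v hv) (hbW _ e'), mul_assoc (L C hB b v), ← mul_assoc m, e]
        simp only [mul_assoc]
      inv_mem' := by
        rintro _ ⟨v, hv, m, hm, rfl⟩
        obtain ⟨e, e'⟩ := conj m⁻¹ (inv_mem hm) (-v) (neg_mem hv)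
        refine ⟨_, e', m⁻¹, inv_mem hm, ?_⟩
        rw [← e, L_neg C hB hQb (hbW v hv), mul_inv_rev] }
  have bas : ∀ v ∈ W, L C hB b v ∈ A := fun v hv => ⟨v, hv, 1, one_mem _, (mul_one _).symm⟩
  have inW : ∀ g ∈ genU C hB W, g ∈ A := fun g hg => ⟨0, zero_mem _, g, hg, by rw [L_zero C hB hQb, one_mul]⟩
  have split : ∀ y ∈ U, polar Q b y = 0 → ∃ μ : F, ∃ y0 ∈ W, y = y0 + μ • b := by
    intro y hy hby
    refine ⟨polar Q b' y, y - polar Q b' y • b, (memW _).2 ⟨sub_mem hy (U.smul_mem _ hb), ?_, ?_⟩, by abel⟩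
    · rw [polar_sub_right, hby, polar_smul_right', polar_self', hQb]; ring
    · rw [polar_sub_right, polar_smul_right', polar_comm (⇑Q) b' b, hbb]; ring
  have zero_case : ∀ x ∈ W, Q x = 0 → ∀ y ∈ U, polar Q b y = 0 → polar Q x y = 0 → L C hB x y ∈ A := by
    intro x hx hQx y hy hby hxy
    obtain ⟨μ, y0, hy0, rfl⟩ := split y hy hby
    obtain ⟨hxU, x1, -⟩ := (memW x).1 hx
    have hxb : polar Q x (μ • b) = 0 := by rw [polar_smul_right', polar_comm, x1, mul_zero]
    have hxy0 : polar Q x y0 = 0 := by rwa [polar_add_right', hxb, add_zero] at hxy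
    rw [L_add C hB hQx hxy0 hxb]
    refine mul_mem (inW _ (L_mem C hB hx hy0 hQx hxy0)) ?_
    rw [L_flip C hB (by rw [apply_smul, hQb, mul_zero]) hQx (by rw [polar_smul_left', x1, mul_zero]),
      L_smul C hB hQb (by rw [polar_neg_right, x1, neg_zero])]
    exact bas _ (W.smul_mem _ (neg_mem hx))
  have hA : genAt C hB U b ≤ A := (Subgroup.closure_le _).2 (by
    rintro _ ⟨x, y, hx, hy, hQx, hxy, hbx, hby, rfl⟩
    show L C hB x y ∈ A
    obtain ⟨lam, x0, hx0, rfl⟩ := split x hx hbx
    obtain ⟨hx0U, x1, x2⟩ := (memW x0).1 hx0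
    have hQx0 : Q x0 = 0 := by
      rw [apply_add, apply_smul, hQb, polar_smul_right', polar_comm (⇑Q) x0 b, x1] at hQx
      simpa using hQx
    by_cases hl : lam = 0
    · rw [hl, zero_smul, add_zero] at hxy ⊢
      exact zero_case x0 hx0 hQx0 y hy hby hxy
    by_cases h00 : x0 = 0
    · rw [h00, zero_add, L_smul C hB hQb hby]
      obtain ⟨μ, y0, hy0, rfl⟩ := split y hy hby
      rw [smul_add, smul_smul, L_shift C hB hQb (by rw [polar_smul_right', hbW y0 hy0, mul_zero])]
      exact bas _ (W.smul_mem _ hy0)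
    obtain ⟨v0, hv1, hv2⟩ := exists_sep_polar hU (U := Submodule.span F ({⟨b, hb⟩, ⟨b', hb'⟩} : Set U))
      (x := (⟨x0, hx0U⟩ : U)) (fun hm => h00 (by
        obtain ⟨i, j, hij⟩ := Submodule.mem_span_pair.1 hm
        have e : i • b + j • b' = x0 := congrArg Subtype.val hij
        have e1 : j = 0 := by
          rw [← e, polar_add_right', polar_smul_right', polar_smul_right', polar_self', hQb, hbb] at x1
          linear_combination x1
        have e2 : i = 0 := by
          rw [← e, polar_add_right', polar_smul_right', polar_smul_right', polar_self', hQb', polar_comm (⇑Q) b' b,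
            hbb] at x2
          linear_combination x2
        rw [← e, e1, e2]; simp))
    rw [mem_comp_polar] at hv1
    obtain ⟨v, hvd⟩ : ∃ v, v = lam • (v0 : V) := ⟨_, rfl⟩
    have hv : v ∈ W := by
      rw [hvd]
      refine (memW _).2 ⟨U.smul_mem _ v0.2, ?_, ?_⟩
      · have := hv2 _ (Submodule.subset_span (Set.mem_insert _ _))
        rw [mem_comp_polar] at this
        rw [polar_smul_right', this, mul_zero]
      · have := hv2 _ (Submodule.subset_span (Set.mem_insert_of_mem _ rfl))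
        rw [mem_comp_polar] at this
        rw [polar_smul_right', this, mul_zero]
    have hbv := hbW v hv
    have hmap : ap (El b v : SpinV Q) x0 = x0 + lam • b := by
      rw [ap_El hQb hbv, x1, hvd, polar_smul_left', polar_comm (⇑Q) (v0 : V) x0, hv1]; module
    obtain ⟨y', hy'd⟩ : ∃ y', y' = ap (El b v : SpinV Q)⁻¹ y := ⟨_, rfl⟩
    have hyy : ap (El b v : SpinV Q) y' = y := by rw [hy'd, ← ap_mul, mul_inv_cancel, ap_one]
    have hxy' : polar Q x0 y' = 0 := by
      rw [← ap_polar (El b v : SpinV Q), hmap, hyy]; exact hxy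
    have hby' : polar Q b y' = 0 := by
      rw [← ap_polar (El b v : SpinV Q), hyy,
        ap_El_fix hQb hbv (by rw [polar_self', hQb, mul_zero]) (by rw [polar_comm]; exact hbv)]
      exact hby
    have hy'U : y' ∈ U := by
      rw [hy'd, El_inv]
      exact ap_El_mem hb (U.neg_mem ((memW v).1 hv).1) hQb (by rw [polar_neg_right, hbv, neg_zero]) hy
    have e := L_conj C hB hQx0 hxy' (π_L C hB hQb hbv)
    rw [hmap, hyy] at e
    rw [← e]
    exact mul_mem (mul_mem (bas v hv) (zero_case x0 hx0 hQx0 y' hy'U hby' hxy')) (inv_mem (bas v hv)))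
  obtain ⟨v, hv, m, hm', rfl⟩ := hA hm
  obtain ⟨hvU, v1, v2⟩ := (memW v).1 hv
  have e1 : ap (π (L C hB b v * m)) b' = b' := by rw [h1, ap_one]
  rw [map_mul, ap_mul, (fixW m hm').2, π_L C hB hQb v1, ap_El hQb v1, hbb, polar_comm (⇑Q) v b', v2] at e1
  have hv0 : v = (-Q v) • b := by
    have : v + Q v • b = 0 := by
      calc v + Q v • b = b' - (b' + ((0 : F) • b - (1 : F) • v) - (1 * Q v) • b) := by module
        _ = 0 := by rw [e1, sub_self]
    rw [neg_smul]; exact eq_neg_of_add_eq_zero_left this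
  have hQv : Q v = 0 := by
    have := v2
    rw [hv0, polar_smul_right', polar_comm (⇑Q) b' b, hbb] at this
    linear_combination -this
  rw [hQv, neg_zero, zero_smul] at hv0
  rw [hv0, L_zero C hB hQb, one_mul] at h1 ⊢
  exact hrec m hm' h1

end Stab

end

end CfsgLib.Known.SpinMinus
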