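import Cfsg.Agent.Lib.Known.SpinMult.Clifford
import Cfsg.Agent.Lib.Classical.Quad.Eichler

/-!
# The spin group generated by all Eichler units
-/

set_option autoImplicit false
set_option linter.unusedSectionVars false

namespace CfsgLib.Known.SpinMinus

noncomputable section

open CliffordAlgebra QuadraticMap CfsgLib.Classical.Quad CfsgLib.Known.SpinMult

variable {F : Type*} [Field F] {V : Type*} [AddCommGroup V] [Module F V]

/-- the group generated by Eichler units -/
def SpinV (Q : QuadraticForm F V) : Subgroup (Nrm Q) :=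
  Subgroup.closure {g | ∃ (u v : V) (hu : Q u = 0) (hb : polar Q u v = 0), g = X hu hb 1}

variable {Q : QuadraticForm F V}

/-- the Eichler element -/
def El (u v : V) : SpinV Q :=
  open scoped _root_.Classical in if h : Q u = 0 ∧ polar Q u v = 0 then ⟨X h.1 h.2 1, Subgroup.subset_closure ⟨u, v, h.1, h.2, rfl⟩⟩ else 1

/-- value in the algebra -/
def val (g : SpinV Q) : CliffordAlgebra Q := (((g : Nrm Q) : (CliffordAlgebra Q)ˣ) : CliffordAlgebra Q)

theorem ext_val {g g' : SpinV Q} (h : val g = val g') : g = g' := Subtype.ext (Subtype.ext (Units.ext h))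

theorem val_mul (g g' : SpinV Q) : val (g * g') = val g * val g' := rfl

theorem val_one : val (1 : SpinV Q) = 1 := rfl

theorem val_El {u v : V} (hu : Q u = 0) (hb : polar Q u v = 0) :
    val (El u v : SpinV Q) = 1 + ι Q u * ι Q v := by
  rw [El, dif_pos ⟨hu, hb⟩]
  show ((X hu hb 1 : (CliffordAlgebra Q)ˣ) : CliffordAlgebra Q) = _
  rw [X_val, one_smul]

theorem El_neg_cond {u v : V} (h : ¬ (Q u = 0 ∧ polar Q u v = 0)) : (El u v : SpinV Q) = 1 := by
  rw [El, dif_neg h]

theorem El_add {u v v' : V} (hu : Q u = 0) (hv : polar Q u v = 0) (hv' : polar Q u v' = 0) :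
    (El u v : SpinV Q) * El u v' = El u (v + v') := by
  refine ext_val ?_
  have h1 : ι Q u * ι Q v * (ι Q u * ι Q v') = 0 := by
    rw [mul_assoc, ← mul_assoc (ι Q v), ι_mul_ι_comm v u, polar_comm (⇑Q) v u, hv, map_zero, zero_sub, neg_mul,
      mul_neg, mul_assoc (ι Q u) (ι Q v), ← mul_assoc (ι Q u) (ι Q u), ι_sq_scalar, hu, map_zero, zero_mul, neg_zero]
  rw [val_mul, val_El hu hv, val_El hu hv', val_El hu (by rw [polar_add_right', hv, hv', add_zero]), map_add,
    mul_add (ι Q u), add_mul, one_mul, mul_add, mul_one, h1, add_zero]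
  abel

theorem El_zero (u : V) : (El u 0 : SpinV Q) = 1 := by
  by_cases h : Q u = 0
  · refine ext_val ?_
    rw [val_El h (polar_zero_right _ _), map_zero, mul_zero, add_zero, val_one]
  · exact El_neg_cond fun e => h e.1

theorem El_zero_left (v : V) : (El 0 v : SpinV Q) = 1 := by
  refine ext_val ?_
  rw [val_El (map_zero _) (polar_zero_left _ _), map_zero, zero_mul, add_zero, val_one]

theorem El_inv (u v : V) : (El u v : SpinV Q)⁻¹ = El u (-v) := by
  by_cases h : Q u = 0 ∧ polar Q u v = 0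
  · refine inv_eq_of_mul_eq_one_right ?_
    rw [El_add h.1 h.2 (by rw [polar_neg_right, h.2, neg_zero]), add_neg_cancel, El_zero]
  · rw [El_neg_cond h, El_neg_cond (by simpa using h), inv_one]

theorem El_smul_left (u v : V) (c : F) (hc : c ≠ 0) : (El (c • u) v : SpinV Q) = El u (c • v) := by
  by_cases h : Q u = 0 ∧ polar Q u v = 0
  · refine ext_val ?_
    rw [val_El (by rw [apply_smul, h.1, mul_zero]) (by rw [polar_smul_left', h.2, mul_zero]),
      val_El h.1 (by rw [polar_smul_right', h.2, mul_zero]), map_smul, map_smul, smul_mul_assoc, mul_smul_comm]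
  · rw [El_neg_cond, El_neg_cond]
    · simpa [polar_smul_right', hc] using h
    · simpa [apply_smul, polar_smul_left', hc] using h

theorem El_smul_comm {u v : V} (hu : Q u = 0) (hv : polar Q u v = 0) (c : F) :
    (El (c • u) v : SpinV Q) = El u (c • v) := by
  rcases eq_or_ne c 0 with rfl | hc
  · rw [zero_smul, zero_smul, El_zero_left, El_zero]
  · exact El_smul_left u v c hc

theorem El_self {u : V} (hu : Q u = 0) (c : F) : (El u (c • u) : SpinV Q) = 1 := by
  refine ext_val ?_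
  rw [val_El hu (by rw [polar_smul_right', polar_self', hu, mul_zero, mul_zero]), map_smul, mul_smul_comm,
    ι_sq_scalar, hu, map_zero, smul_zero, add_zero, val_one]

theorem El_shift {u v : V} (hu : Q u = 0) (hv : polar Q u v = 0) (c : F) :
    (El u (v + c • u) : SpinV Q) = El u v := by
  rw [← El_add hu hv (by rw [polar_smul_right', polar_self', hu, mul_zero, mul_zero]), El_self hu, mul_one]

theorem El_flip {u v : V} (hu : Q u = 0) (hv : Q v = 0) (h : polar Q u v = 0) :
    (El v u : SpinV Q) = El u (-v) := by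
  refine ext_val ?_
  rw [val_El hv (by rw [polar_comm]; exact h), val_El hu (by rw [polar_neg_right, h, neg_zero]), map_neg, mul_neg,
    ι_mul_ι_comm v u, polar_comm (⇑Q) v u, h, map_zero, zero_sub]

/-- closure induction for the Eichler elements -/
theorem spin_induction {P : SpinV Q → Prop} (h1 : P 1) (hm : ∀ g g', P g → P g' → P (g * g'))
    (hi : ∀ g, P g → P g⁻¹) (hE : ∀ u v, Q u = 0 → polar Q u v = 0 → P (El u v)) (g : SpinV Q) : P g := by
  obtain ⟨g, hg⟩ := g
  induction hg using Subgroup.closure_induction with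
  | one => exact h1
  | mem a ha =>
    obtain ⟨u, v, hu, hb, rfl⟩ := ha
    have := hE u v hu hb
    rw [El, dif_pos ⟨hu, hb⟩] at this
    exact this
  | mul a b ha hb iha ihb => exact hm _ _ iha ihb
  | inv a ha iha => exact hi _ iha

theorem closure_El : Subgroup.closure {g : SpinV Q | ∃ u v, Q u = 0 ∧ polar Q u v = 0 ∧ g = El u v} = ⊤ :=
  eq_top_iff.2 fun g _ => by
    refine spin_induction (P := fun g : SpinV Q =>
      g ∈ Subgroup.closure {g : SpinV Q | ∃ u v, Q u = 0 ∧ polar Q u v = 0 ∧ g = El u v}) (one_mem _)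
      (fun _ _ => mul_mem) (fun _ => inv_mem) (fun u v hu hv => Subgroup.subset_closure ?_) g
    exact ⟨u, v, hu, hv, rfl⟩

variable [FiniteDimensional F V]

variable (F V) in
/-- some ordered basis -/
def bmV : Module.Basis (Fin (Module.finrank F V)) F V := Module.finBasis F V

/-- the orthogonal map -/
def toO : SpinV Q →* OQ Q := (act (bmV F V)).comp (SpinV Q).subtype

/-- the linear map -/
def ap (g : SpinV Q) : V ≃ₗ[F] V := (toO g : V ≃ₗ[F] V)

theorem ap_def (g : SpinV Q) (z : V) : ap g z = actv (g : Nrm Q) z := rfl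

theorem ap_mul (g g' : SpinV Q) (z : V) : ap (g * g') z = ap g (ap g' z) := by
  rw [ap, map_mul]; rfl

theorem ap_one (z : V) : ap (1 : SpinV Q) z = z := by rw [ap, map_one]; rfl

theorem ap_Q (g : SpinV Q) (z : V) : Q (ap g z) = Q z := OQ.map_apply (toO g) z

theorem ap_polar (g : SpinV Q) (y z : V) : polar Q (ap g y) (ap g z) = polar Q y z := OQ.map_polar (toO g) y z

theorem ap_El {u v : V} (hu : Q u = 0) (hv : polar Q u v = 0) (z : V) :
    ap (El u v : SpinV Q) z = z + (polar Q v z • u - polar Q u z • v) - (polar Q u z * Q v) • u := by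
  rw [ap_def, El, dif_pos ⟨hu, hv⟩]
  show actv (X hu hv 1) z = _
  rw [actv_X (bmV F V), one_smul, one_mul, one_mul]

theorem ap_El_fix {u v z : V} (hu : Q u = 0) (hv : polar Q u v = 0) (h1 : polar Q u z = 0)
    (h2 : polar Q v z = 0) : ap (El u v : SpinV Q) z = z := by
  rw [ap_El hu hv, h1, h2]; simp

theorem conj_X_eq (γ : Nrm Q) {u v : V} (hu : Q u = 0) (hv : polar Q u v = 0)
    (hu' : Q (actv γ u) = 0) (hv' : polar Q (actv γ u) (actv γ v) = 0) :
    γ * X hu hv 1 * γ⁻¹ = X hu' hv' 1 :=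
  Subtype.ext (Units.ext ((conj_X γ hu hv 1).trans (by rw [X_val])))

theorem actv_Q (γ : Nrm Q) (z : V) : Q (actv γ z) = Q z := OQ.map_apply (act (bmV F V) γ) z

theorem actv_polar (γ : Nrm Q) (y z : V) : polar Q (actv γ y) (actv γ z) = polar Q y z :=
  OQ.map_polar (act (bmV F V) γ) y z

theorem conj_El (g : SpinV Q) (u v : V) : g * El u v * g⁻¹ = El (ap g u) (ap g v) := by
  by_cases h : Q u = 0 ∧ polar Q u v = 0
  · refine Subtype.ext ?_
    have hu : Q (ap g u) = 0 := by rw [ap_Q]; exact h.1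
    have hv : polar Q (ap g u) (ap g v) = 0 := by rw [ap_polar]; exact h.2
    rw [El, El, dif_pos h, dif_pos (show Q (ap g u) = 0 ∧ polar Q (ap g u) (ap g v) = 0 from ⟨hu, hv⟩)]
    exact conj_X_eq (g : Nrm Q) h.1 h.2 hu hv
  · rw [El_neg_cond h, El_neg_cond (by rwa [ap_Q, ap_polar]), mul_one, mul_inv_cancel]

instance normal_SpinV : (SpinV Q).Normal := by
  refine ⟨fun n hn γ => ?_⟩
  have hle : SpinV Q ≤ (SpinV Q).comap (MulAut.conj γ).toMonoidHom := (Subgroup.closure_le _).2 (by
    rintro _ ⟨u, v, hu, hv, rfl⟩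
    show γ * X hu hv 1 * γ⁻¹ ∈ SpinV Q
    rw [conj_X_eq γ hu hv (by rw [actv_Q]; exact hu) (by rw [actv_polar]; exact hv)]
    exact Subgroup.subset_closure ⟨_, _, _, _, rfl⟩)
  exact hle hn

theorem El_commute {a v b w : V} (ha : Q a = 0) (hv : polar Q a v = 0) (h1 : polar Q a b = 0)
    (h2 : polar Q v b = 0) (h3 : polar Q a w = 0) (h4 : polar Q v w = 0) :
    Commute (El a v : SpinV Q) (El b w) := by
  rw [commute_iff_eq, ← mul_inv_eq_iff_eq_mul, conj_El, ap_El_fix ha hv h1 h2, ap_El_fix ha hv h3 h4]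

theorem El_commute_same {a v w : V} (ha : Q a = 0) (hv : polar Q a v = 0) (hw : polar Q a w = 0) :
    Commute (El a v : SpinV Q) (El a w) := by
  rw [commute_iff_eq, El_add ha hv hw, El_add ha hw hv, add_comm]

variable (hQ : (polarBilin Q).Nondegenerate)
include hQ

theorem toO_El {u v : V} (hu : Q u = 0) (hv : polar Q u v = 0) : toO (El u v : SpinV Q) = eich hQ hu hv := by
  refine Subtype.ext (LinearEquiv.ext fun z => ?_)
  show ap (El u v : SpinV Q) z = _
  rw [ap_El hu hv, eich_apply, polar_comm (⇑Q) v z, polar_comm (⇑Q) u z]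
  module

variable [Finite F] (hn : 5 ≤ Module.finrank F V)
include hn

theorem range_toO : (toO (Q := Q)).range = commutator (OQ Q) := by
  refine le_antisymm ?_ ?_
  · rintro _ ⟨g, rfl⟩
    refine spin_induction (P := fun g => toO g ∈ commutator (OQ Q)) (by rw [map_one]; exact one_mem _)
      (fun a b ha hb => by rw [map_mul]; exact mul_mem ha hb) (fun a ha => by rw [map_inv]; exact inv_mem ha)
      (fun u v hu hv => by rw [toO_El hQ hu hv]; exact eich_mem_commutator hQ hn hu hv) g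
  · rw [← eichGroup_eq_commutator hQ hn, eichGroup, Subgroup.closure_le]
    rintro _ ⟨w, a, hw, ha, -, rfl⟩
    exact ⟨El w a, toO_El hQ hw ha⟩

end

noncomputable section

open CliffordAlgebra QuadraticMap CfsgLib.Classical.Quad CfsgLib.Known.SpinMult

variable {F : Type*} [Field F] {V : Type*} [AddCommGroup V] [Module F V] [FiniteDimensional F V]
  {Q : QuadraticForm F V}

/-- an anisotropic vector as a unit -/
def iu {v : V} (hv : Q v ≠ 0) : (CliffordAlgebra Q)ˣ where
  val := ι Q v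
  inv := (Q v)⁻¹ • ι Q v
  val_inv := by rw [mul_smul_comm, ι_sq_scalar, Algebra.smul_def, ← map_mul, inv_mul_cancel₀ hv, map_one]
  inv_val := by rw [smul_mul_assoc, ι_sq_scalar, Algebra.smul_def, ← map_mul, inv_mul_cancel₀ hv, map_one]

theorem iu_conj {v : V} (hv : Q v ≠ 0) (z : V) :
    (iu hv : CliffordAlgebra Q) * ι Q z * ((iu hv)⁻¹ : (CliffordAlgebra Q)ˣ) =
      ι Q (((Q v)⁻¹ * polar Q z v) • v - z) := by
  show ι Q v * ι Q z * ((Q v)⁻¹ • ι Q v) = _
  rw [ι_mul_ι_comm, sub_mul, mul_smul_comm, mul_smul_comm, mul_assoc, ι_sq_scalar, Algebra.algebraMap_eq_smul_one,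
    Algebra.algebraMap_eq_smul_one, smul_mul_assoc, one_mul, mul_smul_comm, mul_one, smul_smul, smul_smul,
    inv_mul_cancel₀ hv, one_smul, map_sub, map_smul, polar_comm (⇑Q) v z]

/-- an anisotropic vector in the normaliser of the vectors -/
def iv {v : V} (hv : Q v ≠ 0) : Nrm Q :=
  ⟨iu hv, fun z => ⟨_, iu_conj hv z⟩, fun z => ⟨((Q v)⁻¹ * polar Q z v) • v - z, by
    rw [← iu_conj hv z]
    show ((Q v)⁻¹ • ι Q v) * ι Q z * ι Q v = ι Q v * ι Q z * ((Q v)⁻¹ • ι Q v)
    rw [smul_mul_assoc, smul_mul_assoc, mul_smul_comm]⟩⟩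

theorem actv_iv {v : V} (hv : Q v ≠ 0) (z : V) : actv (iv hv) z = ((Q v)⁻¹ * polar Q z v) • v - z :=
  actv_eq (bmV F V) (iu_conj hv z)

theorem iv_conj {v w : V} (hv : Q v ≠ 0) (hw : Q w ≠ 0) (γ : Nrm Q) (h : actv γ v = w) :
    γ * iv hv * γ⁻¹ = iv hw := by
  refine Subtype.ext (Units.ext ?_)
  show ((γ : (CliffordAlgebra Q)ˣ) : CliffordAlgebra Q) * ι Q v * _ = ι Q w
  rw [← h]
  exact ι_actv γ v

variable [Finite F] (hQ : (polarBilin Q).Nondegenerate) (hn : 5 ≤ Module.finrank F V)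
include hQ hn

theorem ratio_mem {u v : V} (hu : Q u ≠ 0) (hv : Q v ≠ 0) (h : Q u = Q v) :
    iv hu * (iv hv)⁻¹ ∈ SpinV Q := by
  obtain ⟨s, hs, hsv⟩ := exists_move_vector hQ hn hv h
  rw [eichGroup_eq_commutator hQ hn, ← range_toO hQ hn] at hs
  obtain ⟨g, rfl⟩ := hs
  rw [← iv_conj hv hu (g : Nrm Q) hsv, show (g : Nrm Q) * iv hv * (g : Nrm Q)⁻¹ * (iv hv)⁻¹ =
    g * (iv hv * (g : Nrm Q)⁻¹ * (iv hv)⁻¹) by group]
  exact mul_mem g.2 (normal_SpinV.conj_mem _ (inv_mem g.2) _)

/-- the product of two vectors of the same value -/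
theorem exists_ratio {u v : V} (hu : Q u ≠ 0) (hv : Q v ≠ 0) (h : Q u = Q v) :
    ∃ g : SpinV Q, val g = (Q v)⁻¹ • (ι Q u * ι Q v) ∧
      ∀ z, ap g z = ((Q u)⁻¹ * polar Q (((Q v)⁻¹ * polar Q z v) • v - z) u) • u -
        (((Q v)⁻¹ * polar Q z v) • v - z) := by
  refine ⟨⟨_, ratio_mem hQ hn hu hv h⟩, ?_, fun z => ?_⟩
  · show ι Q u * ((Q v)⁻¹ • ι Q v) = _
    rw [mul_smul_comm]
  · have e : actv (iv hv)⁻¹ z = actv (iv hv) z := by
      refine actv_eq (bmV F V) ?_
      rw [← ι_actv (iv hv) z]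
      show ((Q v)⁻¹ • ι Q v) * ι Q z * ι Q v = ι Q v * ι Q z * ((Q v)⁻¹ • ι Q v)
      rw [smul_mul_assoc, smul_mul_assoc, mul_smul_comm]
    rw [ap_def, actv_mul (bmV F V), e, actv_iv, actv_iv]

theorem exists_neg_one {v : V} (hv : Q v ≠ 0) : ∃ z : SpinV Q, val z = -1 := by
  obtain ⟨g, hg, -⟩ := exists_ratio hQ hn (show Q (-v) ≠ 0 by rwa [QuadraticMap.map_neg]) hv (QuadraticMap.map_neg Q v)
  refine ⟨g, ?_⟩
  rw [hg, map_neg, neg_mul, ι_sq_scalar, smul_neg, Algebra.smul_def, ← map_mul, inv_mul_cancel₀ hv, map_one]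

end

noncomputable section

open CliffordAlgebra QuadraticMap CfsgLib.Classical.Quad CfsgLib.Known.SpinMult

variable {F : Type*} [Field F] {V : Type*} [AddCommGroup V] [Module F V] [FiniteDimensional F V]
  {Q : QuadraticForm F V}

theorem val_props (g : SpinV Q) : involute (val g) = val g ∧ reverse (val g) * val g = 1 := by
  refine spin_induction (P := fun g => involute (val g) = val g ∧ reverse (val g) * val g = 1)
    (by simp [val_one]) (fun a b ha hb => ?_) (fun a ha => ?_) (fun u v hu hv => ?_) g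
  · rw [val_mul, map_mul, ha.1, hb.1, reverse.map_mul, mul_assoc, ← mul_assoc _ (val a), ha.2, one_mul, hb.2]
    exact ⟨rfl, rfl⟩
  · obtain ⟨A, hA⟩ : ∃ A, A = ((a : Nrm Q) : (CliffordAlgebra Q)ˣ) := ⟨_, rfl⟩
    have e0 : val a = (A : CliffordAlgebra Q) := by rw [hA]; rfl
    have e1 : val a⁻¹ = ((A⁻¹ : (CliffordAlgebra Q)ˣ) : CliffordAlgebra Q) := by rw [hA]; rfl
    rw [e0] at ha
    rw [e1]
    have h1 : involute (A⁻¹ : (CliffordAlgebra Q)ˣ).val * (A : CliffordAlgebra Q) = 1 := by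
      conv_lhs => arg 2; rw [← ha.1]
      rw [← map_mul, Units.inv_mul, map_one]
    have h2 : reverse (A : CliffordAlgebra Q) = (A⁻¹ : (CliffordAlgebra Q)ˣ).val :=
      (Units.mul_eq_one_iff_eq_inv).1 ha.2
    refine ⟨(Units.mul_eq_one_iff_eq_inv).1 h1, ?_⟩
    rw [← h2, reverse_reverse, h2, Units.mul_inv]
  · rw [El, dif_pos ⟨hu, hv⟩]
    exact ⟨by rw [val, X_involute, X_val], X_reverse hu hv 1⟩

variable (hQ : (polarBilin Q).Nondegenerate)
include hQ

theorem val_of_ker {g : SpinV Q} (h : ∀ z, ap g z = z) : val g = 1 ∨ val g = -1 := by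
  obtain ⟨h1, h2⟩ := val_props g
  obtain ⟨c, hc⟩ := scalar_of_commute (bmV F V) hQ h1 fun v => by
    have e := ι_actv (g : Nrm Q) v
    rw [← ap_def, h] at e
    conv_lhs => rw [← e]
    show _ * val g = val g * _
    unfold val
    rw [mul_assoc, Units.inv_mul, mul_one]
  rw [hc, reverse.commutes, ← map_mul, ← map_one (algebraMap F (CliffordAlgebra Q))] at h2
  rcases mul_self_eq_one_iff.1 (algebraMap_inj (bmV F V) h2) with rfl | rfl
  · exact Or.inl (by rw [hc, map_one])
  · exact Or.inr (by rw [hc, map_neg, map_one])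

theorem finite_SpinV [Finite F] : Finite (SpinV Q) := by
  have : Finite V := Module.finite_of_finite F
  have : Finite (V ≃ₗ[F] V) := Finite.of_injective (fun e => (e : V → V)) DFunLike.coe_injective
  have : Finite (toO (Q := Q)).ker := by
    refine Set.Finite.to_subtype (Set.Finite.of_finite_image (f := val) ?_ ?_)
    · refine ((Set.finite_singleton (-1)).insert 1).subset ?_
      rintro _ ⟨g, hg, rfl⟩
      exact val_of_ker hQ fun z => by rw [ap, MonoidHom.mem_ker.1 hg]; rfl
    · exact fun g _ g' _ h => ext_val h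
  have : Finite (toO (Q := Q)).range := Finite.of_injective _ Subtype.val_injective
  have : Finite (SpinV Q ⧸ (toO (Q := Q)).ker) :=
    Finite.of_equiv _ (QuotientGroup.quotientKerEquivRange (toO (Q := Q))).symm.toEquiv
  exact Finite.of_equiv _ (Subgroup.groupEquivQuotientProdSubgroup (s := (toO (Q := Q)).ker)).symm

end

end CfsgLib.Known.SpinMinus
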