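import Cfsg.Agent.Lib.Known.SpinMinus.Base
import Cfsg.Agent.Lib.Classical.Quad.PlusMinusType

/-!
# The standard form of minus type
-/

set_option autoImplicit false
set_option linter.unusedSectionVars false

namespace CfsgLib.Known.SpinMinus

noncomputable section

open QuadraticMap CfsgLib.Classical.Quad CfsgLib.Known.SympMult CfsgLib.Known.SpinMult

universe u

section Split

variable {F : Type*} [Field F] [Finite F] {V : Type*} [AddCommGroup V] [Module F V] [FiniteDimensional F V]
  {Q : QuadraticForm F V} {m : ℕ}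

/-- lifts on the span of a hyperbolic system -/
theorem ker_span (hm : 3 ≤ m) (vec : Idx m → V) (hs : ∀ i, Q (vec i) = 0)
    (hp : ∀ i j, polar Q (vec i) (vec j) = if j = i.swap then 1 else 0) {Γ : Type*} [Group Γ] [Finite Γ]
    {π : Γ →* SpinV Q} (C : CExt π) (hB : Big Q) :
    ∀ z ∈ genU C hB (Submodule.span F (Set.range vec)), π z = 1 → z = 1 := by
  classical
  have hli : LinearIndependent F vec := by
    refine Fintype.linearIndependent_iff.2 fun g hg i => ?_
    have h := congrArg (polarBilin Q (vec i.swap)) hg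
    simpa only [map_sum, map_smul, map_zero, QuadraticMap.polarBilin_apply_apply, hp, Sum.swap_swap,
      smul_eq_mul, mul_ite, mul_one, mul_zero, Finset.sum_ite_eq', Finset.mem_univ, if_true] using h
  obtain ⟨e, he⟩ : ∃ e : Module.Basis (Fin 0 ⊕ Idx m) F (Submodule.span F (Set.range vec)),
      ∀ i, (e (Sum.inr i) : V) = vec i :=
    ⟨(Module.Basis.span hli).reindex (Equiv.emptySum (Fin 0) (Idx m)).symm, fun i => by
      simp [Module.Basis.span_apply]⟩
  let fr : SpinMult.Frame (Q.comp (Submodule.span F (Set.range vec)).subtype) m (Fin 0) :=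
    { e := e
      sing := fun a => by
        show Q (e (Sum.inr a) : V) = 0
        rw [he]; exact hs a
      pair := fun a b => by rw [mem_comp_polar, he, he]; exact hp a b
      cross := fun s => s.elim0
      qs := fun s => s.elim0
      sub := fun s => s.elim0
      two := fun s => s.elim0 }
  refine ker_split fr C hB (SpinMult.nondeg fr) hm ?_
  rw [finrank_span_eq_card hli, Fintype.card_sum, Fintype.card_fin]
  omega

end Split

variable (F : Type u) [Field F] (k : ℕ)

/-- the standard space -/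
abbrev Vm := (Fin k ⊕ Fin k) ⊕ Fin 2 → F

/-- coordinate vector on the first half -/
def ev (i : Fin k) : Vm F k := Pi.single (Sum.inl (Sum.inl i)) 1

/-- coordinate vector on the second half -/
def fv (i : Fin k) : Vm F k := Pi.single (Sum.inl (Sum.inr i)) 1

/-- coordinate vector on the anisotropic part -/
def zv (s : Fin 2) : Vm F k := Pi.single (Sum.inr s) 1

/-- vectors supported on the first coordinates -/
def Usub (j : ℕ) : Submodule F (Vm F k) where
  carrier := {v | ∀ i : Fin k, j ≤ i.val → v (Sum.inl (Sum.inl i)) = 0 ∧ v (Sum.inl (Sum.inr i)) = 0}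
  zero_mem' := fun _ _ => ⟨rfl, rfl⟩
  add_mem' := fun {p r} hp hr i hi => by simp [(hp i hi).1, (hp i hi).2, (hr i hi).1, (hr i hi).2]
  smul_mem' := fun c p hp i hi => by simp [(hp i hi).1, (hp i hi).2]

variable {F k} {a b : F}

theorem pol_apply (v w : Vm F k) : polar (qMinus k F a b) v w =
    ∑ i, (v (Sum.inl (Sum.inl i)) * w (Sum.inl (Sum.inr i)) + w (Sum.inl (Sum.inl i)) * v (Sum.inl (Sum.inr i))) +
      (2 * v (Sum.inr 0) * w (Sum.inr 0) + a * (v (Sum.inr 0) * w (Sum.inr 1) + w (Sum.inr 0) * v (Sum.inr 1)) +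
        2 * b * v (Sum.inr 1) * w (Sum.inr 1)) := by
  simp only [polar, coe_qMinus, Cfsg.quadFormMinus, Pi.add_apply, add_mul, mul_add, Finset.sum_add_distrib]
  ring

theorem pol_ev (i : Fin k) (w : Vm F k) : polar (qMinus k F a b) (ev F k i) w = w (Sum.inl (Sum.inr i)) := by
  rw [pol_apply]
  simp [ev, Pi.single_apply]

theorem pol_fv (i : Fin k) (w : Vm F k) : polar (qMinus k F a b) (fv F k i) w = w (Sum.inl (Sum.inl i)) := by
  rw [pol_apply]
  simp [fv, Pi.single_apply]

theorem pol_z0 (w : Vm F k) :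
    polar (qMinus k F a b) (zv F k 0) w = 2 * w (Sum.inr 0) + a * w (Sum.inr 1) := by
  rw [pol_apply]
  simp [zv, Pi.single_apply]

theorem pol_z1 (w : Vm F k) :
    polar (qMinus k F a b) (zv F k 1) w = a * w (Sum.inr 0) + 2 * b * w (Sum.inr 1) := by
  rw [pol_apply]
  simp [zv, Pi.single_apply]

theorem Q_ev (i : Fin k) : qMinus k F a b (ev F k i) = 0 := by
  simp [coe_qMinus, Cfsg.quadFormMinus, ev, Pi.single_apply]

theorem Q_fv (i : Fin k) : qMinus k F a b (fv F k i) = 0 := by
  simp [coe_qMinus, Cfsg.quadFormMinus, fv, Pi.single_apply]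

theorem Q_z0 : qMinus k F a b (zv F k 0) = 1 := by
  simp [coe_qMinus, Cfsg.quadFormMinus, zv, Pi.single_apply]

theorem Q_z1 : qMinus k F a b (zv F k 1) = b := by
  simp [coe_qMinus, Cfsg.quadFormMinus, zv, Pi.single_apply]

variable [Finite F] (hab : ∀ z₁ z₂ : F, z₁ ^ 2 + a * z₁ * z₂ + b * z₂ ^ 2 = 0 → z₁ = 0 ∧ z₂ = 0)
include hab

theorem big_qMinus (hk : 3 ≤ k) : Big (qMinus k F a b) where
  nondeg := qMinus_nondeg hab k
  dim := by simp [Module.finrank_pi]; omega
  small := fun h8 S hS => by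
    have := qMinus_no_half hab k S hS
    simp [Module.finrank_pi] at h8
    omega

theorem nondeg_Usub (j : ℕ) :
    (polarBilin ((qMinus k F a b).comp (Usub F k j).subtype)).Nondegenerate := by
  have key : ∀ x : Usub F k j, (∀ y : Usub F k j, polar (qMinus k F a b) (x : Vm F k) y = 0) → x = 0 := by
    intro x hx
    refine Subtype.ext ((qMinus_nondeg hab k).1 _ fun w => ?_)
    obtain ⟨y, hy⟩ : ∃ y : Vm F k, y = Sum.elim (Sum.elim
      (fun i : Fin k => if i.val < j then w (Sum.inl (Sum.inl i)) else 0)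
      (fun i : Fin k => if i.val < j then w (Sum.inl (Sum.inr i)) else 0)) (fun s => w (Sum.inr s)) := ⟨_, rfl⟩
    have hm : y ∈ Usub F k j := fun i hi => by
      subst hy; simp [show ¬ i.val < j by omega]
    have h := hx ⟨y, hm⟩
    show polar (qMinus k F a b) (x : Vm F k) w = 0
    rw [pol_apply] at h ⊢
    convert h using 2
    · refine Finset.sum_congr rfl fun i _ => ?_
      by_cases hi : i.val < j
      · simp [hy, hi]
      · obtain ⟨e1, e2⟩ := x.2 i (by omega)
        simp [e1, e2]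
    · simp [hy]
  exact ⟨fun x hx => key x fun y => by rw [← mem_comp_polar]; exact hx y,
    fun x hx => key x fun y => by rw [← mem_comp_polar, polar_comm]; exact hx y⟩

theorem finrank_Usub {j : ℕ} (hj : 2 ≤ j) (hk : 2 ≤ k) : 6 ≤ Module.finrank F (Usub F k j) := by
  obtain ⟨g, hg⟩ : ∃ g : (Fin 2 ⊕ Fin 2) ⊕ Fin 2 → (Fin k ⊕ Fin k) ⊕ Fin 2,
      g = Sum.map (Sum.map (Fin.castLE hk) (Fin.castLE hk)) id := ⟨_, rfl⟩
  have hinj : Function.Injective g := hg ▸ Sum.map_injective.2
    ⟨Sum.map_injective.2 ⟨Fin.castLE_injective hk, Fin.castLE_injective hk⟩, Function.injective_id⟩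
  have hli : LinearIndependent F (fun s => (Pi.basisFun F ((Fin k ⊕ Fin k) ⊕ Fin 2)) (g s)) :=
    (Pi.basisFun F _).linearIndependent.comp g hinj
  have hle : Submodule.span F (Set.range fun s => (Pi.basisFun F ((Fin k ⊕ Fin k) ⊕ Fin 2)) (g s)) ≤
      Usub F k j := Submodule.span_le.2 (by
    rintro _ ⟨s, rfl⟩ i hi
    have hne : ∀ r : Fin 2, i ≠ Fin.castLE hk r := fun r e => by
      have := r.isLt; rw [e] at hi; simp at hi; omega
    rcases s with (r | r) | r <;> simp [hg, hne r])
  have := Submodule.finrank_mono hle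
  rw [finrank_span_eq_card hli] at this
  simpa using this

variable (hk : 3 ≤ k) {Γ : Type*} [Group Γ] [Finite Γ] {π : Γ →* SpinV (qMinus k F a b)} (C : CExt π)
include hk

theorem ker_Usub_one : ∀ z ∈ genU C (big_qMinus hab hk) (Usub F k 1), π z = 1 → z = 1 := by
  obtain ⟨i0, hi0⟩ : ∃ i : Fin k, i = ⟨0, by omega⟩ := ⟨_, rfl⟩
  obtain ⟨i1, hi1⟩ : ∃ i : Fin k, i = ⟨1, by omega⟩ := ⟨_, rfl⟩
  obtain ⟨i2, hi2⟩ : ∃ i : Fin k, i = ⟨2, by omega⟩ := ⟨_, rfl⟩
  have n01 : i0 ≠ i1 := by simp [hi0, hi1]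
  have n02 : i0 ≠ i2 := by simp [hi0, hi2]
  have n12 : i1 ≠ i2 := by simp [hi1, hi2]
  obtain ⟨D, hD⟩ : ∃ D, D = 4 * b - a ^ 2 := ⟨_, rfl⟩
  have hD0 : D ≠ 0 := hD ▸ discr_ne_zero hab
  obtain ⟨h1, hh1⟩ : ∃ v, v = (D⁻¹ * (2 * b)) • zv F k 0 + (-(D⁻¹ * a)) • zv F k 1 := ⟨_, rfl⟩
  obtain ⟨h2, hh2⟩ : ∃ v, v = (-(D⁻¹ * a)) • zv F k 0 + (D⁻¹ * 2) • zv F k 1 := ⟨_, rfl⟩
  obtain ⟨s1, hs1⟩ : ∃ v, v = zv F k 0 + (ev F k i1 - fv F k i1) := ⟨_, rfl⟩
  obtain ⟨s2, hs2⟩ : ∃ v, v = zv F k 1 + (a • ev F k i1 + ev F k i2 - b • fv F k i2) := ⟨_, rfl⟩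
  have Qh1 : qMinus k F a b h1 = b / D := by
    rw [hh1]; simp only [apply_add, apply_smul, polar_smul_left', polar_smul_right', Q_z0, Q_z1, pol_z0]
    simp [zv]; field_simp; rw [hD]; ring
  have Qh2 : qMinus k F a b h2 = 1 / D := by
    rw [hh2]; simp only [apply_add, apply_smul, polar_smul_left', polar_smul_right', Q_z0, Q_z1, pol_z0]
    simp [zv]; field_simp; rw [hD]; ring
  have hz : ∀ w : Vm F k, polar (qMinus k F a b) h1 w = w (Sum.inr 0) ∧
      polar (qMinus k F a b) h2 w = w (Sum.inr 1) := by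
    intro w
    rw [hh1, hh2]
    simp only [polar_add_left', polar_smul_left', pol_z0, pol_z1]
    constructor <;> field_simp <;> rw [hD] <;> ring
  obtain ⟨β, hβ⟩ : ∃ β, β = polar (qMinus k F a b) h1 h2 := ⟨_, rfl⟩
  have hβ' : β = -(D⁻¹ * a) := by rw [hβ, (hz h2).1, hh2]; simp [zv]
  obtain ⟨d1, hd1⟩ : ∃ v, v = h1 + (-(b / D)) • s1 := ⟨_, rfl⟩
  obtain ⟨d2, hd2⟩ : ∃ v, v = h2 + ((-(1 / D)) • s2 + (-β) • s1) := ⟨_, rfl⟩
  obtain ⟨vec, hvec⟩ : ∃ vec : Idx 3 → Vm F k,
      vec = Sum.elim ![ev F k i0, s1, s2] ![fv F k i0, d1, d2] := ⟨_, rfl⟩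
  have ps1 : ∀ w, polar (qMinus k F a b) s1 w =
      2 * w (Sum.inr 0) + a * w (Sum.inr 1) + (w (Sum.inl (Sum.inr i1)) - w (Sum.inl (Sum.inl i1))) := fun w => by
    rw [hs1, polar_add_left', polar_sub_left, pol_z0, pol_ev, pol_fv]
  have ps2 : ∀ w, polar (qMinus k F a b) s2 w = a * w (Sum.inr 0) + 2 * b * w (Sum.inr 1) +
      (a * w (Sum.inl (Sum.inr i1)) + w (Sum.inl (Sum.inr i2)) - b * w (Sum.inl (Sum.inl i2))) := fun w => by
    rw [hs2, polar_add_left', polar_sub_left, polar_add_left', polar_smul_left', polar_smul_left', pol_z1, pol_ev,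
      pol_ev, pol_fv]
  have pd1 : ∀ w, polar (qMinus k F a b) d1 w = w (Sum.inr 0) + (-(b / D)) * polar (qMinus k F a b) s1 w := fun w => by
    rw [hd1, polar_add_left', polar_smul_left', (hz w).1]
  have pd2 : ∀ w, polar (qMinus k F a b) d2 w =
      w (Sum.inr 1) + ((-(1 / D)) * polar (qMinus k F a b) s2 w + (-β) * polar (qMinus k F a b) s1 w) := fun w => by
    rw [hd2, polar_add_left', polar_add_left', polar_smul_left', polar_smul_left', (hz w).2]
  -- products among the building vectors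
  have s11 : qMinus k F a b s1 = 0 := by
    rw [hs1, sub_eq_add_neg, apply_add, apply_add, QuadraticMap.map_neg, polar_neg_right, Q_z0, Q_ev, Q_fv, pol_ev,
      pol_z0]
    simp [ev, fv]
  have s22 : qMinus k F a b s2 = 0 := by
    rw [hs2, sub_eq_add_neg, apply_add, apply_add, apply_add, QuadraticMap.map_neg, apply_smul, apply_smul, Q_z1,
      Q_ev, Q_ev, Q_fv, polar_neg_right, polar_smul_right', polar_add_left', polar_smul_left', polar_smul_left',
      pol_ev, pol_ev, pol_ev, pol_z1]
    simp [ev, fv, n12, n12.symm]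
  have s12 : polar (qMinus k F a b) s1 s2 = 0 := by
    rw [ps1, hs2]; simp [ev, fv, zv, n12, n12.symm]
  have s1h1 : polar (qMinus k F a b) s1 h1 = 1 := by
    rw [polar_comm, (hz s1).1, hs1]; simp [ev, fv, zv]
  have s1h2 : polar (qMinus k F a b) s1 h2 = 0 := by
    rw [polar_comm, (hz s1).2, hs1]; simp [ev, fv, zv]
  have s2h1 : polar (qMinus k F a b) s2 h1 = 0 := by
    rw [polar_comm, (hz s2).1, hs2]; simp [ev, fv, zv]
  have s2h2 : polar (qMinus k F a b) s2 h2 = 1 := by
    rw [polar_comm, (hz s2).2, hs2]; simp [ev, fv, zv]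
  have pss : polar (qMinus k F a b) s1 s1 = 0 := by rw [polar_self', s11, mul_zero]
  have pss' : polar (qMinus k F a b) s2 s2 = 0 := by rw [polar_self', s22, mul_zero]
  have d11 : qMinus k F a b d1 = 0 := by
    rw [hd1, apply_add, apply_smul, polar_smul_right', polar_comm, s1h1, s11, Qh1]; ring
  have d22 : qMinus k F a b d2 = 0 := by
    rw [hd2, apply_add, apply_add, apply_smul, apply_smul, polar_add_right', polar_smul_right', polar_smul_right',
      polar_smul_left', polar_smul_right', polar_comm (⇑(qMinus k F a b)) h2 s2, s2h2,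
      polar_comm (⇑(qMinus k F a b)) h2 s1, s1h2, polar_comm (⇑(qMinus k F a b)) s2 s1, s12, s11, s22, Qh2]
    ring
  have d12 : polar (qMinus k F a b) d1 d2 = 0 := by
    rw [hd1, hd2]
    simp only [polar_add_left', polar_add_right', polar_smul_left', polar_smul_right', s1h2, s12, pss, ← hβ,
      polar_comm (⇑(qMinus k F a b)) h1 s2, s2h1, polar_comm (⇑(qMinus k F a b)) h1 s1, s1h1]
    ring
  have s1d1 : polar (qMinus k F a b) s1 d1 = 1 := by
    rw [hd1, polar_add_right', polar_smul_right', s1h1, pss]; ring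
  have s1d2 : polar (qMinus k F a b) s1 d2 = 0 := by
    rw [hd2, polar_add_right', polar_add_right', polar_smul_right', polar_smul_right', s1h2, s12, pss]; ring
  have s2d1 : polar (qMinus k F a b) s2 d1 = 0 := by
    rw [hd1, polar_add_right', polar_smul_right', s2h1, polar_comm, s12]; ring
  have s2d2 : polar (qMinus k F a b) s2 d2 = 1 := by
    rw [hd2, polar_add_right', polar_add_right', polar_smul_right', polar_smul_right', s2h2, pss',
      polar_comm (⇑(qMinus k F a b)) s2 s1, s12]; ring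
  have low : ∀ w ∈ [s1, s2, d1, d2], polar (qMinus k F a b) (ev F k i0) w = 0 ∧
      polar (qMinus k F a b) (fv F k i0) w = 0 := by
    intro w hw
    simp only [List.mem_cons, List.not_mem_nil, or_false] at hw
    rw [pol_ev, pol_fv]
    rcases hw with rfl | rfl | rfl | rfl <;>
      simp [hd1, hd2, hh1, hh2, hs1, hs2, ev, fv, zv, n01, n01.symm, n02, n02.symm]
  obtain ⟨le1, lf1⟩ := low s1 (by simp)
  obtain ⟨le2, lf2⟩ := low s2 (by simp)
  obtain ⟨le3, lf3⟩ := low d1 (by simp)
  obtain ⟨le4, lf4⟩ := low d2 (by simp)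
  have hef : polar (qMinus k F a b) (ev F k i0) (fv F k i0) = 1 := by rw [pol_ev]; simp [fv]
  have sing : ∀ i, qMinus k F a b (vec i) = 0 := by
    intro i; rw [hvec]
    rcases i with i | i <;> fin_cases i <;> simp [Q_ev, Q_fv, s11, s22, d11, d22]
  have hp : ∀ i j, polar (qMinus k F a b) (vec i) (vec j) = if j = i.swap then 1 else 0 := by
    intro i j; rw [hvec]
    rcases i with i | i <;> rcases j with j | j <;> fin_cases i <;> fin_cases j <;>
      simp [polar_self', Q_ev, Q_fv, s11, s22, d11, d22, hef, polar_comm (⇑(qMinus k F a b)) (fv F k i0) (ev F k i0),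
        le1, lf1, le2, lf2, le3, lf3, le4, lf4,
        polar_comm (⇑(qMinus k F a b)) s1 (ev F k i0), polar_comm (⇑(qMinus k F a b)) s1 (fv F k i0),
        polar_comm (⇑(qMinus k F a b)) s2 (ev F k i0), polar_comm (⇑(qMinus k F a b)) s2 (fv F k i0),
        polar_comm (⇑(qMinus k F a b)) d1 (ev F k i0), polar_comm (⇑(qMinus k F a b)) d1 (fv F k i0),
        polar_comm (⇑(qMinus k F a b)) d2 (ev F k i0), polar_comm (⇑(qMinus k F a b)) d2 (fv F k i0),
        s12, polar_comm (⇑(qMinus k F a b)) s2 s1, s1d1, s1d2, s2d1, s2d2, d12,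
        polar_comm (⇑(qMinus k F a b)) d1 s1, polar_comm (⇑(qMinus k F a b)) d2 s1,
        polar_comm (⇑(qMinus k F a b)) d1 s2, polar_comm (⇑(qMinus k F a b)) d2 s2,
        polar_comm (⇑(qMinus k F a b)) d2 d1]
  have hle : Usub F k 1 ≤ Submodule.span F (Set.range vec) := by
    intro v hv
    have m : ∀ i, vec i ∈ Submodule.span F (Set.range vec) := fun i => Submodule.subset_span ⟨i, rfl⟩
    have m1 : ev F k i0 ∈ Submodule.span F (Set.range vec) := by
      have := m (Sum.inl 0); rw [hvec] at this ⊢; exact this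
    have m2 : fv F k i0 ∈ Submodule.span F (Set.range vec) := by
      have := m (Sum.inr 0); rw [hvec] at this ⊢; exact this
    have m3 : s1 ∈ Submodule.span F (Set.range vec) := by
      have := m (Sum.inl 1); rw [hvec] at this ⊢; exact this
    have m4 : s2 ∈ Submodule.span F (Set.range vec) := by
      have := m (Sum.inl 2); rw [hvec] at this ⊢; exact this
    have m5 : d1 ∈ Submodule.span F (Set.range vec) := by
      have := m (Sum.inr 1); rw [hvec] at this ⊢; exact this
    have m6 : d2 ∈ Submodule.span F (Set.range vec) := by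
      have := m (Sum.inr 2); rw [hvec] at this ⊢; exact this
    have mh1 : h1 ∈ Submodule.span F (Set.range vec) := by
      rw [show h1 = d1 + (b / D) • s1 by rw [hd1]; module]
      exact add_mem m5 (Submodule.smul_mem _ _ m3)
    have mh2 : h2 ∈ Submodule.span F (Set.range vec) := by
      rw [show h2 = d2 + ((1 / D) • s2 + β • s1) by rw [hd2]; module]
      exact add_mem m6 (add_mem (Submodule.smul_mem _ _ m4) (Submodule.smul_mem _ _ m3))
    have ez0 : zv F k 0 = (2 : F) • h1 + a • h2 := by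
      rw [hh1, hh2]
      match_scalars <;> field_simp <;> rw [hD] <;> ring
    have ez1 : zv F k 1 = a • h1 + (2 * b) • h2 := by
      rw [hh1, hh2]
      match_scalars <;> field_simp <;> rw [hD] <;> ring
    have hv' : v = v (Sum.inl (Sum.inl i0)) • ev F k i0 + v (Sum.inl (Sum.inr i0)) • fv F k i0 +
        (v (Sum.inr 0) • zv F k 0 + v (Sum.inr 1) • zv F k 1) := by
      funext x
      rcases x with (i | i) | s
      · by_cases hi : i = i0
        · simp [hi, ev, fv, zv]
        · have : 1 ≤ i.val := by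
            by_contra h; exact hi (Fin.ext (by simp [hi0]; omega))
          simp [hi, ev, fv, zv, (hv i this).1]
      · by_cases hi : i = i0
        · simp [hi, ev, fv, zv]
        · have : 1 ≤ i.val := by
            by_contra h; exact hi (Fin.ext (by simp [hi0]; omega))
          simp [hi, ev, fv, zv, (hv i this).2]
      · fin_cases s <;> simp [ev, fv, zv]
    rw [hv', ez0, ez1]
    exact add_mem (add_mem (Submodule.smul_mem _ _ m1) (Submodule.smul_mem _ _ m2))
      (add_mem (Submodule.smul_mem _ _ (add_mem (Submodule.smul_mem _ _ mh1) (Submodule.smul_mem _ _ mh2)))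
        (Submodule.smul_mem _ _ (add_mem (Submodule.smul_mem _ _ mh1) (Submodule.smul_mem _ _ mh2))))
  intro z hz h
  refine ker_span le_rfl vec sing hp C (big_qMinus hab hk) z ?_ h
  refine Subgroup.closure_mono ?_ hz
  rintro g ⟨x, y, hx, hy, h0, hxy, rfl⟩
  exact ⟨x, y, hle hx, hle hy, h0, hxy, rfl⟩

theorem ker_Usub (j : ℕ) (hj : 1 ≤ j) (hjk : j ≤ k) :
    ∀ z ∈ genU C (big_qMinus hab hk) (Usub F k j), π z = 1 → z = 1 := by
  induction j, hj using Nat.le_induction with
  | base => exact ker_Usub_one hab hk C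
  | succ j hj ih =>
    obtain ⟨i, hi⟩ : ∃ i : Fin k, i.val = j := ⟨⟨j, by omega⟩, rfl⟩
    have he : ev F k i ∈ Usub F k (j + 1) := fun r hr => by
      have : r ≠ i := fun e => by rw [e, hi] at hr; omega
      simp [ev, this]
    have hf : fv F k i ∈ Usub F k (j + 1) := fun r hr => by
      have : r ≠ i := fun e => by rw [e, hi] at hr; omega
      simp [fv, this]
    refine ker_genU C (big_qMinus hab hk) (nondeg_Usub hab (j + 1))
      (finrank_Usub hab (by omega) (by omega)) he hf (Q_ev i) (Q_fv i) (by rw [pol_ev]; simp [fv]) ?_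
    have e : Usub F k (j + 1) ⊓ orth (qMinus k F a b) (Submodule.span F ({ev F k i, fv F k i} : Set (Vm F k))) =
        Usub F k j := by
      ext v
      rw [Submodule.mem_inf, mem_orth_span]
      simp only [Set.mem_insert_iff, Set.mem_singleton_iff, forall_eq_or_imp, forall_eq, pol_ev, pol_fv]
      constructor
      · rintro ⟨h1, h2, h3⟩ r hr
        by_cases hri : r = i
        · rw [hri]; exact ⟨h3, h2⟩
        · exact h1 r (by
            have : r.val ≠ i.val := fun e => hri (Fin.ext e)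
            omega)
      · intro h
        exact ⟨fun r hr => h r (by omega), (h i (by omega)).2, (h i (by omega)).1⟩
    rw [e]
    exact ih (by omega)

theorem ker_eq_bot_minus (hσ : Cfsg.IsStemExtension π) : π.ker = ⊥ := by
  obtain ⟨hs, hc, hd⟩ := hσ
  have C : CExt π := ⟨hs, hc⟩
  have hgen : ∀ g, ∃ x ∈ genU C (big_qMinus hab hk) (Usub F k k), π x = g := by
    intro g
    refine spin_induction (P := fun g => ∃ x ∈ genU C (big_qMinus hab hk) (Usub F k k), π x = g)
      ⟨1, one_mem _, map_one π⟩ ?_ ?_ ?_ g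
    · rintro g g' ⟨x, hx, rfl⟩ ⟨y, hy, rfl⟩; exact ⟨x * y, mul_mem hx hy, map_mul π x y⟩
    · rintro g ⟨x, hx, rfl⟩; exact ⟨x⁻¹, inv_mem hx, map_inv π x⟩
    · intro u v hu hv
      have all : ∀ w : Vm F k, w ∈ Usub F k k := fun w i hi => absurd i.isLt (by omega)
      exact ⟨_, L_mem C (big_qMinus hab hk) (all u) (all v) hu hv, π_L C (big_qMinus hab hk) hu hv⟩
  have hcomm : commutator Γ ≤ genU C (big_qMinus hab hk) (Usub F k k) := by
    rw [commutator_def, Subgroup.commutator_le]
    intro p _ q _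
    obtain ⟨x, hx, ex⟩ := hgen (π p)
    obtain ⟨y, hy, ey⟩ := hgen (π q)
    rw [C.comm_eq (rfl : π p = π p) rfl, ← C.comm_eq ex ey, commutatorElement_def]
    exact mul_mem (mul_mem (mul_mem hx hy) (inv_mem hx)) (inv_mem hy)
  rw [Subgroup.eq_bot_iff_forall]
  intro z hz
  exact ker_Usub hab hk C k (by omega) le_rfl z (hcomm (hd hz)) hz

omit [Finite Γ] in
/-- the spin group is perfect -/
theorem perfect_minus : commutator (SpinV (qMinus k F a b)) = ⊤ := by
  have hB := big_qMinus hab hk
  have C0 : CExt (MonoidHom.id (SpinV (qMinus k F a b))) :=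
    ⟨Function.surjective_id, by rw [MonoidHom.ker_id]; exact bot_le⟩
  have sing : ∀ u v, TS (qMinus k F a b) u v → El u v ∈ commutator (SpinV (qMinus k F a b)) := by
    intro u v h
    obtain ⟨p, q, hp, hq, -, e⟩ := exists_rep C0 hB h (-1)
    have h1 := π_Lg C0 hB h
    rw [Lg, e, phi, C0.σ_cm] at h1
    rw [← h1, commutator_def]
    exact Subgroup.commutator_mem_commutator (Subgroup.mem_top _) (Subgroup.mem_top _)
  rw [eq_top_iff]
  intro g _
  refine spin_induction (P := fun g => g ∈ commutator (SpinV (qMinus k F a b))) (one_mem _) (fun _ _ => mul_mem)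
    (fun _ => inv_mem) (fun u v hu hv => ?_) g
  obtain ⟨e, f, he, hf, hef, hue, huf⟩ := exists_hyp C0 hB hu
  obtain ⟨s, t, r, hr, hd⟩ := sing_decomp hB.nondeg he hf hef v
  have h1 : polar (qMinus k F a b) u (s • e) = 0 := by rw [polar_smul_right', hue, mul_zero]
  have h2 : polar (qMinus k F a b) u (t • f) = 0 := by rw [polar_smul_right', huf, mul_zero]
  have hur : polar (qMinus k F a b) u r = 0 := by
    rw [hd, polar_add_right', polar_add_right', h1, h2, zero_add, zero_add] at hv; exact hv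
  rw [hd, ← El_add hu (by rw [polar_add_right', h1, h2, add_zero]) hur, ← El_add hu h1 h2]
  exact mul_mem (mul_mem (sing u _ ⟨hu, by rw [apply_smul, he, mul_zero], h1⟩)
    (sing u _ ⟨hu, by rw [apply_smul, hf, mul_zero], h2⟩)) (sing u r ⟨hu, hr, hur⟩)

end

end CfsgLib.Known.SpinMinus
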