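import Cfsg.Agent.Lib.Known.SpinMinus.Long
import Cfsg.Agent.Lib.Known.SpinMult.Two

/-!
# Lifts of all Eichler elements
-/

set_option autoImplicit false
set_option linter.unusedSectionVars false

namespace CfsgLib.Known.SpinMinus

noncomputable section

open QuadraticMap CfsgLib.Classical.Quad CfsgLib.Known.SympMult
open scoped commutatorElement

variable {F : Type*} [Field F] {V : Type*} [AddCommGroup V] [Module F V] {Q : QuadraticForm F V}

/-- hyperbolic pairs orthogonal to a vector -/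
def Hyp (Q : QuadraticForm F V) (a e f : V) : Prop :=
  Q e = 0 ∧ Q f = 0 ∧ polar Q e f = 1 ∧ polar Q a e = 0 ∧ polar Q a f = 0

/-- orthogonality to a triple -/
def P3 (Q : QuadraticForm F V) (a e f v : V) : Prop := polar Q a v = 0 ∧ polar Q e v = 0 ∧ polar Q f v = 0

theorem Hyp.symm {a e f : V} (h : Hyp Q a e f) : Hyp Q a f e :=
  ⟨h.2.1, h.1, by rw [polar_comm]; exact h.2.2.1, h.2.2.2.2, h.2.2.2.1⟩

theorem Hyp.scale {a e f : V} (h : Hyp Q a e f) {c : F} (hc : c ≠ 0) : Hyp Q a (c • e) (c⁻¹ • f) := by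
  obtain ⟨he, hf, hef, hae, haf⟩ := h
  exact ⟨by rw [apply_smul, he, mul_zero], by rw [apply_smul, hf, mul_zero],
    by rw [polar_smul_left', polar_smul_right', hef, mul_one, mul_inv_cancel₀ hc],
    by rw [polar_smul_right', hae, mul_zero], by rw [polar_smul_right', haf, mul_zero]⟩

theorem P3.swap {a e f v : V} (h : P3 Q a e f v) : P3 Q a f e v := ⟨h.1, h.2.2, h.2.1⟩

theorem P3.add {a e f v w : V} (h : P3 Q a e f v) (h' : P3 Q a e f w) : P3 Q a e f (v + w) :=
  ⟨by rw [polar_add_right', h.1, h'.1, add_zero], by rw [polar_add_right', h.2.1, h'.2.1, add_zero],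
    by rw [polar_add_right', h.2.2, h'.2.2, add_zero]⟩

theorem P3.smul {a e f v : V} (h : P3 Q a e f v) (c : F) : P3 Q a e f (c • v) :=
  ⟨by rw [polar_smul_right', h.1, mul_zero], by rw [polar_smul_right', h.2.1, mul_zero],
    by rw [polar_smul_right', h.2.2, mul_zero]⟩

theorem P3.neg {a e f v : V} (h : P3 Q a e f v) : P3 Q a e f (-v) :=
  ⟨by rw [polar_neg_right, h.1, neg_zero], by rw [polar_neg_right, h.2.1, neg_zero],
    by rw [polar_neg_right, h.2.2, neg_zero]⟩

theorem P3.scale {a e f v : V} (h : P3 Q a e f v) (c d : F) : P3 Q a (c • e) (d • f) v :=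
  ⟨h.1, by rw [polar_smul_left', h.2.1, mul_zero], by rw [polar_smul_left', h.2.2, mul_zero]⟩

theorem TS.zero {a : V} (ha : Q a = 0) : TS Q a 0 := ⟨ha, map_zero _, polar_zero_right _ _⟩

variable [FiniteDimensional F V]

variable {Γ : Type*} [Group Γ] {π : Γ →* SpinV Q} (C : CExt π)

open scoped _root_.Classical in
/-- the long lifts -/
def Phi (a b : V) (c : F) : Γ :=
  if h : ∃ p : V × V, T2 Q a b p.1 ∧ T2 Q a b p.2 ∧ polar Q p.1 p.2 = c then phi C a b h.choose.1 h.choose.2 else 1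

/-- the normalised long lift -/
def Lg (a b : V) : Γ := Phi C a b (-1)

variable [Finite F] (hB : Big Q)
include hB C

theorem phi_eq {a b v u : V} (h : TS Q a b) (hv : T2 Q a b v) (hu : T2 Q a b u) :
    phi C a b v u = Phi C a b (polar Q v u) := by
  have hex : ∃ p : V × V, T2 Q a b p.1 ∧ T2 Q a b p.2 ∧ polar Q p.1 p.2 = polar Q v u := ⟨(v, u), hv, hu, rfl⟩
  rw [Phi, dif_pos hex]
  exact long_indep hB C h hv hu hex.choose_spec.1 hex.choose_spec.2.1 hex.choose_spec.2.2.symm

theorem exists_T2_pair {a b : V} (h : TS Q a b) :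
    ∃ e f, T2 Q a b e ∧ T2 Q a b f ∧ polar Q e f = 1 := by
  have h8 := hB.dim
  have hd := finrank_span_two hB.nondeg a b
  obtain ⟨e, f, he, hf, hef⟩ := exists_one_perp hB.nondeg (Submodule.span F ({a, b} : Set V)) (by
    have := Submodule.finrank_mono (inf_le_left (a := Submodule.span F ({a, b} : Set V))
      (b := orth Q (Submodule.span F ({a, b} : Set V))))
    omega)
  rw [mem_orth_span] at he hf
  simp only [Set.mem_insert_iff, Set.mem_singleton_iff, forall_eq_or_imp, forall_eq] at he hf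
  exact ⟨e, f, he, hf, hef⟩

theorem exists_rep {a b : V} (h : TS Q a b) (c : F) :
    ∃ v u, T2 Q a b v ∧ T2 Q a b u ∧ polar Q v u = c ∧ Phi C a b c = phi C a b v u := by
  obtain ⟨e, f, he, hf, hef⟩ := exists_T2_pair C hB h
  refine ⟨c • e, f, he.smul c, hf, by rw [polar_smul_left', hef, mul_one], ?_⟩
  rw [phi_eq C hB h (he.smul c) hf, polar_smul_left', hef, mul_one]

theorem π_Phi {a b : V} (h : TS Q a b) (c : F) : π (Phi C a b c) = El b (c • a) := by
  obtain ⟨v, u, hv, hu, rfl, e⟩ := exists_rep C hB h c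
  rw [e, π_phi hB C h hv hu]

theorem Phi_add {a b : V} (h : TS Q a b) (c d : F) : Phi C a b c * Phi C a b d = Phi C a b (c + d) := by
  obtain ⟨e, f, he, hf, hef⟩ := exists_T2_pair C hB h
  have key : ∀ t : F, Phi C a b t = phi C a b (t • e) f := fun t => by
    rw [phi_eq C hB h (he.smul t) hf, polar_smul_left', hef, mul_one]
  rw [key, key, key, add_smul, phi_add_left hB C h (he.smul c) (he.smul d) hf]

theorem Phi_zero {a b : V} (h : TS Q a b) : Phi C a b 0 = 1 := by
  have := Phi_add C hB h 0 0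
  rw [add_zero] at this
  exact mul_eq_left.1 this

theorem Phi_neg {a b : V} (h : TS Q a b) (c : F) : Phi C a b (-c) = (Phi C a b c)⁻¹ := by
  rw [eq_inv_iff_mul_eq_one, Phi_add C hB h, neg_add_cancel, Phi_zero C hB h]

theorem Phi_smul {a b : V} (h : TS Q a b) (t c : F) : Phi C a (t • b) c = Phi C a b (t * c) := by
  obtain ⟨v, u, hv, hu, rfl, e⟩ := exists_rep C hB h c
  rw [← phi_eq C hB (h.smul t) (hv.smul_right t) (hu.smul_right t), phi, El_smul_comm h.2.1 hu.2]
  rw [show C.cm (El a v : SpinV Q) (El b (t • u)) = phi C a b v (t • u) from rfl, phi_eq C hB h hv (hu.smul t),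
    polar_smul_right']

theorem Phi_swap {a b : V} (h : TS Q a b) (c : F) : Phi C b a c = (Phi C a b c)⁻¹ := by
  obtain ⟨v, u, hv, hu, rfl, e⟩ := exists_rep C hB h c
  rw [e, phi, C.cm_inv, show C.cm (El b u : SpinV Q) (El a v) = phi C b a u v from rfl,
    phi_eq C hB h.symm hu.symm hv.symm, polar_comm]

theorem conj_Phi {a b : V} (h : TS Q a b) (c : F) {γ : Γ} {g : SpinV Q} (hγ : π γ = g) :
    γ * Phi C a b c * γ⁻¹ = Phi C (ap g a) (ap g b) c := by
  obtain ⟨v, u, hv, hu, rfl, e⟩ := exists_rep C hB h c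
  have h' : TS Q (ap g a) (ap g b) := ⟨by rw [ap_Q]; exact h.1, by rw [ap_Q]; exact h.2.1, by rw [ap_polar]; exact h.2.2⟩
  have t : ∀ w, T2 Q a b w → T2 Q (ap g a) (ap g b) (ap g w) := fun w hw =>
    ⟨by rw [ap_polar]; exact hw.1, by rw [ap_polar]; exact hw.2⟩
  rw [e, phi, C.conj_cm hγ, conj_El, conj_El,
    show C.cm (El (ap g a) (ap g v) : SpinV Q) (El (ap g b) (ap g u)) = phi C (ap g a) (ap g b) (ap g v) (ap g u)
      from rfl, phi_eq C hB h' (t v hv) (t u hu), ap_polar]

theorem Lg_smul {a b : V} (h : TS Q a b) (t : F) : Lg C a (t • b) = Phi C a b (-t) := by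
  rw [Lg, Phi_smul C hB h, mul_neg_one]

theorem Lg_zero {a : V} (ha : Q a = 0) : Lg C a 0 = 1 := by
  have := Lg_smul C hB (TS.self ha) 0
  rw [zero_smul, neg_zero, Phi_zero C hB (TS.self ha)] at this
  exact this

theorem π_Lg {a b : V} (h : TS Q a b) : π (Lg C a b) = El a b := by
  rw [Lg, π_Phi C hB h, El_swap_smul h]; simp

theorem conj_Lg {a b : V} (h : TS Q a b) {γ : Γ} {g : SpinV Q} (hγ : π γ = g) :
    γ * Lg C a b * γ⁻¹ = Lg C (ap g a) (ap g b) := conj_Phi C hB h _ hγ

theorem Lg_add {a b : V} (h : TS Q a b) (s t : F) :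
    Lg C a (s • b) * Lg C a (t • b) = Lg C a ((s + t) • b) := by
  rw [Lg_smul C hB h, Lg_smul C hB h, Lg_smul C hB h, Phi_add C hB h, neg_add]

theorem Lg_swap {a b : V} (h : TS Q a b) : Lg C b a = (Lg C a b)⁻¹ := Phi_swap C hB h _

/-! ### commutativity at a singular vector -/

theorem beta_sing {a e f : V} (ha : Q a = 0) (he : Q e = 0) (hf : Q f = 0) (hae : polar Q a e = 0)
    (haf : polar Q a f = 0) : C.cm (El a e : SpinV Q) (El a f) = 1 := by
  by_cases hef : polar Q e f = 0
  · exact kill hB C ⟨ha, he, hae⟩ ha haf (T2_left ⟨ha, he, hae⟩) ⟨haf, hef⟩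
  have h8 := hB.dim
  obtain ⟨f', hf'd⟩ : ∃ f', f' = (polar Q e f)⁻¹ • f := ⟨_, rfl⟩
  have hf' : Q f' = 0 := by rw [hf'd, apply_smul, hf, mul_zero]
  have hef' : polar Q e f' = 1 := by rw [hf'd, polar_smul_right', inv_mul_cancel₀ hef]
  obtain ⟨x, x', hx1, hx1', hx, hx', hxx⟩ := exists_pair_perp hB.nondeg (Submodule.span F ({e, f', a} : Set V)) (by
    have h1 := Submodule.finrank_mono (rad_le hB.nondeg he hf' hef' (s := ({a} : Set V))
      (by rintro u rfl
          exact ⟨by rw [polar_comm]; exact hae,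
            by rw [hf'd, polar_smul_left', polar_comm (⇑Q) f, haf, mul_zero]⟩) le_rfl)
    have h2 := finrank_span_three hB.nondeg e f' a
    have h3 : Module.finrank F (Submodule.span F ({a} : Set V)) ≤ 1 := by
      have := finrank_span_le_card (R := F) ({a} : Set V)
      simpa using this
    omega)
  rw [mem_orth_span] at hx1 hx1'
  simp only [Set.mem_insert_iff, Set.mem_singleton_iff, forall_eq_or_imp, forall_eq] at hx1 hx1'
  obtain ⟨xe, xf0, xa⟩ := hx1
  obtain ⟨ye, yf0, ya⟩ := hx1'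
  have xf : polar Q f x = 0 := by
    rw [hf'd, polar_smul_left'] at xf0; exact (mul_eq_zero.1 xf0).resolve_left (inv_ne_zero hef)
  have yf : polar Q f x' = 0 := by
    rw [hf'd, polar_smul_left'] at yf0; exact (mul_eq_zero.1 yf0).resolve_left (inv_ne_zero hef)
  -- replace the vectors by their negatives
  have main : ∀ e f : V, Q e = 0 → Q f = 0 → polar Q a e = 0 → polar Q a f = 0 → polar Q e x = 0 → polar Q f x = 0 →
      polar Q e x' = 0 → polar Q f x' = 0 → C.cm (El a (-e) : SpinV Q) (El a (-f)) = 1 := by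
    intro e f he hf hae haf xe xf ye yf
    obtain ⟨U, hU⟩ := C.surj (El x e)
    obtain ⟨T, hT⟩ := C.surj (El x f)
    obtain ⟨X, hX⟩ := C.surj (El a x')
    have br : ∀ e, Q e = 0 → polar Q a e = 0 → polar Q e x = 0 → polar Q e x' = 0 →
        ⁅(El x e : SpinV Q), (El a x' : SpinV Q)⁆ = El a (-e) := by
      intro e he hae xe ye
      rw [El_flip (u := e) (v := x) he hx xe, El_bracket he (by rw [polar_neg_right, xe, neg_zero]) ha ya
        (by rw [polar_comm]; exact hae) ye (by rw [polar_neg_left, polar_comm, xa, neg_zero]), polar_neg_left, hxx]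
      simp
    have hz : ∀ g, Commute g ⁅U, T⁆ := fun g => C.ker_comm (by
      rw [map_commutatorElement, hU, hT, commutatorElement_eq_one_iff_commute]
      exact El_commute_same hx (by rw [polar_comm]; exact xe) (by rw [polar_comm]; exact xf)) g
    have hh : ⁅U, ⁅T, X⁆⁆ = ⁅T, ⁅U, X⁆⁆ := by
      rw [C.comm_eq hU (show π ⁅T, X⁆ = El a (-f) by rw [map_commutatorElement, hT, hX, br f hf haf xf yf]),
        C.comm_eq hT (show π ⁅U, X⁆ = El a (-e) by rw [map_commutatorElement, hU, hX, br e he hae xe ye])]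
      have hts : TS Q x a := ⟨hx, ha, by rw [polar_comm]; exact xa⟩
      have te : T2 Q x a e := ⟨by rw [polar_comm]; exact xe, hae⟩
      have tf : T2 Q x a f := ⟨by rw [polar_comm]; exact xf, haf⟩
      have te' : T2 Q x a (-e) := ⟨by rw [polar_neg_right, te.1, neg_zero], by rw [polar_neg_right, te.2, neg_zero]⟩
      have tf' : T2 Q x a (-f) := ⟨by rw [polar_neg_right, tf.1, neg_zero], by rw [polar_neg_right, tf.2, neg_zero]⟩
      exact long_indep hB C hts te tf' tf te' (by rw [polar_neg_right, polar_neg_right, polar_comm])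
    have hc := SpinMult.commute_two hz hh
    rw [← C.comm_eq (show π ⁅U, X⁆ = El a (-e) by rw [map_commutatorElement, hU, hX, br e he hae xe ye])
      (show π ⁅T, X⁆ = El a (-f) by rw [map_commutatorElement, hT, hX, br f hf haf xf yf]),
      commutatorElement_eq_one_iff_commute]
    exact hc
  have := main (-e) (-f) (by rw [QuadraticMap.map_neg, he]) (by rw [QuadraticMap.map_neg, hf])
    (by rw [polar_neg_right, hae, neg_zero]) (by rw [polar_neg_right, haf, neg_zero])
    (by rw [polar_neg_left, xe, neg_zero]) (by rw [polar_neg_left, xf, neg_zero])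
    (by rw [polar_neg_left, ye, neg_zero]) (by rw [polar_neg_left, yf, neg_zero])
  rwa [neg_neg, neg_neg] at this

theorem exists_hyp {a : V} (ha : Q a = 0) : ∃ e f, Hyp Q a e f := by
  have h8 := hB.dim
  obtain ⟨e, f, he', hf', he, hf, hef⟩ := exists_pair_perp hB.nondeg (Submodule.span F ({a} : Set V)) (by
    have := Submodule.finrank_mono (inf_le_left (a := Submodule.span F ({a} : Set V))
      (b := orth Q (Submodule.span F ({a} : Set V))))
    have h3 : Module.finrank F (Submodule.span F ({a} : Set V)) ≤ 1 := by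
      have := finrank_span_le_card (R := F) ({a} : Set V)
      simpa using this
    omega)
  rw [mem_orth_span] at he' hf'
  exact ⟨e, f, he, hf, hef, he' a rfl, hf' a rfl⟩

/-- lifts at a singular vector commute -/
theorem comm_at {a v w : V} (ha : Q a = 0) (hv : polar Q a v = 0) (hw : polar Q a w = 0) {x y : Γ}
    (hx : π x = El a v) (hy : π y = El a w) : Commute x y := by
  refine C.commute_of_cm hx hy ?_
  obtain ⟨e, f, he, hf, hef, hae, haf⟩ := exists_hyp C hB ha
  have dec : ∀ z, polar Q a z = 0 → ∃ p q r, Q p = 0 ∧ Q q = 0 ∧ Q r = 0 ∧ polar Q a p = 0 ∧ polar Q a q = 0 ∧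
      polar Q a r = 0 ∧ z = p + q + r := by
    intro z hz
    obtain ⟨s, t, r, hr, hd⟩ := sing_decomp hB.nondeg he hf hef z
    refine ⟨s • e, t • f, r, by rw [apply_smul, he, mul_zero], by rw [apply_smul, hf, mul_zero], hr,
      by rw [polar_smul_right', hae, mul_zero], by rw [polar_smul_right', haf, mul_zero], ?_, hd⟩
    have := congrArg (polar Q a) hd
    rw [hz, polar_add_right', polar_add_right', polar_smul_right', polar_smul_right', hae, haf] at this
    simpa using this.symm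
  have right : ∀ e, Q e = 0 → polar Q a e = 0 → C.cm (El a e : SpinV Q) (El a w) = 1 := by
    intro e he hae
    obtain ⟨p, q, r, hp, hq, hr, ap', aq, ar, rfl⟩ := dec w hw
    rw [← El_add ha (by rw [polar_add_right', ap', aq, add_zero]) ar, ← El_add ha ap' aq,
      C.cm_add_right (El_commute_same ha hae ar), C.cm_add_right (El_commute_same ha hae aq),
      beta_sing C hB ha he hp hae ap', beta_sing C hB ha he hq hae aq, beta_sing C hB ha he hr hae ar, one_mul,
      one_mul]
  obtain ⟨p, q, r, hp, hq, hr, ap', aq, ar, rfl⟩ := dec v hv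
  rw [← El_add ha (by rw [polar_add_right', ap', aq, add_zero]) ar, ← El_add ha ap' aq,
    C.cm_add_left (El_commute_same ha ar hw), C.cm_add_left (El_commute_same ha aq hw), right p hp ap',
    right q hq aq, right r hr ar, one_mul, one_mul]

/-- rearrangement of commuting lifts -/
theorem comm_four {a : V} (ha : Q a = 0) {v w v' w' : V} (hv : polar Q a v = 0) (hw : polar Q a w = 0)
    (hv' : polar Q a v' = 0) (hw' : polar Q a w' = 0) {x y x' y' : Γ} (hx : π x = El a v) (hy : π y = El a w)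
    (hx' : π x' = El a v') (hy' : π y' = El a w') : x * y * (x' * y') = x * x' * (y * y') :=
  (comm_at C hB ha hw hv' hy hx').mul_mul_mul_comm x y'

omit [Finite F] hB C in
/-- conjugation by an Eichler element -/
theorem ap_El_pair {a e f v : V} (h : Hyp Q a e f) (hv : P3 Q a e f v) :
    ap (El f v : SpinV Q) a = a ∧ ap (El f v : SpinV Q) e = e + (-v + (-Q v) • f) := by
  obtain ⟨he, hf, hef, hae, haf⟩ := h
  refine ⟨ap_El_fix hf hv.2.2 (by rw [polar_comm]; exact haf) (by rw [polar_comm]; exact hv.1), ?_⟩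
  rw [ap_El hf hv.2.2, polar_comm (⇑Q) v e, hv.2.1, polar_comm (⇑Q) f e, hef]
  module

/-- the auxiliary pairing -/
def psi (a e f v : V) : Γ := C.cm (El f v : SpinV Q) (El a e)

/-- the lift on the orthogonal of a triple -/
def M (a e f v : V) : Γ := psi C a e f (-v) * Lg C a (Q v • f)

theorem π_psi {a e f v : V} (ha : Q a = 0) (h : Hyp Q a e f) (hv : P3 Q a e f v) :
    π (psi C a e f v) = El a (-v + (-Q v) • f) := by
  obtain ⟨h1, h2⟩ := ap_El_pair h hv
  have h0 : polar Q a (-v + (-Q v) • f) = 0 := by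
    rw [polar_add_right', polar_neg_right, hv.1, polar_smul_right', h.2.2.2.2]; ring
  rw [psi, C.σ_cm, commutatorElement_def, conj_El, El_inv, h1, h2,
    El_add ha (by rw [polar_add_right', h.2.2.2.1, h0, add_zero]) (by rw [polar_neg_right, h.2.2.2.1, neg_zero])]
  congr 1; abel

theorem ts_af {a e f : V} (ha : Q a = 0) (h : Hyp Q a e f) : TS Q a f := ⟨ha, h.2.1, h.2.2.2.2⟩

theorem ts_ae {a e f : V} (ha : Q a = 0) (h : Hyp Q a e f) : TS Q a e := ⟨ha, h.1, h.2.2.2.1⟩

theorem π_M {a e f v : V} (ha : Q a = 0) (h : Hyp Q a e f) (hv : P3 Q a e f v) :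
    π (M C a e f v) = El a v := by
  have hp := π_psi C hB ha h hv.neg
  rw [neg_neg, QuadraticMap.map_neg] at hp
  rw [M, map_mul, hp, π_Lg C hB ((ts_af C hB ha h).smul _),
    El_add ha (by rw [polar_add_right', hv.1, polar_smul_right', h.2.2.2.2, mul_zero, add_zero])
      (by rw [polar_smul_right', h.2.2.2.2, mul_zero])]
  congr 1; module

theorem psi_add {a e f v w : V} (ha : Q a = 0) (h : Hyp Q a e f) (hv : P3 Q a e f v) (hw : P3 Q a e f w) :
    psi C a e f (v + w) = psi C a e f w * Lg C a ((-polar Q v w) • f) * psi C a e f v := by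
  obtain ⟨he, hf, hef, hae, haf⟩ := h
  obtain ⟨h1, h2⟩ := ap_El_pair ⟨he, hf, hef, hae, haf⟩ hv
  obtain ⟨z, hzd⟩ : ∃ z, z = -v + (-Q v) • f := ⟨_, rfl⟩
  rw [← hzd] at h2
  have hza : polar Q a z = 0 := by rw [hzd, polar_add_right', polar_neg_right, hv.1, polar_smul_right', haf]; ring
  have hzf : polar Q f z = 0 := by
    rw [hzd, polar_add_right', polar_neg_right, hv.2.2, polar_smul_right', polar_self', hf]; ring
  have hts : TS Q f a := (ts_af C hB ha ⟨he, hf, hef, hae, haf⟩).symm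
  have tw : T2 Q f a w := ⟨hw.2.2, hw.1⟩
  have tz : T2 Q f a z := ⟨hzf, hza⟩
  have hwz : polar Q w z = -polar Q v w := by
    rw [hzd, polar_add_right', polar_neg_right, polar_smul_right', polar_comm (⇑Q) w f, hw.2.2,
      polar_comm (⇑Q) w v]; ring
  have e1 : C.lf (El f v : SpinV Q) * psi C a e f w * (C.lf (El f v : SpinV Q))⁻¹ =
      psi C a e f w * Lg C a ((-polar Q v w) • f) := by
    rw [psi, C.conj_cm (C.σ_lf _), show (El f v : SpinV Q) * El f w * (El f v)⁻¹ = El f w by
        rw [(El_commute_same hf hv.2.2 hw.2.2).eq, mul_inv_cancel_right],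
      conj_El, h1, h2, ← El_add ha hae hza, C.cm_mul_right]
    · rw [show C.cm (El f w : SpinV Q) (El a z) = phi C f a w z from rfl, phi_eq C hB hts tw tz,
        Phi_swap C hB hts.symm, ← Phi_neg C hB hts.symm, Lg_smul C hB hts.symm, hwz]
    · intro x y hx hy
      rw [El_bracket hf hw.2.2 ha hza (by rw [polar_comm]; exact haf) hzf
        (by rw [polar_comm]; exact hw.1)] at hy
      exact comm_at C hB ha hae (by rw [polar_smul_right', haf, mul_zero]) hx hy
  rw [← e1, psi, psi, psi, ← El_add hf hv.2.2 hw.2.2]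
  rw [← C.comm_eq (C.σ_lf (El f w : SpinV Q)) (C.σ_lf (El a e : SpinV Q)),
    ← C.comm_eq (C.σ_lf (El f v : SpinV Q)) (C.σ_lf (El a e : SpinV Q)),
    ← C.comm_eq (show π (C.lf (El f v : SpinV Q) * C.lf (El f w : SpinV Q)) = El f v * El f w by
      rw [map_mul, C.σ_lf, C.σ_lf]) (C.σ_lf (El a e : SpinV Q))]
  simp only [commutatorElement_def]
  group

theorem M_add {a e f v w : V} (ha : Q a = 0) (h : Hyp Q a e f) (hv : P3 Q a e f v) (hw : P3 Q a e f w) :
    M C a e f (v + w) = M C a e f v * M C a e f w := by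
  have hf := ts_af C hB ha h
  have p : ∀ c : F, π (Lg C a (c • f)) = El a (c • f) := fun c => π_Lg C hB (hf.smul c)
  have pc : ∀ c : F, polar Q a (c • f) = 0 := fun c => (hf.smul c).2.2
  have q : ∀ u, P3 Q a e f u → polar Q a (-u + (-Q u) • f) = 0 := fun u hu => by
    rw [polar_add_right', polar_neg_right, hu.1, pc]; ring
  rw [M, M, M, neg_add, psi_add C hB ha h hv.neg hw.neg]
  obtain ⟨A, hA⟩ : ∃ A, A = psi C a e f (-v) := ⟨_, rfl⟩
  obtain ⟨B, hB'⟩ : ∃ B, B = psi C a e f (-w) := ⟨_, rfl⟩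
  have pA : π A = El a (-(-v) + (-Q (-v)) • f) := hA ▸ π_psi C hB ha h hv.neg
  have pB : π B = El a (-(-w) + (-Q (-w)) • f) := hB' ▸ π_psi C hB ha h hw.neg
  rw [← hA, ← hB', polar_neg_left, polar_neg_right, neg_neg, apply_add,
    ← Lg_add C hB hf (Q v + Q w), ← Lg_add C hB hf (Q v)]
  have c1 : ∀ c : F, Commute (Lg C a (c • f)) A := fun c => comm_at C hB ha (pc c) (q _ hv.neg) (p c) pA
  have c2 : Commute B A := comm_at C hB ha (q _ hw.neg) (q _ hv.neg) pB pA
  have c3 : ∀ c : F, Commute (Lg C a (c • f)) B := fun c => comm_at C hB ha (pc c) (q _ hw.neg) (p c) pB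
  have c4 : ∀ c d : F, Commute (Lg C a (c • f)) (Lg C a (d • f)) := fun c d =>
    comm_at C hB ha (pc c) (pc d) (p c) (p d)
  obtain ⟨N, hN⟩ : ∃ N, N = Lg C a ((-polar Q v w) • f) := ⟨_, rfl⟩
  obtain ⟨P, hP⟩ : ∃ P, P = Lg C a (Q v • f) := ⟨_, rfl⟩
  obtain ⟨R, hR⟩ : ∃ R, R = Lg C a (Q w • f) := ⟨_, rfl⟩
  obtain ⟨T, hT⟩ : ∃ T, T = Lg C a (polar Q v w • f) := ⟨_, rfl⟩
  have hNT : N * T = 1 := by rw [hN, hT, Lg_add C hB hf, neg_add_cancel, zero_smul, Lg_zero C hB ha]
  rw [← hN, ← hP, ← hR, ← hT]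
  calc B * N * A * (P * R * T) = A * B * (P * R * T * N) := by
        rw [mul_assoc B N A, (hN ▸ c1 _ : Commute N A).eq, ← mul_assoc B A N, c2.eq, mul_assoc _ N,
          (((hN ▸ hP ▸ c4 _ _ : Commute N P).mul_right (hN ▸ hR ▸ c4 _ _ : Commute N R)).mul_right
            (hN ▸ hT ▸ c4 _ _ : Commute N T)).eq]
    _ = A * B * (P * R) := by
        rw [mul_assoc (P * R) T N, (hT ▸ hN ▸ c4 _ _ : Commute T N).eq, hNT, mul_one]
    _ = A * P * (B * R) := (hP ▸ c3 _ : Commute P B).symm.mul_mul_mul_comm A R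

theorem M_sing {a e f v : V} (ha : Q a = 0) (h : Hyp Q a e f) (hv : P3 Q a e f v) (hs : Q v = 0) :
    M C a e f v = Lg C a v := by
  obtain ⟨he, hf, hef, hae, haf⟩ := h
  have hts : TS Q v a := ⟨hs, ha, by rw [polar_comm]; exact hv.1⟩
  rw [M, hs, zero_smul, Lg_zero C hB ha, mul_one, psi,
    ← El_flip (u := f) (v := v) hf hs hv.2.2,
    show C.cm (El v f : SpinV Q) (El a e) = phi C v a f e from rfl,
    phi_eq C hB hts ⟨by rw [polar_comm]; exact hv.2.2, haf⟩ ⟨by rw [polar_comm]; exact hv.2.1, hae⟩,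
    polar_comm, hef, Phi_swap C hB hts.symm, ← Phi_neg C hB hts.symm]
  rfl

theorem P3_unique {a e f : V} (ha : Q a = 0) (h : Hyp Q a e f) (N N' : V → Γ)
    (hN : ∀ v w, P3 Q a e f v → P3 Q a e f w → N (v + w) = N v * N w)
    (hN' : ∀ v w, P3 Q a e f v → P3 Q a e f w → N' (v + w) = N' v * N' w)
    (hs : ∀ v, P3 Q a e f v → Q v = 0 → N v = N' v) {v : V} (hv : P3 Q a e f v) : N v = N' v := by
  obtain ⟨he, hf, hef, hae, haf⟩ := h
  have h8 := hB.dim
  obtain ⟨x, y, hx', hy', hx, hy, hxy⟩ := exists_pair_perp hB.nondeg (Submodule.span F ({e, f, a} : Set V)) (by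
    have h1 := Submodule.finrank_mono (rad_le hB.nondeg he hf hef (s := ({a} : Set V))
      (by rintro u rfl; exact ⟨by rw [polar_comm]; exact hae, by rw [polar_comm]; exact haf⟩) le_rfl)
    have h2 := finrank_span_three hB.nondeg e f a
    have h3 : Module.finrank F (Submodule.span F ({a} : Set V)) ≤ 1 := by
      have := finrank_span_le_card (R := F) ({a} : Set V)
      simpa using this
    omega)
  rw [mem_orth_span] at hx' hy'
  simp only [Set.mem_insert_iff, Set.mem_singleton_iff, forall_eq_or_imp, forall_eq] at hx' hy'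
  have px : P3 Q a e f x := ⟨hx'.2.2, hx'.1, hx'.2.1⟩
  have py : P3 Q a e f y := ⟨hy'.2.2, hy'.1, hy'.2.1⟩
  obtain ⟨s, t, r, hr, hd⟩ := sing_decomp hB.nondeg hx hy hxy v
  have pr : P3 Q a e f r := by
    have : r = v + ((-s) • x + (-t) • y) := by rw [hd]; module
    rw [this]; exact hv.add ((px.smul _).add (py.smul _))
  rw [hd, hN _ _ ((px.smul s).add (py.smul t)) pr, hN _ _ (px.smul s) (py.smul t),
    hN' _ _ ((px.smul s).add (py.smul t)) pr, hN' _ _ (px.smul s) (py.smul t),
    hs _ (px.smul s) (by rw [apply_smul, hx, mul_zero]), hs _ (py.smul t) (by rw [apply_smul, hy, mul_zero]),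
    hs _ pr hr]

theorem M_scale {a e f v : V} (ha : Q a = 0) (h : Hyp Q a e f) {c : F} (hc : c ≠ 0) (hv : P3 Q a e f v) :
    M C a (c • e) (c⁻¹ • f) v = M C a e f v :=
  P3_unique C hB ha h _ _ (fun _ _ hv hw => M_add C hB ha (h.scale hc) (hv.scale _ _) (hw.scale _ _))
    (fun _ _ => M_add C hB ha h)
    (fun _ hv hs => by rw [M_sing C hB ha (h.scale hc) (hv.scale _ _) hs, M_sing C hB ha h hv hs]) hv

theorem M_swap {a e f v : V} (ha : Q a = 0) (h : Hyp Q a e f) (hv : P3 Q a e f v) :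
    M C a f e v = M C a e f v :=
  P3_unique C hB ha h _ _ (fun _ _ hv hw => M_add C hB ha h.symm hv.swap hw.swap) (fun _ _ => M_add C hB ha h)
    (fun _ hv hs => by rw [M_sing C hB ha h.symm hv.swap hs, M_sing C hB ha h hv hs]) hv

theorem agree_core {a e f u : V} (ha : Q a = 0) (h : Hyp Q a e f) (hu : P3 Q a e f u) {α : F} (hα : α ≠ 0) :
    Lg C a (α • e + (-Q u * α⁻¹) • f + u) =
      Lg C a (α • e) * Lg C a ((-Q u * α⁻¹) • f) * M C a e f u := by
  have h' := h.scale hα
  have hu' : P3 Q a (α • e) (α⁻¹ • f) u := hu.scale _ _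
  obtain ⟨h1, h2⟩ := ap_El_pair h' hu'.neg
  obtain ⟨G, hG⟩ := C.surj (El (α⁻¹ • f) (-u))
  have hts := ts_ae C hB ha h'
  have e1 := conj_Lg C hB hts hG
  rw [h1, h2, neg_neg, QuadraticMap.map_neg, smul_smul] at e1
  have e2 : G * Lg C a (α • e) * G⁻¹ = psi C a (α • e) (α⁻¹ • f) (-u) * Lg C a (α • e) := by
    rw [psi, ← C.comm_eq hG (π_Lg C hB hts), commutatorElement_def]
    group
  have hf := ts_af C hB ha h
  have e3 : psi C a (α • e) (α⁻¹ • f) (-u) = M C a e f u * Lg C a ((-Q u * α⁻¹) • f) := by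
    have := M_scale C hB ha h hα hu
    rw [M, smul_smul] at this
    rw [← this, mul_assoc, Lg_add C hB hf, neg_mul, add_neg_cancel, zero_smul, Lg_zero C hB ha, mul_one]
  rw [e2, e3] at e1
  rw [show α • e + (-Q u * α⁻¹) • f + u = α • e + (u + (-Q u * α⁻¹) • f) by abel, ← e1]
  have pM := π_M C hB ha h hu
  have pe : π (Lg C a (α • e)) = El a (α • e) := π_Lg C hB hts
  have pf : π (Lg C a ((-Q u * α⁻¹) • f)) = El a ((-Q u * α⁻¹) • f) := π_Lg C hB (hf.smul _)
  rw [mul_assoc (M C a e f u), (comm_at C hB ha (hf.smul _).2.2 hts.2.2 pf pe).eq,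
    ((comm_at C hB ha hu.1 hts.2.2 pM pe).mul_right (comm_at C hB ha hu.1 (hf.smul _).2.2 pM pf)).eq]

/-- the lift relative to a hyperbolic pair -/
def Lof (a e f w : V) : Γ :=
  Lg C a (polar Q w f • e) * Lg C a (polar Q w e • f) *
    M C a e f (w + ((-polar Q w f) • e + (-polar Q w e) • f))

theorem P3_rest {a e f w : V} (h : Hyp Q a e f) (hw : polar Q a w = 0) :
    P3 Q a e f (w + ((-polar Q w f) • e + (-polar Q w e) • f)) := by
  obtain ⟨he, hf, hef, hae, haf⟩ := h
  refine ⟨?_, ?_, ?_⟩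
  · simp only [polar_add_right', polar_smul_right', hw, hae, haf]; ring
  · simp only [polar_add_right', polar_smul_right', polar_self', he, hef, polar_comm (⇑Q) e w]; ring
  · simp only [polar_add_right', polar_smul_right', polar_self', hf, polar_comm (⇑Q) f e, hef, polar_comm (⇑Q) f w]
    ring

theorem π_Lof {a e f w : V} (ha : Q a = 0) (h : Hyp Q a e f) (hw : polar Q a w = 0) :
    π (Lof C a e f w) = El a w := by
  have h1 := P3_rest C hB h hw
  have he := (ts_ae C hB ha h).smul (polar Q w f)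
  have hf := (ts_af C hB ha h).smul (polar Q w e)
  rw [Lof, map_mul, map_mul, π_Lg C hB he, π_Lg C hB hf, π_M C hB ha h h1, El_add ha he.2.2 hf.2.2,
    El_add ha (by rw [polar_add_right', he.2.2, hf.2.2, add_zero]) h1.1]
  congr 1; module

theorem Lof_add {a e f v w : V} (ha : Q a = 0) (h : Hyp Q a e f) (hv : polar Q a v = 0) (hw : polar Q a w = 0) :
    Lof C a e f (v + w) = Lof C a e f v * Lof C a e f w := by
  have hev := P3_rest C hB h hv
  have hew := P3_rest C hB h hw
  have hE := ts_ae C hB ha h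
  have hF := ts_af C hB ha h
  have pE : ∀ c : F, π (Lg C a (c • e)) = El a (c • e) := fun c => π_Lg C hB (hE.smul c)
  have pF : ∀ c : F, π (Lg C a (c • f)) = El a (c • f) := fun c => π_Lg C hB (hF.smul c)
  have pEF : ∀ c d : F, π (Lg C a (c • e) * Lg C a (d • f)) = El a (c • e + d • f) := fun c d => by
    rw [map_mul, pE, pF, El_add ha (hE.smul c).2.2 (hF.smul d).2.2]
  have zEF : ∀ c d : F, polar Q a (c • e + d • f) = 0 := fun c d => by
    rw [polar_add_right', (hE.smul c).2.2, (hF.smul d).2.2, add_zero]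
  simp only [Lof]
  rw [comm_four C hB ha (zEF _ _) hev.1 (zEF _ _) hew.1 (pEF _ _) (π_M C hB ha h hev) (pEF _ _)
      (π_M C hB ha h hew),
    comm_four C hB ha (hE.smul _).2.2 (hF.smul _).2.2 (hE.smul _).2.2 (hF.smul _).2.2 (pE _) (pF _) (pE _) (pF _),
    Lg_add C hB hE, Lg_add C hB hF, ← M_add C hB ha h hev hew, polar_add_left', polar_add_left']
  congr 2
  module

theorem Lof_sing {a e f b : V} (ha : Q a = 0) (h : Hyp Q a e f) (hb : polar Q a b = 0) (hs : Q b = 0) :
    Lof C a e f b = Lg C a b := by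
  obtain ⟨α, hα⟩ : ∃ α, α = polar Q b f := ⟨_, rfl⟩
  obtain ⟨γ, hγ⟩ : ∃ γ, γ = polar Q b e := ⟨_, rfl⟩
  obtain ⟨u, hu⟩ : ∃ u, u = b + ((-α) • e + (-γ) • f) := ⟨_, rfl⟩
  have hup : P3 Q a e f u := by rw [hu, hα, hγ]; exact P3_rest C hB h hb
  have hbd : b = α • e + γ • f + u := by rw [hu]; module
  have hQu : α * γ + Q u = 0 := by
    have : Q (α • e + γ • f + u) = 0 := by rw [← hbd]; exact hs
    simp only [apply_add, apply_smul, polar_add_left', polar_smul_left', polar_smul_right', h.1, h.2.1, h.2.2.1,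
      hup.2.1, hup.2.2] at this
    linear_combination this
  have hl : Lof C a e f b = Lg C a (α • e) * Lg C a (γ • f) * M C a e f u := by rw [Lof, ← hα, ← hγ, ← hu]
  rw [hl]
  by_cases h0 : α = 0
  · by_cases h1 : γ = 0
    · have hu0 : Q u = 0 := by rw [h0, h1] at hQu; simpa using hQu
      have hub : u = b := by rw [hu, h0, h1]; module
      rw [h0, h1, zero_smul, zero_smul, Lg_zero C hB ha, one_mul, one_mul, M_sing C hB ha h hup hu0, hub]
    · have e' := agree_core C hB ha h.symm hup.swap h1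
      have hval : -Q u * γ⁻¹ = α := by field_simp; linear_combination -hQu
      rw [hval, M_swap C hB ha h hup] at e'
      rw [hbd, add_comm (α • e) (γ • f), e']
      rw [(comm_at C hB ha ((ts_ae C hB ha h).smul α).2.2 ((ts_af C hB ha h).smul γ).2.2
        (π_Lg C hB ((ts_ae C hB ha h).smul α)) (π_Lg C hB ((ts_af C hB ha h).smul γ))).eq]
  · have e' := agree_core C hB ha h hup h0
    have hval : -Q u * α⁻¹ = γ := by field_simp; linear_combination -hQu
    rw [hval] at e'
    rw [hbd, e']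

open scoped _root_.Classical in
/-- the lift of every Eichler element -/
def L (a w : V) : Γ :=
  if h : Q a = 0 then
    Lof C a (exists_hyp C hB h).choose (exists_hyp C hB h).choose_spec.choose w
  else 1

theorem L_def {a : V} (ha : Q a = 0) :
    ∃ e f, Hyp Q a e f ∧ ∀ w, L C hB a w = Lof C a e f w :=
  ⟨_, _, (exists_hyp C hB ha).choose_spec.choose_spec, fun w => by rw [L, dif_pos ha]⟩

theorem π_L {a w : V} (ha : Q a = 0) (hw : polar Q a w = 0) : π (L C hB a w) = El a w := by
  obtain ⟨e, f, h, hd⟩ := L_def C hB ha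
  rw [hd, π_Lof C hB ha h hw]

theorem L_add {a v w : V} (ha : Q a = 0) (hv : polar Q a v = 0) (hw : polar Q a w = 0) :
    L C hB a (v + w) = L C hB a v * L C hB a w := by
  obtain ⟨e, f, h, hd⟩ := L_def C hB ha
  rw [hd, hd, hd, Lof_add C hB ha h hv hw]

theorem L_sing {a b : V} (ha : Q a = 0) (hb : polar Q a b = 0) (hs : Q b = 0) : L C hB a b = Lg C a b := by
  obtain ⟨e, f, h, hd⟩ := L_def C hB ha
  rw [hd, Lof_sing C hB ha h hb hs]

theorem L_unique {a : V} (ha : Q a = 0) (N : V → Γ)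
    (hadd : ∀ v w, polar Q a v = 0 → polar Q a w = 0 → N (v + w) = N v * N w)
    (hs : ∀ v, polar Q a v = 0 → Q v = 0 → N v = Lg C a v) {w : V} (hw : polar Q a w = 0) :
    N w = L C hB a w := by
  obtain ⟨e, f, he, hf, hef, hae, haf⟩ := exists_hyp C hB ha
  obtain ⟨s, t, r, hr, hd⟩ := sing_decomp hB.nondeg he hf hef w
  have h1 : polar Q a (s • e) = 0 := by rw [polar_smul_right', hae, mul_zero]
  have h2 : polar Q a (t • f) = 0 := by rw [polar_smul_right', haf, mul_zero]
  have h3 : polar Q a (s • e + t • f) = 0 := by rw [polar_add_right', h1, h2, add_zero]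
  have har : polar Q a r = 0 := by rw [hd, polar_add_right', h3, zero_add] at hw; exact hw
  have q1 : Q (s • e) = 0 := by rw [apply_smul, he, mul_zero]
  have q2 : Q (t • f) = 0 := by rw [apply_smul, hf, mul_zero]
  rw [hd, hadd _ _ h3 har, hadd _ _ h1 h2, hs _ h1 q1, hs _ h2 q2, hs _ har hr, L_add C hB ha h3 har,
    L_add C hB ha h1 h2, L_sing C hB ha h1 q1, L_sing C hB ha h2 q2, L_sing C hB ha har hr]

theorem L_conj {a w : V} (ha : Q a = 0) (hw : polar Q a w = 0) {γ : Γ} {g : SpinV Q} (hγ : π γ = g) :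
    γ * L C hB a w * γ⁻¹ = L C hB (ap g a) (ap g w) := by
  have hga : Q (ap g a) = 0 := by rw [ap_Q]; exact ha
  have := L_unique C hB ha (fun v => γ⁻¹ * L C hB (ap g a) (ap g v) * γ)
    (fun v u hv hu => by
      rw [map_add, L_add C hB hga (by rw [ap_polar]; exact hv) (by rw [ap_polar]; exact hu)]; group)
    (fun v hv hs => by
      rw [L_sing C hB hga (by rw [ap_polar]; exact hv) (by rw [ap_Q]; exact hs),
        ← conj_Lg C hB ⟨ha, hs, hv⟩ hγ]
      group) hw
  rw [← this]; group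

theorem L_zero {a : V} (ha : Q a = 0) : L C hB a 0 = 1 := by
  have := L_add C hB ha (polar_zero_right Q a) (polar_zero_right Q a)
  rw [add_zero] at this
  exact mul_eq_left.1 this.symm

theorem L_neg {a w : V} (ha : Q a = 0) (hw : polar Q a w = 0) : L C hB a (-w) = (L C hB a w)⁻¹ := by
  rw [eq_inv_iff_mul_eq_one, ← L_add C hB ha (by rw [polar_neg_right, hw, neg_zero]) hw, neg_add_cancel,
    L_zero C hB ha]

theorem L_flip {u v : V} (hu : Q u = 0) (hv : Q v = 0) (h : polar Q u v = 0) :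
    L C hB v u = L C hB u (-v) := by
  rw [L_neg C hB hu h, L_sing C hB hv (by rw [polar_comm]; exact h) hu, L_sing C hB hu h hv,
    Lg_swap C hB ⟨hu, hv, h⟩]

theorem L_smul {a w : V} (ha : Q a = 0) (hw : polar Q a w = 0) (t : F) :
    L C hB (t • a) w = L C hB a (t • w) := by
  have hta : Q (t • a) = 0 := by rw [apply_smul, ha, mul_zero]
  by_cases ht : t = 0
  · rw [ht, zero_smul, zero_smul, L_zero C hB ha]
    refine (L_unique C hB (map_zero Q) (fun _ => (1 : Γ)) (fun _ _ _ _ => (mul_one _).symm) (fun v _ hs => ?_)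
      (polar_zero_left _ _)).symm
    have hts : TS Q (0 : V) v := ⟨map_zero Q, hs, polar_zero_left _ _⟩
    rw [Lg, Phi_swap C hB hts.symm, ← zero_smul F (0 : V), Phi_smul C hB hts.symm, zero_mul,
      Phi_zero C hB hts.symm, inv_one]
  refine (L_unique C hB hta (fun v => L C hB a (t • v)) (fun v u hv hu => ?_) (fun v hv hs => ?_)
    (by rw [polar_smul_left', hw, mul_zero])).symm
  · have g : ∀ z, polar Q (t • a) z = 0 → polar Q a (t • z) = 0 := fun z hz => by
      rw [polar_smul_right']; rwa [polar_smul_left'] at hz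
    rw [smul_add, L_add C hB ha (g v hv) (g u hu)]
  · have hav : polar Q a v = 0 := by
      rw [polar_smul_left'] at hv; exact (mul_eq_zero.1 hv).resolve_left ht
    have hts : TS Q a v := ⟨ha, hs, hav⟩
    rw [L_sing C hB ha (by rw [polar_smul_right', hav, mul_zero]) (by rw [apply_smul, hs, mul_zero]),
      Lg_smul C hB hts]
    show _ = Phi C (t • a) v (-1)
    rw [Phi_swap C hB (hts.symm.smul t), Phi_smul C hB hts.symm, Phi_swap C hB hts, inv_inv, mul_neg_one]

theorem L_shift {a w : V} (ha : Q a = 0) (hw : polar Q a w = 0) (t : F) :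
    L C hB a (w + t • a) = L C hB a w := by
  have hta : polar Q a (t • a) = 0 := ((TS.self ha).smul t).2.2
  have h1 : L C hB a (t • a) = 1 := by
    rw [L_sing C hB ha hta ((TS.self ha).smul t).2.1, Lg_smul C hB (TS.self ha)]
    obtain ⟨v, u, hv, hu, -, e⟩ := exists_rep C hB (TS.self ha) (-t)
    rw [e, phi, ← C.comm_eq (C.σ_lf (El a v : SpinV Q)) (C.σ_lf (El a u : SpinV Q)),
      commutatorElement_eq_one_iff_commute]
    exact comm_at C hB ha hv.1 hu.1 (C.σ_lf _) (C.σ_lf _)
  rw [L_add C hB ha hw hta, h1, mul_one]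

end

end CfsgLib.Known.SpinMinus
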